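/-
Strongly p-embedded subgroups in the form `kGeneratedCore p 1 P ≤ Y`: control of conjugation inside `P`.
-/
import Mathlib
import Cfsg.Prelude.Def_EvenType
import Cfsg.Agent.Lib.PGroups.Thompson

set_option autoImplicit false
set_option linter.style.haveILetI false

namespace Cfsg.Agent.Lib.FusionEssential

open Cfsg Cfsg.Agent.Lib.PGroups

variable {X : Type*} [Group X] [Finite X] {p : ℕ} [Fact p.Prime]

theorem normalizer_le_of_core {P : Sylow p X} {Y : Subgroup X}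
    (hY : kGeneratedCore p 1 (P : Subgroup X) ≤ Y) {U : Subgroup X} (hUP : U ≤ P) (hU : U ≠ ⊥) :
    Subgroup.normalizer (U : Set X) ≤ Y := by
  have hr : ¬ PRankLE p (1 - 1) U := by
    intro hle
    obtain ⟨k, hk⟩ := IsPGroup.iff_card.mp (P.isPGroup'.to_le hUP)
    have hk0 : k ≠ 0 := fun h => hU (Subgroup.eq_bot_of_card_eq U (by rw [hk, h, pow_zero]))
    obtain ⟨u, hu⟩ := exists_prime_orderOf_dvd_card' (G := U) p (hk ▸ dvd_pow_self p hk0)
    have hc : IsMulCommutative (Subgroup.zpowers u) := inferInstance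
    have := hle (Subgroup.zpowers u) hc fun a ha => by
      obtain ⟨i, rfl⟩ := Subgroup.mem_zpowers_iff.mp ha
      rw [← zpow_natCast (u ^ i), ← zpow_mul, mul_comm, zpow_mul, zpow_natCast, ← hu, pow_orderOf_eq_one,
        one_zpow]
    rw [Nat.card_zpowers, hu] at this
    simp at this
    exact absurd this (not_le.mpr (Fact.out : p.Prime).one_lt)
  refine le_trans ?_ hY
  exact le_iSup (fun Q : {Q : Subgroup X // Q ≤ (P : Subgroup X) ∧ ¬ PRankLE p (1 - 1) Q} =>
    Subgroup.normalizer ((Q : Subgroup X) : Set X)) ⟨U, hUP, hr⟩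

/-- Every Sylow subgroup meeting `P` nontrivially is conjugate to `P` by an element of `Y`. -/
theorem exists_smul_eq_of_meet {P : Sylow p X} {Y : Subgroup X}
    (hY : kGeneratedCore p 1 (P : Subgroup X) ≤ Y) (Q : Sylow p X)
    (hQ : (P : Subgroup X) ⊓ Q ≠ ⊥) : ∃ y ∈ Y, y • P = Q := by
  suffices h : ∀ n, ∀ Q : Sylow p X, Nat.card P - Nat.card ↥((P : Subgroup X) ⊓ Q) < n →
      (P : Subgroup X) ⊓ Q ≠ ⊥ → ∃ y ∈ Y, y • P = Q from h _ Q (Nat.lt_succ_self _) hQ
  intro n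
  induction n with
  | zero => exact fun Q h => absurd h (Nat.not_lt_zero _)
  | succ n ih =>
    intro Q hn hne
    set R := (P : Subgroup X) ⊓ (Q : Subgroup X) with hR
    have hQcard : Nat.card Q = Nat.card P :=
      (Sylow.equiv Q P).toEquiv |> Nat.card_congr
    by_cases hPQ : (P : Subgroup X) ≤ Q
    · exact ⟨1, Y.one_mem, by rw [one_smul]; exact Sylow.ext (Subgroup.eq_of_le_of_card_ge hPQ hQcard.le)⟩
    have hlt : ∀ (T : Sylow p X), R ≤ (T : Subgroup X) → R ≠ (T : Subgroup X) →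
        R < (T : Subgroup X) ⊓ Subgroup.normalizer (R : Set X) := by
      intro T hle hneT
      refine lt_of_le_of_ne (le_inf hle Subgroup.le_normalizer) fun he => ?_
      haveI : Group.IsNilpotent T := T.isPGroup'.isNilpotent
      have h1 : R.subgroupOf (T : Subgroup X) < ⊤ := lt_top_iff_ne_top.2 fun h =>
        hneT (le_antisymm hle (Subgroup.subgroupOf_eq_top.1 h))
      refine (Group.normalizerCondition_of_isNilpotent _ h1).ne ?_
      rw [← Subgroup.subgroupOf_normalizer_eq hle]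
      ext g
      rw [Subgroup.mem_subgroupOf, Subgroup.mem_subgroupOf]
      exact ⟨fun h => Subgroup.le_normalizer h, fun h => he ▸ ⟨g.2, h⟩⟩
    have hA := hlt P inf_le_left (fun h => hPQ (h ▸ inf_le_right))
    have hB := hlt Q inf_le_right (fun h => hPQ (le_of_eq (Subgroup.eq_of_le_of_card_ge
      (h ▸ inf_le_left : (Q : Subgroup X) ≤ P) hQcard.ge).symm))
    set N := Subgroup.normalizer (R : Set X) with hN
    have hNY : N ≤ Y := normalizer_le_of_core hY inf_le_left hne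
    -- a Sylow subgroup `T` of `N` containing `N_P(R)`
    obtain ⟨T, hT⟩ := ((P.isPGroup'.to_le (inf_le_left : (P : Subgroup X) ⊓ N ≤ P)).comap_subtype
      (K := N)).exists_le_sylow
    obtain ⟨T₂, hT₂⟩ := ((Q.isPGroup'.to_le (inf_le_left : (Q : Subgroup X) ⊓ N ≤ Q)).comap_subtype
      (K := N)).exists_le_sylow
    obtain ⟨y, hy⟩ := MulAction.exists_smul_eq N T₂ T
    obtain ⟨P'', hP''⟩ := (T.isPGroup'.map N.subtype).exists_le_sylow
    have h1 : (P : Subgroup X) ⊓ N ≤ (P : Subgroup X) ⊓ P'' := fun z hz =>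
      ⟨hz.1, hP'' ⟨⟨z, hz.2⟩, hT hz, rfl⟩⟩
    have hc1 : Nat.card R < Nat.card ↥((P : Subgroup X) ⊓ P'') :=
      lt_of_lt_of_le (lt_of_le_of_ne (Subgroup.card_le_of_le hA.le)
        fun h => hA.ne (Subgroup.eq_of_le_of_card_ge hA.le h.ge)) (Subgroup.card_le_of_le h1)
    have hle1 : Nat.card R ≤ Nat.card P := Subgroup.card_le_of_le inf_le_left
    have hle2 : Nat.card ↥((P : Subgroup X) ⊓ P'') ≤ Nat.card P := Subgroup.card_le_of_le inf_le_left
    obtain ⟨y', hy'Y, hy'⟩ := ih P'' (by omega) fun h => by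
      rw [h, Subgroup.card_bot] at hc1
      have := Nat.card_pos (α := R); omega
    -- `z := y'⁻¹ y` moves `N_Q(R)` into `P`
    have h2 : ((Q : Subgroup X) ⊓ N).map (MulAut.conj (y'⁻¹ * (y : X))).toMonoidHom ≤
        (P : Subgroup X) ⊓ ((y'⁻¹ * (y : X)) • Q : Sylow p X) := by
      rintro _ ⟨z, hz, rfl⟩
      refine ⟨?_, ⟨z, hz.1, rfl⟩⟩
      have hz2 : (⟨z, hz.2⟩ : N) ∈ (T₂ : Subgroup N) := hT₂ hz
      have hyz : (y : X) * z * (y : X)⁻¹ ∈ (P'' : Subgroup X) := by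
        refine hP'' ⟨y * ⟨z, hz.2⟩ * y⁻¹, ?_, rfl⟩
        rw [← hy]
        exact ⟨_, hz2, rfl⟩
      rw [← hy'] at hyz
      obtain ⟨w, hw, hwz⟩ := hyz
      have : (MulAut.conj (y'⁻¹ * (y : X))).toMonoidHom z = w := by
        change y' * w * y'⁻¹ = (y : X) * z * (y : X)⁻¹ at hwz
        show y'⁻¹ * (y : X) * z * (y'⁻¹ * (y : X))⁻¹ = w
        calc y'⁻¹ * (y : X) * z * (y'⁻¹ * (y : X))⁻¹ = y'⁻¹ * ((y : X) * z * (y : X)⁻¹) * y' := by group
          _ = w := by rw [← hwz]; group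
      rw [this]; exact hw
    have hc2 : Nat.card R < Nat.card ↥((P : Subgroup X) ⊓ ((y'⁻¹ * (y : X)) • Q : Sylow p X)) := by
      refine lt_of_lt_of_le (lt_of_le_of_ne (Subgroup.card_le_of_le hB.le)
        fun h => hB.ne (Subgroup.eq_of_le_of_card_ge hB.le h.ge)) ?_
      rw [← Subgroup.card_map_of_injective (f := (MulAut.conj (y'⁻¹ * (y : X))).toMonoidHom) (MulAut.conj (y'⁻¹ * (y : X))).injective]
      exact Subgroup.card_le_of_le h2
    have hle3 : Nat.card ↥((P : Subgroup X) ⊓ ((y'⁻¹ * (y : X)) • Q : Sylow p X)) ≤ Nat.card P :=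
      Subgroup.card_le_of_le inf_le_left
    obtain ⟨w, hwY, hw⟩ := ih ((y'⁻¹ * (y : X)) • Q) (by omega) fun h => by
      rw [h, Subgroup.card_bot] at hc2
      have := Nat.card_pos (α := R); omega
    refine ⟨(y'⁻¹ * (y : X))⁻¹ * w, Y.mul_mem (Y.inv_mem (Y.mul_mem (Y.inv_mem hy'Y) (hNY y.2))) hwY, ?_⟩
    rw [mul_smul, hw, inv_smul_smul]

/-- If `g` moves a nontrivial element of `P` into `P`, then `g ∈ Y`. -/
theorem mem_of_conj_mem {P : Sylow p X} {Y : Subgroup X}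
    (hY : kGeneratedCore p 1 (P : Subgroup X) ≤ Y) {g u : X} (hu : u ∈ (P : Subgroup X)) (hu1 : u ≠ 1)
    (hgu : g * u * g⁻¹ ∈ (P : Subgroup X)) : g ∈ Y := by
  have hmeet : (P : Subgroup X) ⊓ (g • P : Sylow p X) ≠ ⊥ := by
    intro h
    have : g * u * g⁻¹ ∈ (⊥ : Subgroup X) := h ▸ ⟨hgu, ⟨u, hu, rfl⟩⟩
    exact hu1 (by simpa using this)
  obtain ⟨y, hy, hyP⟩ := exists_smul_eq_of_meet hY _ hmeet
  have hn : y⁻¹ * g ∈ Subgroup.normalizer ((P : Subgroup X) : Set X) := by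
    apply mem_normalizer_of_map_conj_eq
    show ((y⁻¹ * g) • P : Sylow p X).toSubgroup = _
    rw [mul_smul, ← hyP, inv_smul_smul]
  have := normalizer_le_of_core hY le_rfl (fun h => hu1 (by rw [h] at hu; simpa using hu)) hn
  simpa using Y.mul_mem hy this

end Cfsg.Agent.Lib.FusionEssential
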