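/-
For an essential subgroup `Q`, the maps of `F` that do not use `Out_F(Q)` beyond a strongly p-embedded
subgroup form a proper subsystem containing all automizers of subgroups not conjugate to `Q`.
-/
import Mathlib
import Cfsg.Agent.Lib.FusionSystem.Saturation
import Cfsg.Agent.Lib.FusionEssential.StronglyPEmb

set_option autoImplicit false
set_option linter.style.haveILetI false

namespace Cfsg.Agent.Lib.FusionEssential

open Cfsg Cfsg.FusionSystem Cfsg.Agent.Lib.FS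

variable {Ω : Type*} [Group Ω] {S : Subgroup Ω} {F : Cfsg.FusionSystem S} {Q : Subgroup Ω}

/-- A map `N_S(P) → N_S(Q)` of the system carrying `P` onto `Q`. -/
def IsTransport (F : Cfsg.FusionSystem S) (Q P : Subgroup Ω)
    (η : ↥(normalizerIn S P) →* Ω) : Prop :=
  η ∈ F.Hom (normalizerIn S P) ∧ (∀ x, η x ∈ normalizerIn S Q) ∧
    (P.subgroupOf (normalizerIn S P)).map η = Q

/-- `a` is `φ` read through two transports. -/
def Link (Q : Subgroup Ω) {P P' : Subgroup Ω} (φ : P →* Ω) (η : ↥(normalizerIn S P) →* Ω)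
    (η' : ↥(normalizerIn S P') →* Ω) (a : MulAut Q) : Prop :=
  ∀ (x : P) (hx : (x : Ω) ∈ normalizerIn S P) (hx' : φ x ∈ normalizerIn S P') (hq : η ⟨x, hx⟩ ∈ Q),
    ((a ⟨η ⟨x, hx⟩, hq⟩ : Q) : Ω) = η' ⟨φ x, hx'⟩

theorem transport_mem {P : Subgroup Ω} {η : ↥(normalizerIn S P) →* Ω} (hη : IsTransport F Q P η)
    {x : Ω} (hx : x ∈ normalizerIn S P) : η ⟨x, hx⟩ ∈ Q ↔ x ∈ P := by
  constructor
  · intro h
    obtain ⟨z, hz, hze⟩ := hη.2.2.ge h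
    have := F.injective_of_mem hη.1 hze
    subst this
    exact Subgroup.mem_subgroupOf.1 hz
  · intro h
    exact hη.2.2.le ⟨⟨x, hx⟩, Subgroup.mem_subgroupOf.2 h, rfl⟩

theorem exists_transport [Finite S] {p : ℕ} [Fact p.Prime] (hS : IsPGroup p S) (hF : F.IsSaturated p)
    (hQ : F.IsFullyNormalized Q) {P : Subgroup Ω} (h : F.IsConj P Q) :
    ∃ η, IsTransport F Q P η := by
  obtain ⟨η, h1, h2, h3⟩ := exists_normalizer_map hS hF hQ h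
  exact ⟨η, h1, h2, h3⟩

theorem exists_link {P P' : Subgroup Ω} {φ : P →* Ω} (hφ : φ ∈ F.Hom P) (hr : φ.range = P')
    {η : ↥(normalizerIn S P) →* Ω} (hη : IsTransport F Q P η)
    {η' : ↥(normalizerIn S P') →* Ω} (hη' : IsTransport F Q P' η') :
    ∃ a ∈ F.autGroup Q, Link Q φ η η' a := by
  have hP : P ≤ normalizerIn S P := le_normalizerIn (src_le hφ)
  have hP' : P' ≤ normalizerIn S P' := le_normalizerIn (hr ▸ range_le_base hφ)
  have hr1 : (η.comp (Subgroup.inclusion hP)).range = Q := by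
    rw [← map_subgroupOf_eq_range hP]; exact hη.2.2
  obtain ⟨ψ, hψ, hψr, hψl, -⟩ := exists_inv (restrict_mem hη.1 hP) hr1
  obtain ⟨χ, hχ, heχ⟩ := exists_comp hψ hφ fun y => hψr.le ⟨y, rfl⟩
  obtain ⟨τ, hτ, heτ⟩ := exists_comp hχ hη'.1 fun y => hP' (hr.le ⟨_, (heχ y).symm⟩)
  have hτQ : τ.range = Q := by
    ext z
    constructor
    · rintro ⟨y, rfl⟩
      rw [heτ]
      exact (transport_mem hη' _).2 (hr.le ⟨_, (heχ y).symm⟩)
    · intro hz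
      obtain ⟨w, hw, rfl⟩ := hη'.2.2.ge hz
      obtain ⟨x, hx⟩ := hr.ge (Subgroup.mem_subgroupOf.1 hw)
      refine ⟨⟨η ⟨x, hP x.2⟩, (transport_mem hη _).2 x.2⟩, ?_⟩
      rw [heτ]
      congr 1
      apply Subtype.ext
      show χ _ = (w : Ω)
      rw [heχ, ← hx]
      congr 1
      exact Subtype.ext (hψl x _)
  refine ⟨homEquiv hτ hτQ, homEquiv_mem_autGroup hτ hτQ, fun x hx hx' hq => ?_⟩
  rw [homEquiv_coe, heτ]
  congr 1
  apply Subtype.ext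
  show χ _ = φ x
  rw [heχ]
  congr 1
  exact Subtype.ext (hψl x _)

/-- `φ` only involves elements of `M`. -/
def Good (F : Cfsg.FusionSystem S) (Q : Subgroup Ω) (M : Set (MulAut Q)) {P : Subgroup Ω} (φ : P →* Ω) :
    Prop :=
  ∀ (η : ↥(normalizerIn S P) →* Ω), IsTransport F Q P η →
    ∀ (η' : ↥(normalizerIn S φ.range) →* Ω), IsTransport F Q φ.range η' →
      ∀ a ∈ F.autGroup Q, Link Q φ η η' a → a ∈ M

theorem link_unique {P P' : Subgroup Ω} {φ : P →* Ω} (hP : P ≤ S) (hφ : ∀ x, φ x ∈ P') (hP' : P' ≤ S)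
    {η : ↥(normalizerIn S P) →* Ω} (hη : IsTransport F Q P η)
    {η' : ↥(normalizerIn S P') →* Ω} {a b : MulAut Q} (ha : Link Q φ η η' a) (hb : Link Q φ η η' b) :
    a = b := by
  ext ⟨y, hy⟩
  obtain ⟨z, hz, hze⟩ := hη.2.2.ge hy
  subst hze
  exact (ha ⟨z, Subgroup.mem_subgroupOf.1 hz⟩ z.2 (le_normalizerIn hP' (hφ _)) hy).trans
    (hb ⟨z, Subgroup.mem_subgroupOf.1 hz⟩ z.2 (le_normalizerIn hP' (hφ _)) hy).symm

theorem Good.apply {M : Set (MulAut Q)} {P P' : Subgroup Ω} {φ : P →* Ω} (hg : Good F Q M φ)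
    (hr : φ.range = P') {η : ↥(normalizerIn S P) →* Ω} (hη : IsTransport F Q P η)
    {η' : ↥(normalizerIn S P') →* Ω} (hη' : IsTransport F Q P' η') {a : MulAut Q}
    (ha : a ∈ F.autGroup Q) (hl : Link Q φ η η' a) : a ∈ M := by
  subst hr
  exact hg η hη η' hη' a ha hl

theorem link_inv {P P' R : Subgroup Ω} (hR : R = P) {φ : P →* Ω} {ψ : P' →* Ω}
    (hφP' : ∀ x, φ x ∈ P') (hψl : ∀ (x : P) (h : φ x ∈ P'), ψ ⟨φ x, h⟩ = x)
    {η : ↥(normalizerIn S P') →* Ω} (hη : IsTransport F Q P' η)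
    {η' : ↥(normalizerIn S R) →* Ω} (hη' : IsTransport F Q R η') {a : MulAut Q}
    (hl : Link Q ψ η η' a) :
    ∃ η₀ : ↥(normalizerIn S P) →* Ω, IsTransport F Q P η₀ ∧ Link Q φ η₀ η a⁻¹ := by
  subst hR
  refine ⟨η', hη', fun x hx hx' hq => ?_⟩
  have hq' : η ⟨φ x, hx'⟩ ∈ Q := (transport_mem hη _).2 (hφP' x)
  have := hl ⟨φ x, hφP' x⟩ hx' (by rw [hψl x]; exact hx) hq'
  simp only [hψl x] at this
  have e : a ⟨η ⟨φ x, hx'⟩, hq'⟩ = ⟨η' ⟨x, hx⟩, hq⟩ := Subtype.ext this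
  rw [← e, MulAut.inv_apply_self]

/-- Data attached to an essential subgroup. -/
theorem exists_data [Finite S] {p : ℕ} [Fact p.Prime] (hS : IsPGroup p S) (hF : F.IsSaturated p)
    (hQ : F.IsEssential p Q) :
    ∃ M : Subgroup (MulAut Q), (∃ a ∈ F.autGroup Q, a ∉ M) ∧ autInducedBy S Q ≤ M ∧
      (∀ a ∈ F.autGroup Q, ∀ u ∈ autInducedBy S Q, u ∉ Inn Q →
        a * u * a⁻¹ ∈ autInducedBy S Q → a ∈ M) ∧ Q ≠ S := by
  obtain ⟨hc, hn, hN, Y, hpX, hY1, P, hY⟩ := hQ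
  haveI := hN
  haveI : Finite Q := finite_sub hn.1
  obtain ⟨R, hR⟩ := (fullyAutomized_of_fullyNormalized hS hF hn).2
  let π := QuotientGroup.mk' ((Inn Q).subgroupOf (F.autGroup Q))
  have hπs : Function.Surjective π := QuotientGroup.mk'_surjective _
  obtain ⟨x, hx⟩ := MulAction.exists_smul_eq (↥(F.autGroup Q) ⧸ (Inn Q).subgroupOf (F.autGroup Q))
    (R.mapSurjective hπs) P
  let ρ : ↥(F.autGroup Q) →* ↥(F.autGroup Q) ⧸ (Inn Q).subgroupOf (F.autGroup Q) :=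
    (MulAut.conj x).toMonoidHom.comp π
  have hρR : ∀ a : F.autGroup Q, (a : MulAut Q) ∈ autInducedBy S Q → ρ a ∈ (P : Subgroup _) := by
    intro a ha
    rw [← hx]
    refine ⟨π a, ⟨a, ?_, rfl⟩, rfl⟩
    show a ∈ (R : Subgroup (F.autGroup Q))
    rw [hR]; exact Subgroup.mem_subgroupOf.2 ha
  have hρ1 : ∀ a : F.autGroup Q, ρ a = 1 ↔ (a : MulAut Q) ∈ Inn Q := by
    intro a
    show (MulAut.conj x) (π a) = 1 ↔ _
    rw [map_eq_one_iff _ (MulAut.conj x).injective]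
    exact (QuotientGroup.eq_one_iff a).trans Subgroup.mem_subgroupOf
  have hρs : Function.Surjective ρ := (MulAut.conj x).surjective.comp hπs
  have hPne : (P : Subgroup (↥(F.autGroup Q) ⧸ (Inn Q).subgroupOf (F.autGroup Q))) ≠ ⊥ := P.ne_bot_of_dvd_card hpX
  have hPY := Subgroup.le_normalizer.trans (normalizer_le_of_core hY le_rfl hPne)
  refine ⟨(Y.comap ρ).map (F.autGroup Q).subtype, ?_, ?_, ?_, ?_⟩
  · obtain ⟨y, hy⟩ := SetLike.exists_not_mem_of_ne_top Y hY1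
    obtain ⟨a, rfl⟩ := hρs y
    refine ⟨a, a.2, ?_⟩
    rintro ⟨b, hb, hba⟩
    exact hy ((Subtype.ext hba : b = a) ▸ hb)
  · intro a ha
    exact ⟨⟨a, autInducedBy_le_autGroup F hn.1 ha⟩, hPY (hρR _ ha), rfl⟩
  · intro a ha u hu hui hau
    have huA := autInducedBy_le_autGroup F hn.1 hu
    have hne : ρ ⟨u, huA⟩ ≠ 1 := fun h => hui ((hρ1 _).1 h)
    refine ⟨⟨a, ha⟩, ?_, rfl⟩
    refine mem_of_conj_mem hY (hρR ⟨u, huA⟩ hu) hne ?_
    rw [← map_inv, ← map_mul, ← map_mul]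
    exact hρR _ hau
  · intro hQS
    apply hPne
    rw [eq_bot_iff, ← hx]
    rintro _ ⟨_, ⟨a, ha, rfl⟩, rfl⟩
    have ha' : a ∈ (R : Subgroup (F.autGroup Q)) := ha
    rw [hR, Subgroup.mem_subgroupOf, mem_autInducedBy] at ha'
    obtain ⟨g, hg, hga⟩ := ha'
    refine Subgroup.mem_bot.2 ((hρ1 a).2 ⟨⟨g, hQS ▸ hg⟩, MulEquiv.ext fun y => Subtype.ext ?_⟩)
    exact (hga y).symm

section
variable [Finite S] {p : ℕ} [Fact p.Prime]

/-- A map extending to a properly larger subgroup is good. -/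
theorem good_of_extends (hS : IsPGroup p S) (hc : F.IsCentric Q)
    {M : Subgroup (MulAut Q)}
    (hM : ∀ a ∈ F.autGroup Q, ∀ u ∈ autInducedBy S Q, u ∉ Inn Q →
      a * u * a⁻¹ ∈ autInducedBy S Q → a ∈ M)
    {P W : Subgroup Ω} (hPW : P < W) {φ : P →* Ω} {ψ : W →* Ω} (hψ : ψ ∈ F.Hom W)
    (he : ∀ x : P, φ x = ψ ⟨x, hPW.le x.2⟩) : Good F Q M φ := by
  intro η hη η' hη' a ha hl
  have hW : IsPGroup p W := isPGroup_of_le hS (src_le hψ)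
  haveI := finite_sub (src_le hψ)
  haveI : Group.IsNilpotent W := hW.isNilpotent
  have h1 : P.subgroupOf W < ⊤ := lt_top_iff_ne_top.2 fun h =>
    hPW.not_ge (Subgroup.subgroupOf_eq_top.1 h)
  obtain ⟨z, hzN, hzP⟩ := SetLike.exists_of_lt (Group.normalizerCondition_of_isNilpotent _ h1)
  rw [← Subgroup.subgroupOf_normalizer_eq hPW.le, Subgroup.mem_subgroupOf] at hzN
  have hzS : (z : Ω) ∈ normalizerIn S P := ⟨src_le hψ z.2, hzN⟩
  have hz' : ψ z ∈ normalizerIn S φ.range := by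
    haveI : Finite φ.range := finite_sub (by rintro _ ⟨w, rfl⟩; rw [he]; exact apply_mem hψ _)
    exact ⟨apply_mem hψ z, ext_apply_mem_normalizer hPW.le (fun x hP hR => (he ⟨x, hP⟩).symm) rfl z hzN⟩
  have hgN : η ⟨z, hzS⟩ ∈ Subgroup.normalizer (Q : Set Ω) := (hη.2.1 _).2
  let u : MulAut Q := Q.normalizerMonoidHom ⟨_, hgN⟩
  have hu : u ∈ autInducedBy S Q := mem_autInducedBy.2 ⟨_, (hη.2.1 _).1, fun _ => rfl⟩
  have hui : u ∉ Inn Q := by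
    rintro ⟨q, hq⟩
    have hcen : (q : Ω)⁻¹ * η ⟨z, hzS⟩ ∈ centralizerIn S Q := by
      have hQS : Q ≤ S := hc.1
      refine mem_centralizerIn'.2 ⟨S.mul_mem (S.inv_mem (hQS q.2)) (hη.2.1 _).1, fun y hy => ?_⟩
      have h2 : (q : Ω) * y * (q : Ω)⁻¹ = η ⟨z, hzS⟩ * y * (η ⟨z, hzS⟩)⁻¹ :=
        congrArg (fun f : MulAut Q => ((f ⟨y, hy⟩ : Q) : Ω)) hq
      calc (q : Ω)⁻¹ * η ⟨z, hzS⟩ * y * ((q : Ω)⁻¹ * η ⟨z, hzS⟩)⁻¹
          = (q : Ω)⁻¹ * (η ⟨z, hzS⟩ * y * (η ⟨z, hzS⟩)⁻¹) * q := by group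
        _ = (q : Ω)⁻¹ * ((q : Ω) * y * (q : Ω)⁻¹) * q := by rw [← h2]
        _ = y := by group
    have h3 := hc.2 Q (isConj_refl F hc.1) hcen
    have h4 : η ⟨z, hzS⟩ ∈ Q := by
      have := Q.mul_mem q.2 h3
      simpa using this
    exact hzP (Subgroup.mem_subgroupOf.2 ((transport_mem hη hzS).1 h4))
  refine hM a ha u hu hui (mem_autInducedBy.2 ⟨η' ⟨ψ z, hz'⟩, (hη'.2.1 _).1, fun y => ?_⟩)
  obtain ⟨y₀, rfl⟩ : ∃ y₀, a y₀ = y := a.surjective y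
  obtain ⟨w, hw, hwy⟩ := hη.2.2.ge y₀.2
  have hwP : (w : Ω) ∈ P := Subgroup.mem_subgroupOf.1 hw
  have hmemP : (z : Ω) * w * (z : Ω)⁻¹ ∈ P := conj_mem_of_normalizer hzN hwP
  have hx0 : φ ⟨w, hwP⟩ ∈ normalizerIn S φ.range :=
    le_normalizerIn (by rintro _ ⟨t, rfl⟩; rw [he]; exact apply_mem hψ _) ⟨_, rfl⟩
  have hx1 : φ ⟨_, hmemP⟩ ∈ normalizerIn S φ.range :=
    le_normalizerIn (by rintro _ ⟨t, rfl⟩; rw [he]; exact apply_mem hψ _) ⟨_, rfl⟩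
  have hqw : η ⟨w, w.2⟩ ∈ Q := (transport_mem hη _).2 hwP
  have hwN : (z : Ω) * w * (z : Ω)⁻¹ ∈ normalizerIn S P := Subgroup.mul_mem _ (Subgroup.mul_mem _ hzS w.2) (Subgroup.inv_mem _ hzS)
  have hq1 : η ⟨_, hwN⟩ ∈ Q := (transport_mem hη _).2 hmemP
  have e0 := hl ⟨w, hwP⟩ w.2 hx0 hqw
  have e1 := hl ⟨_, hmemP⟩ hwN hx1 hq1
  have hy₀ : y₀ = ⟨η ⟨w, w.2⟩, hqw⟩ := Subtype.ext hwy.symm
  have hval : φ ⟨_, hmemP⟩ = ψ z * φ ⟨w, hwP⟩ * (ψ z)⁻¹ := by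
    rw [he, he, ← map_inv, ← map_mul, ← map_mul]
    rfl
  rw [MulAut.mul_apply, MulAut.mul_apply, MulAut.inv_apply_self, hy₀, e0]
  have e2 : u ⟨η ⟨w, w.2⟩, hqw⟩ = ⟨η ⟨_, hwN⟩, hq1⟩ := by
    apply Subtype.ext
    show η ⟨z, hzS⟩ * η ⟨w, w.2⟩ * (η ⟨z, hzS⟩)⁻¹ = _
    rw [← map_inv, ← map_mul, ← map_mul]
    rfl
  rw [e2, e1, ← map_inv, ← map_mul, ← map_mul]
  congr 1
  exact Subtype.ext hval

/-- The proper subsystem avoiding `Out_F(Q)`. -/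
theorem exists_proper_of_essential (hS : IsPGroup p S) (hF : F.IsSaturated p) (hQ : F.IsEssential p Q) :
    ∃ E : Cfsg.FusionSystem S, (∀ P : Subgroup Ω, ¬ F.IsConj P Q → F.Hom P ⊆ E.Hom P) ∧
      E ≤ F ∧ ¬ F ≤ E := by
  obtain ⟨M, ⟨a₀, ha₀, ha₀M⟩, -, hM, hQS⟩ := exists_data hS hF hQ
  have hc := hQ.1
  have hn := hQ.2.1
  have restrict_good : ∀ {P W : Subgroup Ω} {φ : P →* Ω} {ψ : W →* Ω}, ψ ∈ F.Hom W →
      (F.IsConj W Q → Good F Q M ψ) → ∀ hPW : P ≤ W, (∀ x : P, φ x = ψ ⟨x, hPW x.2⟩) →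
      Good F Q M φ := by
    intro P W φ ψ hψ hg hPW he
    rcases eq_or_lt_of_le hPW with h | h
    · subst h
      have e : φ = ψ := MonoidHom.ext fun x => he x
      subst e
      intro η hη η' hη' a ha hl
      refine hg ?_ η hη η' hη' a ha hl
      have hP' : P ≤ normalizerIn S P := le_normalizerIn (src_le hψ)
      exact ⟨_, restrict_mem hη.1 hP', by rw [← map_subgroupOf_eq_range hP']; exact hη.2.2⟩
    · exact good_of_extends hS hc hM h hψ he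
  refine ⟨⟨fun P => {φ | φ ∈ F.Hom P ∧ (F.IsConj P Q → Good F Q M φ)}, fun h => F.le_of_mem h.1,
    fun h => F.injective_of_mem h.1, ?_, ?_, ?_⟩, fun P hP φ hφ => ⟨hφ, fun h => absurd h hP⟩,
    fun P φ hφ => hφ.1, ?_⟩
  · intro P g hP hg
    refine ⟨F.conj_mem hP hg, fun hPQ => ?_⟩
    rcases eq_or_lt_of_le hP with h | h
    · subst h
      exact absurd (Subgroup.eq_of_le_of_card_ge hn.1 (isConj_card hPQ).ge) hQS
    · exact good_of_extends hS hc hM h (F.conj_mem le_rfl hg) fun x => rfl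
  · rintro P W φ ψ ⟨hφ, hφg⟩ ⟨hψ, hψg⟩ h
    refine ⟨F.comp_mem hφ hψ h, fun hPQ => ?_⟩
    intro η hη η' hη' a ha hl
    have hP₂ : F.IsConj φ.range Q := isConj_trans (isConj_symm ⟨φ, hφ, rfl⟩) hPQ
    obtain ⟨η₂, hη₂⟩ := exists_transport hS hF hn hP₂
    obtain ⟨a₁, ha₁, hl₁⟩ := exists_link hφ rfl hη hη₂
    obtain ⟨ψ₂, hψ₂, heψ₂⟩ := exists_restrict hψ (P := φ.range) (by rintro _ ⟨x, rfl⟩; exact h x)
    have hr2 : ψ₂.range = (ψ.comp (φ.codRestrict W h)).range := by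
      ext y
      constructor
      · rintro ⟨⟨_, x, rfl⟩, rfl⟩; exact ⟨x, (heψ₂ ⟨φ x, x, rfl⟩).symm⟩
      · rintro ⟨x, rfl⟩; exact ⟨⟨φ x, x, rfl⟩, heψ₂ _⟩
    have hg2 := restrict_good hψ hψg (by rintro _ ⟨x, rfl⟩; exact h x) heψ₂
    obtain ⟨a₂, ha₂, hl₂⟩ := exists_link hψ₂ hr2 hη₂ hη'
    have ha₁M := hφg hPQ η hη η₂ hη₂ a₁ ha₁ hl₁
    have ha₂M : a₂ ∈ M := hg2.apply hr2 hη₂ hη' ha₂ hl₂
    have : a = a₂ * a₁ := by
      refine link_unique (P' := (ψ.comp (φ.codRestrict W h)).range) (src_le hφ) (fun x => ⟨x, rfl⟩) (range_le_base (F.comp_mem hφ hψ h)) hη hl ?_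
      intro x hx hx' hq
      have hx2 : φ x ∈ normalizerIn S φ.range := le_normalizerIn (range_le_base hφ) ⟨x, rfl⟩
      have e1 := hl₁ x hx hx2 hq
      have hq2 : η₂ ⟨φ x, hx2⟩ ∈ Q := (transport_mem hη₂ _).2 ⟨x, rfl⟩
      have e1' : a₁ ⟨η ⟨x, hx⟩, hq⟩ = ⟨η₂ ⟨φ x, hx2⟩, hq2⟩ := Subtype.ext e1
      rw [MulAut.mul_apply, e1']
      have hx3 : ψ₂ ⟨φ x, x, rfl⟩ ∈ normalizerIn S (ψ.comp (φ.codRestrict W h)).range := by
        rw [heψ₂]; exact hx'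
      rw [hl₂ ⟨φ x, x, rfl⟩ hx2 hx3 hq2]
      congr 1
      exact Subtype.ext (heψ₂ _)
    exact this ▸ M.mul_mem ha₂M ha₁M
  · rintro P φ ⟨hφ, hφg⟩
    obtain ⟨ψ, hψ, hψr, hψl, hψrr⟩ := exists_inv hφ rfl
    refine ⟨ψ, ⟨hψ, fun hPQ => ?_⟩, fun x => hψl x _⟩
    intro η hη η' hη' a ha hl
    obtain ⟨η₀, hη₀, hl'⟩ := link_inv (φ := φ) (P' := φ.range) hψr (fun x => ⟨x, rfl⟩) hψl hη hη' hl
    have := hφg (isConj_trans ⟨φ, hφ, rfl⟩ hPQ) η₀ hη₀ η hη a⁻¹ (inv_mem ha) hl'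
    simpa using M.inv_mem this
  · intro hle
    obtain ⟨φ, hφ, hr, hφa⟩ := exists_hom_of_aut hn.1 ha₀
    have hg := (hle Q hφ).2 (isConj_refl F hn.1)
    have hid : IsTransport F Q Q (normalizerIn S Q).subtype := by
      refine ⟨subtype_mem F (normalizerIn_le Q), fun x => x.2, ?_⟩
      rw [map_subgroupOf_eq_range (le_normalizerIn hn.1)]
      exact Q.range_subtype
    refine ha₀M ?_
    revert hg
    unfold Good
    rw [hr]
    intro hg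
    exact hg _ hid _ hid a₀ ha₀ fun x hx hx' hq => (hφa x).symm

end

end Cfsg.Agent.Lib.FusionEssential
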