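import Cfsg.Agent.Lib.FusionEssential.Transport
import Cfsg.Agent.Lib.FusionSystem.FactorGroup

/-!
# Realized systems are isomorphic to the fusion systems of the groups
-/

set_option autoImplicit false

namespace Cfsg.Agent.Lib.FusionEssential.Transport

open Cfsg Cfsg.FusionSystem
open Cfsg.Agent.Lib

/-- A system realized by `ι` is isomorphic along `ι` to the fusion system of the image. -/
theorem iso_of_realized {Ω : Type*} [Group Ω] {S : Subgroup Ω} {F : FusionSystem S} {G : Type*} [Group G]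
    {ι : S →* G} (h : F.IsRealizedBy ι) {T : Subgroup G} (hT : T = ι.range) :
    Iso ι F (groupFusionSystem T) := by
  subst hT
  refine ⟨h.1, ⟨fun s => ⟨s, rfl⟩, fun P φ hφ => ?_⟩, rfl, fun P' hP' φ' hφ' => ?_⟩
  · have hP := FS.src_le hφ
    obtain ⟨g, hg⟩ := (h.2 P hP φ (FS.apply_mem hφ)).1 hφ
    have hval : ∀ y ∈ imageAlong ι P, g * y * g⁻¹ ∈ ι.range := by
      rintro _ ⟨s, hs, rfl⟩
      exact ⟨_, hg ⟨s, hs⟩⟩
    refine ⟨conjHom _ g, FS.conjHom_mem_group (by rintro _ ⟨s, -, rfl⟩; exact ⟨s, rfl⟩) hval, hP,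
      FS.apply_mem hφ, fun x => ⟨⟨x, hP x.2⟩, x.2, rfl⟩, fun x => (hg x).symm⟩
  · obtain ⟨-, hv, g, hg⟩ := FS.mem_groupHom.1 hφ'
    have hx : ∀ x : preimageAlong ι P', ι ⟨x, FS.preimageAlong_le ι P' x.2⟩ ∈ P' := fun x =>
      (FS.mem_preimageAlong.1 x.2).2
    let e := MonoidHom.ofInjective h.1
    let f : preimageAlong ι P' →* S := e.symm.toMonoidHom.comp ((φ'.comp (({
        toFun := fun x => (⟨_, hx x⟩ : P')
        map_one' := Subtype.ext (map_one ι)
        map_mul' := fun x y => Subtype.ext (map_mul ι ⟨x, FS.preimageAlong_le ι P' x.2⟩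
          ⟨y, FS.preimageAlong_le ι P' y.2⟩) } : preimageAlong ι P' →* P'))).codRestrict ι.range
      fun x => hv _)
    have hf : ∀ x, ι (f x) = φ' ⟨_, hx x⟩ := fun x => congrArg Subtype.val (e.apply_symm_apply _)
    have hφ : S.subtype.comp f ∈ F.Hom (preimageAlong ι P') :=
      (h.2 _ (FS.preimageAlong_le ι P') _ fun x => (f x).2).2 ⟨g, fun x => (hf x).trans (hg _)⟩
    exact ⟨_, hφ, FS.inducedAlong_preimage hφ fun s hs =>
      (hf ⟨s, FS.mem_preimageAlong.2 ⟨s.2, hs⟩⟩).symm⟩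

end Cfsg.Agent.Lib.FusionEssential.Transport

namespace Cfsg.Agent.Lib.FusionEssential.Transport

open Cfsg Cfsg.FusionSystem
open Cfsg.Agent.Lib

/-- A system isomorphic to the fusion system of a group is realized by it. -/
theorem realized_of_iso {Ω : Type*} [Group Ω] {S : Subgroup Ω} {F : FusionSystem S} {G : Type*} [Group G]
    {ι : S →* G} {T : Subgroup G} (h : Iso ι F (groupFusionSystem T)) : F.IsRealizedBy ι := by
  refine ⟨h.1, fun P hP φ hv => ⟨fun hφ => ?_, fun ⟨g, hg⟩ => ?_⟩⟩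
  · obtain ⟨φ', hφ', he⟩ := push h.2.1 hφ rfl
    obtain ⟨-, -, g, hg⟩ := FS.mem_groupHom.1 hφ'
    exact ⟨g, fun x => (he x ⟨⟨x, hP x.2⟩, x.2, rfl⟩).symm.trans (hg _)⟩
  · have hval : ∀ y ∈ imageAlong ι P, g * y * g⁻¹ ∈ T := by
      rintro _ ⟨s, hs, rfl⟩
      exact (hg ⟨s, hs⟩) ▸ h.mem_base _
    have hmem := FS.conjHom_mem_group (show imageAlong ι P ≤ T by
      rintro _ ⟨s, -, rfl⟩; exact h.mem_base s) hval
    obtain ⟨ψ, hψ, he⟩ := pull h.2 hmem (preimage_image h.1 hP).symm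
    refine FS.hom_congr hψ fun x => ?_
    have h1 : ι ⟨φ x, hv x⟩ = ι ⟨ψ x, FS.apply_mem hψ x⟩ :=
      (hg x).trans (he x ⟨⟨x, hP x.2⟩, x.2, rfl⟩)
    exact congrArg Subtype.val (h.1 h1)

end Cfsg.Agent.Lib.FusionEssential.Transport
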