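import Cfsg.Agent.Lib.FusionSystem.NormalFacts

/-!
# Saturated fusion systems over abelian groups
-/

set_option autoImplicit false

namespace Cfsg.Agent.Lib.FusionEssential.Abelian

open Cfsg Cfsg.FusionSystem
open Cfsg.Agent.Lib

variable {Ω : Type*} [Group Ω] {S : Subgroup Ω} {F : FusionSystem S} {p : ℕ} [Fact p.Prime]

/-- Over an abelian group every map is the restriction of an automorphism of the base. -/
theorem exists_aut_extend [Finite S] (hS : IsPGroup p S) (hF : F.IsSaturated p)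
    (hab : ∀ x ∈ S, ∀ y ∈ S, x * y = y * x) {P : Subgroup Ω} {φ : P →* Ω} (hφ : φ ∈ F.Hom P) :
    ∃ α ∈ F.autGroup S, ∀ x : P, ((α (Subgroup.inclusion (FS.src_le hφ) x) : S) : Ω) = φ x := by
  haveI : IsMulCommutative S := ⟨⟨fun a b => Subtype.ext (hab a a.2 b b.2)⟩⟩
  have hN : F.IsNormal S :=
    FS.isNormal_of_abelian hS hF ⟨le_rfl, fun R _ ψ hψ x => FS.apply_mem hψ x⟩
  exact (FS.isNormal_iff_extend hS hF le_rfl).1 hN P (FS.src_le hφ) φ hφ

/-- Over an abelian group the automiser of the base is a `p'`-group. -/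
theorem not_dvd_card_autGroup [Finite S] (hS : IsPGroup p S) (hF : F.IsSaturated p)
    (hab : ∀ x ∈ S, ∀ y ∈ S, x * y = y * x) : ¬ p ∣ Nat.card (F.autGroup S) := by
  obtain ⟨R, hR⟩ := (FS.isFullyAutomized_base hS hF).2
  have hbot : (autInducedBy S S).subgroupOf (F.autGroup S) = ⊥ := by
    refine eq_bot_iff.2 fun α hα => ?_
    obtain ⟨g, hg, he⟩ := FS.mem_autInducedBy.1 (Subgroup.mem_subgroupOf.1 hα)
    refine Subgroup.mem_bot.2 (Subtype.ext (MulEquiv.ext fun x => Subtype.ext ?_))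
    rw [he x, hab g hg x x.2, mul_inv_cancel_right]
    rfl
  have h := R.not_dvd_index
  rwa [hR, hbot, Subgroup.index_bot] at h

/-- Maps of the inner system of an abelian group are inclusions. -/
theorem inner_apply {T : Subgroup Ω} (hab : ∀ x ∈ T, ∀ y ∈ T, x * y = y * x) {P : Subgroup Ω}
    {φ : P →* Ω} (hφ : φ ∈ (Cfsg.innerFusionSystem T).Hom P) (x : P) : φ x = (x : Ω) := by
  obtain ⟨hP, g, hg, he⟩ := hφ
  rw [he, hab g hg x (hP x.2), mul_inv_cancel_right]

/-- A map that fixes its source pointwise is in every fusion system. -/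
theorem mem_of_fixed {T : Subgroup Ω} (E : FusionSystem T) {P : Subgroup Ω} (hP : P ≤ T)
    {φ : P →* Ω} (he : ∀ x : P, φ x = (x : Ω)) : φ ∈ E.Hom P :=
  FS.hom_congr (FS.subtype_mem E hP) he

/-- If every automorphism of the abelian base in the system is trivial, the system is inner. -/
theorem hom_eq_inner [Finite S] (hS : IsPGroup p S) (hF : F.IsSaturated p)
    (hab : ∀ x ∈ S, ∀ y ∈ S, x * y = y * x) (h : ∀ α ∈ F.autGroup S, α = 1) (P : Subgroup Ω) :
    F.Hom P = (Cfsg.innerFusionSystem S).Hom P := by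
  ext φ
  constructor
  · intro hφ
    obtain ⟨α, hα, he⟩ := exists_aut_extend hS hF hab hφ
    refine mem_of_fixed _ (FS.src_le hφ) fun x => ?_
    rw [← he x, h α hα]
    rfl
  · intro hφ
    exact mem_of_fixed _ hφ.1 (inner_apply hab hφ)

end Cfsg.Agent.Lib.FusionEssential.Abelian
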