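/-
Saturated subsystems over the same base: maps are determined on centric subgroups.
-/
import Cfsg.Prelude.Def_FusionSystem
import Cfsg.Agent.Lib.FusionAlperin.Agree
import Cfsg.Agent.Lib.FusionP3.Induction

set_option autoImplicit false
set_option linter.style.haveILetI false

namespace Cfsg.Agent.Lib.FusionEssential.Centric

open Cfsg Cfsg.FusionSystem Cfsg.Agent.Lib.FS

variable {Ω : Type*} [Group Ω] {S : Subgroup Ω} {F F' : FusionSystem S}

theorem isCentric_of_le (hle : F' ≤ F) {Q : Subgroup Ω} (hQ : F.IsCentric Q) : F'.IsCentric Q :=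
  ⟨hQ.1, fun R ⟨φ, hφ, hR⟩ => hQ.2 R ⟨φ, hle Q hφ, hR⟩⟩

theorem isCentric_overgroup {Q R : Subgroup Ω} (hQ : F.IsCentric Q) (hQR : Q ≤ R) (hR : R ≤ S) :
    F.IsCentric R := by
  refine ⟨hR, ?_⟩
  rintro _ ⟨χ, hχ, rfl⟩
  have hconj : F.IsConj Q ((Q.subgroupOf R).map χ) :=
    ⟨_, restrict_mem hχ hQR, (map_subgroupOf_eq_range hQR χ).symm⟩
  refine le_trans (le_trans (centralizerIn_anti ?_) (hQ.2 _ hconj)) ?_ <;>
    (rintro _ ⟨y, -, rfl⟩; exact ⟨y, rfl⟩)

theorem fullyCentralized_of_centric [Finite S] {Q : Subgroup Ω} (hQ : F.IsCentric Q) :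
    F.IsFullyCentralized Q := by
  refine ⟨hQ.1, fun R hR => ?_⟩
  have hC := hQ.2 R hR
  obtain ⟨φ, hφ, hRe⟩ := isConj_symm hR
  haveI : Finite (centralizerIn S Q) := finite_sub (centralizerIn_le Q)
  refine Nat.card_le_card_of_injective (fun c : centralizerIn S R =>
    (⟨φ ⟨c, hC c.2⟩, ⟨apply_mem hφ _, ?_⟩⟩ : centralizerIn S Q)) fun a b h => ?_
  · intro y hy
    obtain ⟨x, rfl⟩ := hRe.ge hy
    rw [← map_mul, ← map_mul]
    exact congrArg φ (Subtype.ext (c.2.2 x x.2))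
  · exact Subtype.ext (congrArg (fun w : R => (w : Ω)) (F.injective_of_mem hφ (congrArg Subtype.val h)))

variable [Finite S] {p : ℕ} [Fact p.Prime]

/-- A map of `F` whose restriction to a centric subgroup lies in the saturated subsystem `F'` lies in `F'`. -/
theorem mem_of_restrict_centric (hS : IsPGroup p S) (hF : F.IsSaturated p) (hF' : F'.IsSaturated p)
    (hle : F' ≤ F) {Q R : Subgroup Ω} (hQ : F.IsCentric Q) (hQR : Q ≤ R) {ψ : R →* Ω} (hψ : ψ ∈ F.Hom R)
    {χ : Q →* Ω} (hχ : χ ∈ F'.Hom Q) (he : ∀ x : Q, χ x = ψ ⟨x, hQR x.2⟩) : ψ ∈ F'.Hom R := by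
  suffices H : ∀ n (Q : Subgroup Ω) (hQR : Q ≤ R), Nat.card R - Nat.card Q < n → F.IsCentric Q →
      ∀ χ : Q →* Ω, χ ∈ F'.Hom Q → (∀ x : Q, χ x = ψ ⟨x, hQR x.2⟩) → ψ ∈ F'.Hom R from
    H _ Q hQR (Nat.lt_succ_self _) hQ χ hχ he
  intro n
  induction n with
  | zero => intro Q hQR h; exact absurd h (Nat.not_lt_zero _)
  | succ n ih =>
    intro Q hQR hn hQ χ hχ he
    have hRS : R ≤ S := src_le hψ
    rcases eq_or_lt_of_le hQR with rfl | hlt
    · exact hom_congr hχ fun x => (he x).symm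
    haveI := finite_sub hRS
    set N := normalizerIn R Q with hN
    have hNR : N ≤ R := normalizerIn_le Q
    have hQN : Q < N := FusionP3.Induction.lt_normalizerIn (isPGroup_of_le hS hRS) hlt
    have hrc : F'.IsCentric χ.range := by
      have hc' := isCentric_of_le hle hQ
      refine ⟨range_le_base hχ, fun T hT => hc'.2 T (isConj_trans ⟨χ, hχ, rfl⟩ hT)⟩
    obtain ⟨ψ', hψ', he'⟩ := (receptive_of_fullyCentralized hS hF' (fullyCentralized_of_centric hrc)).2 Q χ hχ rfl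
    have hNe : N ≤ extender S Q χ := fun g hg => by
      refine mem_extender_of ⟨hRS hg.1, hg.2⟩ (apply_mem hψ ⟨g, hg.1⟩) fun x hx => ?_
      rw [he, he, ← map_inv, ← map_mul, ← map_mul]
      rfl
    obtain ⟨ψ1, hψ1, hψ1e⟩ := exists_restrict hψ' hNe
    obtain ⟨ψ2, hψ2, hψ2e⟩ := exists_restrict hψ hNR
    obtain ⟨z, hz, -, hzx⟩ := FusionAlperin.Agree.exists_conj_of_agree hS hF hQN.le (fun g hg => hg.2) hQ
      (hle N hψ1) hψ2 (fun q hq => by
        rw [hψ2e, hψ1e, he' q hq (hNe (hQN.le hq)), he])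
    have hzN : z ∈ N := hQN.le hz
    obtain ⟨ψ3, hψ3, hψ3e⟩ := exists_comp (F'.conj_mem (hNR.trans hRS) (hQ.1 hz)) hψ1
      (fun x => N.mul_mem (N.mul_mem hzN x.2) (N.inv_mem hzN))
    refine ih N hNR ?_ (isCentric_overgroup hQ hQN.le (hNR.trans hRS)) ψ3 hψ3 fun x => ?_
    · have h1 : Nat.card Q < Nat.card N := by
        haveI := finite_sub (hNR.trans hRS)
        exact lt_of_le_of_ne (Subgroup.card_le_of_le hQN.le) fun h => hQN.ne (Subgroup.eq_of_le_of_card_ge hQN.le h.ge)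
      have h2 : Nat.card N ≤ Nat.card R := Subgroup.card_le_of_le hNR
      omega
    · rw [hψ3e, ← hψ2e, hzx]
      rfl

/-- To show `F ≤ F'` it suffices to compare automizers of fully normalized centric subgroups. -/
theorem hom_eq_of_centric (hS : IsPGroup p S) (hF : F.IsSaturated p) (hle : F' ≤ F)
    (h : ∀ P : Subgroup Ω, F.IsFullyNormalized P → F.IsCentric P →
      (∀ R : Subgroup Ω, Nat.card P < Nat.card R → ∀ χ ∈ F.Hom R, χ ∈ F'.Hom R) →
      ∀ α ∈ F.autGroup P, P.subtype.comp α.toMonoidHom ∈ F'.Hom P) :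
    ∀ P : Subgroup Ω, F.Hom P = F'.Hom P := fun P => by
  refine Set.Subset.antisymm (fun φ hφ => ?_) (hle P)
  exact FusionP3.Induction.hom_induction hS hF (M := fun P φ => φ ∈ F'.Hom P)
    (fun _ _ _ _ _ _ _ hh hc h1 h2 => mem_comp h1 h2 hh hc)
    (fun _ _ _ _ hh _ he h1 => mem_of_restrict h1 hh he)
    (fun P hn hc _ α hα big => h P hn hc big α hα) P φ hφ

end Cfsg.Agent.Lib.FusionEssential.Centric
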