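import Cfsg.Agent.Lib.FusionEssential.PClosed
import Cfsg.Agent.Lib.PGroups.Automorphism

/-!
Automorphisms stabilising the series `1 ≤ Z ≤ E` in the automizer of an essential subgroup.
-/

set_option autoImplicit false
set_option linter.style.haveILetI false

namespace Cfsg.Agent.Lib.FusionEssential.LineStab

open Cfsg Cfsg.FusionSystem
open Cfsg.Agent.Lib Cfsg.Agent.Lib.FS

variable {Ω : Type*} [Group Ω] {S : Subgroup Ω}

/-- The automorphisms in `Aut_F(E)` fixing `Z` pointwise and moving every element inside its `Z`-coset. -/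
def lineStab (F : FusionSystem S) (E : Subgroup Ω) (Z : Subgroup E) : Subgroup (MulAut E) where
  carrier := {γ | γ ∈ F.autGroup E ∧ (∀ z ∈ Z, γ z = z) ∧ ∀ x, x⁻¹ * γ x ∈ Z}
  one_mem' := ⟨one_mem _, fun _ _ => rfl, fun x => by simp⟩
  mul_mem' := by
    rintro a b ⟨ha, ha1, ha2⟩ ⟨hb, hb1, hb2⟩
    refine ⟨mul_mem ha hb, fun z hz => by rw [MulAut.mul_apply, hb1 z hz, ha1 z hz], fun x => ?_⟩
    have := mul_mem (hb2 x) (ha2 (b x))
    rw [MulAut.mul_apply]
    simpa [mul_assoc] using this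
  inv_mem' := by
    rintro a ⟨ha, ha1, ha2⟩
    refine ⟨inv_mem ha, fun z hz => by rw [MulAut.inv_apply, MulEquiv.symm_apply_eq, ha1 z hz], fun x => ?_⟩
    have := ha2 (a⁻¹ x)
    rw [MulAut.apply_inv_self] at this
    simpa using inv_mem this

variable [Finite S] {p : ℕ} [hp : Fact p.Prime] {F : FusionSystem S} {E : Subgroup Ω}

omit [Finite S] hp in
theorem lineStab_le (Z : Subgroup E) : lineStab F E Z ≤ F.autGroup E := fun _ h => h.1

theorem isPGroup_lineStab (hS : IsPGroup p S) (hES : E ≤ S) (Z : Subgroup E) :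
    IsPGroup p (lineStab F E Z) := by
  haveI := finite_sub hES
  haveI : Finite (MulAut E) := Finite.of_injective (fun f => (f : E → E)) DFunLike.coe_injective
  exact PClosed.isPGroup_of_coprime_trivial _ fun a ha hco => MulEquiv.ext fun x =>
    PGroups.eq_of_fixed_diff (isPGroup_of_le hS hES) a hco x (ha.2.1 _ (ha.2.2 x))

omit [Finite S] hp in
/-- Conjugation moves `lineStab Z` to `lineStab (g Z)`. -/
theorem conj_mem_lineStab {Z : Subgroup E} {g a : MulAut E} (hg : g ∈ F.autGroup E) (ha : a ∈ lineStab F E Z) :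
    g * a * g⁻¹ ∈ lineStab F E (Z.map g.toMonoidHom) := by
  refine ⟨mul_mem (mul_mem hg ha.1) (inv_mem hg), ?_, fun x => ?_⟩
  · rintro _ ⟨z, hz, rfl⟩
    show g (a (g⁻¹ (g z))) = g z
    rw [MulAut.inv_apply_self, ha.2.1 z hz]
  · refine ⟨(g⁻¹ x)⁻¹ * a (g⁻¹ x), ha.2.2 _, ?_⟩
    show g ((g⁻¹ x)⁻¹ * a (g⁻¹ x)) = x⁻¹ * g (a (g⁻¹ x))
    rw [map_mul, map_inv, MulAut.apply_inv_self]

omit [Finite S] hp in
theorem conj_mem_of_invariant {Z : Subgroup E} {g a : MulAut E} (hg : g ∈ F.autGroup E)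
    (hZ : ∀ z ∈ Z, g z ∈ Z) (ha : a ∈ lineStab F E Z) [Finite Z] : g * a * g⁻¹ ∈ lineStab F E Z := by
  have he : Z.map g.toMonoidHom = Z := Subgroup.eq_of_le_of_card_ge (by rintro _ ⟨z, hz, rfl⟩; exact hZ z hz)
    (Subgroup.card_map_of_injective g.injective).ge
  simpa only [he] using conj_mem_lineStab hg ha

/-- For an invariant `Z` the stabiliser consists of inner automorphisms. -/
theorem lineStab_le_inn (hS : IsPGroup p S) (hF : F.IsSaturated p) (hess : F.IsEssential p E) {Z : Subgroup E}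
    (hinv : ∀ γ ∈ F.autGroup E, ∀ z ∈ Z, γ z ∈ Z) : lineStab F E Z ≤ Inn E := by
  have hES := hess.2.1.1
  haveI := finite_sub hES
  intro w hw
  rw [← (radical_of_essential hS hF hess).2]
  have hle : (lineStab F E Z).subgroupOf (F.autGroup E) ≤ pCore p (F.autGroup E) := by
    refine le_sSup ⟨⟨fun a ha g => ?_⟩,
      (isPGroup_lineStab hS hES Z).of_equiv (Subgroup.subgroupOfEquivOfLe (lineStab_le Z)).symm⟩
    exact Subgroup.mem_subgroupOf.2 (conj_mem_of_invariant g.2 (hinv _ g.2) (Subgroup.mem_subgroupOf.1 ha))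
  exact ⟨⟨w, hw.1⟩, hle (Subgroup.mem_subgroupOf.2 hw), rfl⟩

/-- No invariant `Z` whose stabiliser contains a conjugation by an element of `N_S(E)` outside `E`. -/
theorem not_invariant_of_conj (hS : IsPGroup p S) (hF : F.IsSaturated p) (hess : F.IsEssential p E) {Z : Subgroup E}
    {g : Ω} (hg : g ∈ normalizerIn S E) (hgE : g ∉ E) (hst : E.normalizerMonoidHom ⟨g, hg.2⟩ ∈ lineStab F E Z) :
    ¬ ∀ γ ∈ F.autGroup E, ∀ z ∈ Z, γ z ∈ Z := fun hinv =>
  not_inn_of_not_mem (hess.1.2 E (isConj_refl F hess.2.1.1)) hess.2.1.1 hg hgE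
    (lineStab_le_inn hS hF hess hinv hst)

omit [Finite S] hp in
theorem inn_eq_bot (hab : ∀ x y : E, x * y = y * x) : Inn E = ⊥ := by
  refine le_bot_iff.1 ?_
  rintro _ ⟨w, rfl⟩
  exact Subgroup.mem_bot.2 (MulEquiv.ext fun y => by
    show w * y * w⁻¹ = y
    rw [hab w y, mul_inv_cancel_right])

/-- A `p`-subgroup of the automizer containing a nontrivial element of `Aut_S(E)` meets its `M`-conjugates. -/
theorem mem_of_pGroup (hS : IsPGroup p S) (hF : F.IsSaturated p) (hess : F.IsEssential p E)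
    (hab : ∀ x y : E, x * y = y * x) {M : Subgroup (MulAut E)}
    (hM : ∀ a ∈ F.autGroup E, ∀ u ∈ autInducedBy S E, u ∉ Inn E → a * u * a⁻¹ ∈ autInducedBy S E → a ∈ M)
    {P : Subgroup (MulAut E)} (hPA : P ≤ F.autGroup E) (hPp : IsPGroup p P) {u : MulAut E}
    (hu : u ∈ autInducedBy S E) (hu1 : u ≠ 1) (huP : u ∈ P) {g v : MulAut E} (hg : g ∈ F.autGroup E)
    (hv : v ∈ autInducedBy S E) (hv1 : v ≠ 1) (hgv : g * v * g⁻¹ ∈ P) : g ∈ M := by
  haveI := finite_sub hess.2.1.1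
  haveI : Finite (MulAut E) := Finite.of_injective (fun f => (f : E → E)) DFunLike.coe_injective
  obtain ⟨R, hR⟩ := (fullyAutomized_of_fullyNormalized hS hF hess.2.1).2
  obtain ⟨c, hc, hconj⟩ := exists_conj_le_sylow R hR hPA hPp
  have hinn := inn_eq_bot hab
  have h1 : c ∈ M := hM c hc u hu (by rw [hinn, Subgroup.mem_bot]; exact hu1) (hconj u huP)
  have h2 : c * g ∈ M := by
    refine hM (c * g) (mul_mem hc hg) v hv (by rw [hinn, Subgroup.mem_bot]; exact hv1) ?_
    have := hconj _ hgv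
    rwa [show c * g * v * (c * g)⁻¹ = c * (g * v * g⁻¹) * c⁻¹ by group]
  simpa using mul_mem (inv_mem h1) h2

omit [Finite S] hp in
/-- Some element outside a proper subgroup moves a non-invariant `Z`. -/
theorem exists_moving {A M : Subgroup (MulAut E)} {Z : Subgroup E} (hM : ∃ a ∈ A, a ∉ M)
    (hZ : ¬ ∀ γ ∈ A, ∀ z ∈ Z, γ z ∈ Z) : ∃ g ∈ A, g ∉ M ∧ ∃ z ∈ Z, g z ∉ Z := by
  by_contra h
  push Not at h
  refine hZ fun γ hγ z hz => ?_
  by_cases hγM : γ ∈ M
  · obtain ⟨a, ha, haM⟩ := hM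
    have h1 : a * γ ∉ M := fun h' => haM (by simpa using mul_mem h' (inv_mem hγM))
    have h2 := h a⁻¹ (inv_mem ha) (fun h' => haM (by simpa using inv_mem h')) _ (h _ (mul_mem ha hγ) h1 z hz)
    rwa [MulAut.mul_apply, MulAut.inv_apply_self] at h2
  · exact h γ hγ hγM z hz

/-- A nontrivial element of `Aut_S(E) ∩ lineStab Z` does not fix the moved line. -/
theorem not_fixed_of_moving (hS : IsPGroup p S) (hF : F.IsSaturated p) (hess : F.IsEssential p E)
    (hab : ∀ x y : E, x * y = y * x) {M : Subgroup (MulAut E)}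
    (hM : ∀ a ∈ F.autGroup E, ∀ u ∈ autInducedBy S E, u ∉ Inn E → a * u * a⁻¹ ∈ autInducedBy S E → a ∈ M)
    {Z : Subgroup E} {u v : MulAut E} (hu : u ∈ autInducedBy S E) (hu1 : u ≠ 1)
    (hv : v ∈ autInducedBy S E) (hv1 : v ≠ 1) (hvZ : v ∈ lineStab F E Z) {g : MulAut E} (hg : g ∈ F.autGroup E)
    (hgM : g ∉ M) (hfix : ∀ z ∈ Z.map g.toMonoidHom, u z = z) : False := by
  haveI := finite_sub hess.2.1.1
  have hES := hess.2.1.1
  have huA := autInducedBy_le_autGroup F hES hu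
  have hnorm : Subgroup.zpowers u ≤
      Subgroup.normalizer ((lineStab F E (Z.map g.toMonoidHom) : Subgroup (MulAut E)) : Set (MulAut E)) := by
    haveI : Finite (MulAut E) := Finite.of_injective (fun f => (f : E → E)) DFunLike.coe_injective
    refine Subgroup.zpowers_le.2 ?_
    rw [Subgroup.mem_normalizer_iff_map_conj_eq]
    refine Subgroup.eq_of_le_of_card_ge ?_
      (Subgroup.card_map_of_injective (MulAut.conj u).injective).ge
    rintro _ ⟨a, ha, rfl⟩
    exact conj_mem_of_invariant huA (fun z hz => (hfix z hz).symm ▸ hz) ha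
  have hup : IsPGroup p (Subgroup.zpowers u) :=
    (isPGroup_autInducedBy hS E).to_le (Subgroup.zpowers_le.2 hu)
  refine hgM (mem_of_pGroup hS hF hess hab hM
    (P := lineStab F E (Z.map g.toMonoidHom) ⊔ Subgroup.zpowers u)
    (sup_le (lineStab_le _) (Subgroup.zpowers_le.2 huA)) ?_ hu hu1
    (Subgroup.mem_sup_right (Subgroup.mem_zpowers u)) hg hv hv1 (Subgroup.mem_sup_left (conj_mem_lineStab hg hvZ)))
  exact (isPGroup_lineStab hS hES _).to_sup_of_normal_left' hup hnorm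

/-- An abelian essential subgroup has no group of order at least `p²` of such automorphisms induced by `S`. -/
theorem no_transvection_group (hS : IsPGroup p S) (hF : F.IsSaturated p) (hess : F.IsEssential p E)
    (hab : ∀ x y : E, x * y = y * x) {Z : Subgroup E} (hZ : Nat.card Z = p) (U : Subgroup (MulAut E))
    (hUS : U ≤ autInducedBy S E) (hUZ : U ≤ lineStab F E Z) (hU : p ^ 2 ≤ Nat.card U) : False := by
  have hES := hess.2.1.1
  haveI := finite_sub hES
  haveI : Finite (MulAut E) := Finite.of_injective (fun f => (f : E → E)) DFunLike.coe_injective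
  have hinn := inn_eq_bot hab
  obtain ⟨v, hvU, hv1⟩ : ∃ v ∈ U, v ≠ 1 := by
    refine U.bot_or_exists_ne_one.resolve_left fun h => ?_
    rw [h, Subgroup.card_bot] at hU
    exact absurd hU (not_le.2 (Nat.one_lt_pow two_ne_zero hp.out.one_lt))
  have hnot : ¬ ∀ γ ∈ F.autGroup E, ∀ z ∈ Z, γ z ∈ Z := fun hinv =>
    hv1 (Subgroup.mem_bot.1 (hinn ▸ lineStab_le_inn hS hF hess hinv (hUZ hvU)))
  obtain ⟨M, hMne, -, hM, -⟩ := FusionEssential.exists_data hS hF hess
  obtain ⟨g, hg, hgM, z₀, hz₀, hmove⟩ := exists_moving hMne hnot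
  set z' := g z₀
  let θ : U →* Z :=
    { toFun := fun u => ⟨z'⁻¹ * (u : MulAut E) z', (hUZ u.2).2.2 z'⟩
      map_one' := Subtype.ext (inv_mul_cancel z')
      map_mul' := fun u w => Subtype.ext (by
        have h1 := (hUZ u.2).2.1 _ ((hUZ w.2).2.2 z')
        rw [map_mul, map_inv] at h1
        show z'⁻¹ * (u : MulAut E) ((w : MulAut E) z') = z'⁻¹ * (u : MulAut E) z' * (z'⁻¹ * (w : MulAut E) z')
        rw [← h1]; group) }
  obtain ⟨u, huk, hu1⟩ : ∃ u ∈ θ.ker, u ≠ 1 := by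
    refine θ.ker.bot_or_exists_ne_one.resolve_left fun h => ?_
    have := Nat.card_le_card_of_injective θ ((MonoidHom.ker_eq_bot_iff θ).1 h)
    rw [hZ] at this
    exact absurd (hU.trans this) (not_le.2 (by simpa using Nat.pow_lt_pow_right hp.out.one_lt (show 1 < 2 by norm_num)))
  refine not_fixed_of_moving hS hF hess hab hM (hUS u.2) (fun h => hu1 (Subtype.ext h)) (hUS hvU) hv1 (hUZ hvU)
    hg hgM ?_
  intro z hz
  have hfix : (u : MulAut E) z' = z' := (inv_mul_eq_one.1 (congrArg Subtype.val huk)).symm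
  obtain ⟨w, hw, rfl⟩ := hz
  have hgen : Subgroup.zpowers (⟨z₀, hz₀⟩ : Z) = ⊤ :=
    zpowers_eq_top_of_prime_card hZ fun h => hmove (by show g z₀ ∈ Z; rw [show z₀ = 1 from congrArg Subtype.val h, map_one]; exact one_mem _)
  obtain ⟨i, hi⟩ := Subgroup.mem_zpowers_iff.1 (hgen ▸ Subgroup.mem_top (⟨w, hw⟩ : Z))
  rw [show w = z₀ ^ i from (congrArg Subtype.val hi).symm]
  show (u : MulAut E) (g (z₀ ^ i)) = g (z₀ ^ i)
  rw [map_zpow, map_zpow, hfix]

end Cfsg.Agent.Lib.FusionEssential.LineStab
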