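import Cfsg.Prelude.Def_Transfer
import Cfsg.Agent.Lib.FusionEssential.LineStab

/-!
Essential subgroups containing the derived subgroup of an extraspecial or similar subgroup of the base.
-/

set_option autoImplicit false
set_option linter.style.haveILetI false

namespace Cfsg.Agent.Lib.FusionEssential.ExtraspecialIndex

open Cfsg Cfsg.FusionSystem
open Cfsg.Agent.Lib Cfsg.Agent.Lib.FS
open scoped commutatorElement

variable {Ω : Type*} [Group Ω]

/-- The centre of `Q` as a subgroup of the ambient group. -/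
def zq (Q : Subgroup Ω) : Subgroup Ω := (Subgroup.center Q).map Q.subtype

theorem zq_le (Q : Subgroup Ω) : zq Q ≤ Q := Subgroup.map_subtype_le _

theorem mem_zq {Q : Subgroup Ω} {x : Ω} : x ∈ zq Q ↔ x ∈ Q ∧ ∀ q ∈ Q, q * x = x * q := by
  constructor
  · rintro ⟨w, hw, rfl⟩
    exact ⟨w.2, fun q hq => congrArg Subtype.val (Subgroup.mem_center_iff.1 hw ⟨q, hq⟩)⟩
  · exact fun ⟨hx, h⟩ => ⟨⟨x, hx⟩, Subgroup.mem_center_iff.2 fun q => Subtype.ext (h q q.2), rfl⟩

theorem zq_eq_inf (Q : Subgroup Ω) : zq Q = Q ⊓ Subgroup.centralizer (Q : Set Ω) := by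
  ext x
  rw [mem_zq, Subgroup.mem_inf, Subgroup.mem_centralizer_iff]
  rfl

theorem card_zq {p : ℕ} {Q : Subgroup Ω} (hQ : IsExtraspecial p Q) : Nat.card (zq Q) = p := by
  rw [zq, Subgroup.card_map_of_injective Q.subtype_injective, hQ.2]

theorem comm_mem {p : ℕ} {Q : Subgroup Ω} (hQ : IsExtraspecial p Q) {x y : Ω} (hx : x ∈ Q) (hy : y ∈ Q) :
    ⁅x, y⁆ ∈ zq Q := by
  refine ⟨⁅(⟨x, hx⟩ : Q), ⟨y, hy⟩⁆, ?_, map_commutatorElement Q.subtype _ _⟩
  rw [← hQ.1.2.2, commutator_def]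
  exact Subgroup.commutator_mem_commutator (Subgroup.mem_top _) (Subgroup.mem_top _)

/-- An element of order `p` in a group of order `p` generates it. -/
theorem mem_zpowers_line {p : ℕ} [Fact p.Prime] {Z : Subgroup Ω} (hZ : Nat.card Z = p) {c x : Ω} (hc : c ∈ Z)
    (hc1 : c ≠ 1) (hx : x ∈ Z) : x ∈ Subgroup.zpowers c := by
  have hgen : Subgroup.zpowers (⟨c, hc⟩ : Z) = ⊤ :=
    zpowers_eq_top_of_prime_card hZ fun h => hc1 (congrArg Subtype.val h)
  obtain ⟨i, hi⟩ := Subgroup.mem_zpowers_iff.1 (hgen ▸ Subgroup.mem_top (⟨x, hx⟩ : Z))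
  exact Subgroup.mem_zpowers_iff.2 ⟨i, congrArg Subtype.val hi⟩

/-- A subgroup containing the commutators of `T` is normalised by `T`. -/
theorem conj_mem_of_comm {T E : Subgroup Ω} {Z : Subgroup Ω} (hZE : Z ≤ E) (hET : E ≤ T)
    (hcomm : ∀ x ∈ T, ∀ y ∈ T, ⁅x, y⁆ ∈ Z) {g : Ω} (hg : g ∈ T) :
    g ∈ Subgroup.normalizer (E : Set Ω) := by
  have h : ∀ g ∈ T, ∀ x ∈ E, g * x * g⁻¹ ∈ E := fun g hg x hx => by
    rw [show g * x * g⁻¹ = ⁅g, x⁆ * x by rw [commutatorElement_def]; group]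
    exact mul_mem (hZE (hcomm g hg x (hET hx))) hx
  intro x
  refine ⟨h g hg x, fun hx => ?_⟩
  have := h g⁻¹ (inv_mem hg) _ hx
  simpa [mul_assoc] using this

/-- Conjugations by elements whose commutators with `E` lie in a centralised `Z ≤ E`. -/
theorem conj_mem_lineStab {S : Subgroup Ω} {F : FusionSystem S} {E Z : Subgroup Ω} (hES : E ≤ S) (hZE : Z ≤ E)
    {g : Ω} (hgS : g ∈ S) (hgN : g ∈ Subgroup.normalizer (E : Set Ω)) (hfix : ∀ z ∈ Z, g * z = z * g)
    (hmove : ∀ x ∈ E, x⁻¹ * (g * x * g⁻¹) ∈ Z) :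
    E.normalizerMonoidHom ⟨g, hgN⟩ ∈ LineStab.lineStab F E (Z.subgroupOf E) := by
  refine ⟨autInducedBy_le_autGroup F hES (mem_autInducedBy.2 ⟨g, hgS, fun _ => rfl⟩), fun z hz => ?_, fun x => ?_⟩
  · refine Subtype.ext ?_
    show g * z * g⁻¹ = z
    rw [hfix z (Subgroup.mem_subgroupOf.1 hz), mul_inv_cancel_right]
  · exact Subgroup.mem_subgroupOf.2 (hmove x x.2)

/-- The commutators of a nonabelian `E` span an invariant line. -/
theorem line_invariant {p : ℕ} [Fact p.Prime] {E Z : Subgroup Ω} (hZ : Nat.card Z = p)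
    (hcomm : ∀ x ∈ E, ∀ y ∈ E, ⁅x, y⁆ ∈ Z) (hna : ¬ ∀ x y : E, x * y = y * x) (γ : MulAut E) :
    ∀ z ∈ Z.subgroupOf E, γ z ∈ Z.subgroupOf E := by
  push Not at hna
  obtain ⟨x, y, hxy⟩ := hna
  intro z hz
  rw [Subgroup.mem_subgroupOf] at hz ⊢
  obtain ⟨i, hi⟩ := Subgroup.mem_zpowers_iff.1 (mem_zpowers_line hZ (hcomm x x.2 y y.2)
    (fun h => hxy (commutatorElement_eq_one_iff_mul_comm.1 (Subtype.ext h : ⁅x, y⁆ = 1))) hz)
  rw [show z = ⁅x, y⁆ ^ i from Subtype.ext (by rw [← hi]; rfl), map_zpow, map_commutatorElement]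
  exact zpow_mem (hcomm _ (γ x).2 _ (γ y).2) i

/-- An abelian subgroup with a one-generated supplement. -/
theorem card_le_center_mul {T E Z : Subgroup Ω} [Finite T] (hET : E ≤ T)
    (hab : ∀ x y : E, x * y = y * x) {g : Ω} (hgT : g ∈ T) (hgen : T ≤ E ⊔ Subgroup.zpowers g)
    (hfix : ∀ z ∈ Z, g * z = z * g) (hZab : ∀ x ∈ E, ∀ z ∈ Z, x * z = z * x) [Finite Z]
    (hmove : ∀ x ∈ E, x⁻¹ * (g * x * g⁻¹) ∈ Z) :
    Nat.card E ≤ Nat.card (T ⊓ Subgroup.centralizer (T : Set Ω) : Subgroup Ω) * Nat.card Z := by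
  let f : E →* Z :=
    { toFun := fun x => ⟨(x : Ω)⁻¹ * (g * x * g⁻¹), hmove x x.2⟩
      map_one' := Subtype.ext (by simp)
      map_mul' := fun x y => Subtype.ext (by
        show ((x : Ω) * y)⁻¹ * (g * ((x : Ω) * y) * g⁻¹) = (x : Ω)⁻¹ * (g * x * g⁻¹) * ((y : Ω)⁻¹ * (g * y * g⁻¹))
        calc ((x : Ω) * y)⁻¹ * (g * ((x : Ω) * y) * g⁻¹)
            = ((y : Ω)⁻¹ * ((x : Ω)⁻¹ * (g * x * g⁻¹))) * (g * y * g⁻¹) := by group
          _ = ((x : Ω)⁻¹ * (g * x * g⁻¹) * (y : Ω)⁻¹) * (g * y * g⁻¹) := by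
              rw [hZab _ (inv_mem y.2) _ (hmove x x.2)]
          _ = _ := by group) }
  have hk : Nat.card f.ker ≤ Nat.card (T ⊓ Subgroup.centralizer (T : Set Ω) : Subgroup Ω) := by
    haveI : Finite (T ⊓ Subgroup.centralizer (T : Set Ω) : Subgroup Ω) :=
      Finite.of_injective (Subgroup.inclusion inf_le_left) (Subgroup.inclusion_injective _)
    rw [← Subgroup.card_map_of_injective E.subtype_injective (K := f.ker)]
    refine Subgroup.card_le_of_le ?_
    rintro _ ⟨x, hx, rfl⟩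
    refine ⟨hET x.2, Subgroup.mem_centralizer_iff.2 fun t ht => ?_⟩
    have hgx : g * (x : Ω) = x * g := mul_inv_eq_iff_eq_mul.1 (inv_mul_eq_one.1 (congrArg Subtype.val hx)).symm
    have hle : E ⊔ Subgroup.zpowers g ≤ Subgroup.centralizer {(x : Ω)} :=
      sup_le (fun e he => Subgroup.mem_centralizer_singleton_iff.2 (congrArg Subtype.val (hab ⟨e, he⟩ x)))
        (Subgroup.zpowers_le.2 (Subgroup.mem_centralizer_singleton_iff.2 hgx))
    exact Subgroup.mem_centralizer_singleton_iff.1 (hle (hgen ht))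
  haveI : Finite E := Finite.of_injective (Subgroup.inclusion hET) (Subgroup.inclusion_injective hET)
  calc Nat.card E = Nat.card f.ker * Nat.card f.range := by rw [← Subgroup.index_ker, Subgroup.card_mul_index]
    _ ≤ _ := Nat.mul_le_mul hk (Subgroup.card_le_card_group _)

/-- Either `T` induces at least `p²` automorphisms on `E`, or `E` is large. -/
theorem card_autInducedBy_mul {T E : Subgroup Ω} [Finite T] (hET : E ≤ T)
    (hN : T ≤ Subgroup.normalizer (E : Set Ω)) (hC : T ⊓ Subgroup.centralizer (E : Set Ω) ≤ E) :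
    Nat.card T ≤ Nat.card (autInducedBy T E) * Nat.card E := by
  haveI : Finite E := Finite.of_injective (Subgroup.inclusion hET) (Subgroup.inclusion_injective hET)
  let f : T →* MulAut E := E.normalizerMonoidHom.comp (Subgroup.inclusion hN)
  haveI : Finite (MulAut E) := Finite.of_injective (fun f => (f : E → E)) DFunLike.coe_injective
  have hr : Nat.card f.range ≤ Nat.card (autInducedBy T E) := by
    refine Subgroup.card_le_of_le ?_
    rintro _ ⟨t, rfl⟩
    exact mem_autInducedBy.2 ⟨t, t.2, fun _ => rfl⟩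
  have hk : Nat.card f.ker ≤ Nat.card E := by
    rw [← Subgroup.card_map_of_injective T.subtype_injective (K := f.ker)]
    refine Subgroup.card_le_of_le ?_
    rintro _ ⟨t, ht, rfl⟩
    refine hC ⟨t.2, Subgroup.mem_centralizer_iff.2 fun x hx => ?_⟩
    have h := congrArg (fun γ : MulAut E => ((γ ⟨x, hx⟩ : E) : Ω)) (show f t = 1 from ht)
    change (t : Ω) * x * (t : Ω)⁻¹ = x at h
    exact (mul_inv_eq_iff_eq_mul.1 h).symm
  calc Nat.card T = Nat.card f.ker * Nat.card f.range := by rw [← Subgroup.index_ker, Subgroup.card_mul_index]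
    _ ≤ Nat.card E * Nat.card (autInducedBy T E) := Nat.mul_le_mul hk hr
    _ = _ := mul_comm _ _

end Cfsg.Agent.Lib.FusionEssential.ExtraspecialIndex
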