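import Mathlib.GroupTheory.FreeGroup.Reduce
import Mathlib.Algebra.BigOperators.Group.Finset.Basic
import Mathlib.Algebra.Order.BigOperators.Group.Finset
import Mathlib.Data.Fintype.Card
import Mathlib.Tactic.Linarith
import Mathlib.Tactic.Ring
import Mathlib.Tactic.Group
import Mathlib.Algebra.BigOperators.Ring.Finset
import Mathlib.Algebra.Group.End
import Mathlib.Data.Fintype.EquivFin

/-!
A finite group acting on a free group through signed letter permutations, twisted by a cocycle, fixes a vertex of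
the Cayley tree.
-/

set_option autoImplicit false

namespace Cfsg.Agent.Lib.FusionEssential.FreeFixedPoint

open FreeGroup

variable {α : Type*} [DecidableEq α]

theorem toWord_map_equiv (σ : Equiv.Perm α) (x : FreeGroup α) :
    (FreeGroup.map σ x).toWord = x.toWord.map fun a => (σ a.1, a.2) := by
  conv_lhs => rw [← mk_toWord (x := x)]
  rw [map.mk, toWord_mk]
  refine IsReduced.reduce_eq ?_
  have h : IsReduced x.toWord := isReduced_toWord
  rw [FreeGroup.IsReduced, List.isChain_map]
  exact h.imp fun a b hab he => hab (σ.injective he)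

theorem norm_map_equiv (σ : Equiv.Perm α) (x : FreeGroup α) : norm (FreeGroup.map σ x) = norm x := by
  rw [norm, norm, toWord_map_equiv, List.length_map]

theorem norm_step (a : α × Bool) (z : FreeGroup α) :
    norm ((mk [a])⁻¹ * z) =
      if z.toWord.head? = some a then norm z - 1 else norm z + 1 := by
  have h : ((mk [a])⁻¹ * z).toWord = reduce ((a.1, !a.2) :: z.toWord) := by
    rw [toWord_mul, toWord_inv, toWord_mk]
    rfl
  rw [norm, norm, h, reduce.cons, reduce_toWord]
  cases hz : z.toWord with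
  | nil => simp
  | cons b l =>
    obtain ⟨a1, a2⟩ := a
    obtain ⟨b1, b2⟩ := b
    simp only [List.head?_cons, Option.some.injEq, Prod.mk.injEq]
    by_cases h1 : b1 = a1
    · subst h1
      cases a2 <;> cases b2 <;> simp
    · simp [h1, Ne.symm h1]

theorem sq_step {a b : α × Bool} (hab : a ≠ b) (z : FreeGroup α) :
    2 * norm z ^ 2 + 2 ≤ norm ((mk [a])⁻¹ * z) ^ 2 + norm ((mk [b])⁻¹ * z) ^ 2 := by
  rw [norm_step, norm_step]
  have h0 : z.toWord.head? = some a → 0 < norm z := by
    intro h
    rw [norm]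
    cases hz : z.toWord with
    | nil => rw [hz] at h; simp at h
    | cons _ _ => simp
  have h1 : z.toWord.head? = some b → 0 < norm z := by
    intro h
    rw [norm]
    cases hz : z.toWord with
    | nil => rw [hz] at h; simp at h
    | cons _ _ => simp
  split_ifs with ha hb hb
  · exact absurd (Option.some.inj (ha.symm.trans hb)) hab
  · obtain ⟨d, hd⟩ := Nat.exists_eq_add_of_le (h0 ha)
    rw [hd]
    have : 0 + 1 + d - 1 = d := by omega
    rw [this]
    nlinarith
  · obtain ⟨d, hd⟩ := Nat.exists_eq_add_of_le (h1 hb)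
    rw [hd]
    have : 0 + 1 + d - 1 = d := by omega
    rw [this]
    nlinarith
  · ring_nf
    omega

/-- The fixed point theorem. -/
theorem exists_fixed {K : Type*} [Group K] [Finite K] (π : K →* Equiv.Perm α) (w : K → FreeGroup α)
    (hw : ∀ k l, w (k * l) = w k * FreeGroup.map (π k) (w l)) (V : Set (FreeGroup α)) (h1 : 1 ∈ V)
    (hinv : ∀ k, ∀ x ∈ V, w k * FreeGroup.map (π k) x ∈ V)
    (hconv : ∀ x ∈ V, ∀ y ∈ V, ∀ i : ℕ, x * mk (List.take i (x⁻¹ * y).toWord) ∈ V) :
    ∃ u ∈ V, ∀ k, w k * FreeGroup.map (π k) u = u := by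
  classical
  haveI := Fintype.ofFinite K
  let f : FreeGroup α → ℕ := fun x => ∑ k : K, norm (x⁻¹ * w k) ^ 2
  have hf : ∀ k x, f (w k * FreeGroup.map (π k) x) = f x := by
    intro k x
    refine (Fintype.sum_equiv (Equiv.mulLeft k⁻¹) _ _ fun l => ?_)
    have h : w l = w k * FreeGroup.map (π k) (w (k⁻¹ * l)) := by rw [← hw, mul_inv_cancel_left]
    rw [Equiv.coe_mulLeft]
    conv_lhs => rw [h]
    rw [mul_inv_rev, mul_assoc, inv_mul_cancel_left, ← _root_.map_inv, ← _root_.map_mul, norm_map_equiv]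
  obtain ⟨p, hp, hmin⟩ : ∃ p ∈ V, ∀ x ∈ V, f p ≤ f x := by
    have hex : ∃ n, ∃ x ∈ V, f x = n := ⟨_, 1, h1, rfl⟩
    obtain ⟨x, hx, hxn⟩ := Nat.find_spec hex
    exact ⟨x, hx, fun y hy => hxn ▸ Nat.find_le ⟨y, hy, rfl⟩⟩
  have hadj : ∀ x ∈ V, ∀ y ∈ V, f x = f p → f y = f p → norm (x⁻¹ * y) ≤ 1 := by
    intro x hx y hy hxm hym
    by_contra hL
    set l := (x⁻¹ * y).toWord with hl
    have hLl : 2 ≤ l.length := by rw [norm, ← hl] at hL; omega
    let g : ℕ → ℕ := fun i => f (x * mk (l.take i))
    have hsec : ∀ i, i + 2 ≤ l.length → 2 * g (i + 1) + 2 ≤ g i + g (i + 2) := by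
      intro i hi
      set a := l[i + 1]'(by omega) with ha
      set b := l[i]'(by omega) with hb
      have hne : a ≠ (b.1, !b.2) := by
        intro he
        have hred : FreeGroup.IsReduced l := isReduced_toWord
        have := List.isChain_iff_getElem.1 hred i (by omega)
        rw [← hb, ← ha, he] at this
        simp at this
      have e2 : x * mk (l.take (i + 2)) = x * mk (l.take (i + 1)) * mk [a] := by
        rw [mul_assoc, mul_mk, List.take_succ_eq_append_getElem (i := i + 1) (by omega)]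
      have e0 : x * mk (l.take i) = x * mk (l.take (i + 1)) * mk [(b.1, !b.2)] := by
        rw [List.take_succ_eq_append_getElem (i := i) (by omega), ← mul_mk, ← hb]
        rw [show mk [(b.1, !b.2)] = (mk [b])⁻¹ from by rw [inv_mk]; rfl]
        group
      show 2 * f _ + 2 ≤ f _ + f _
      rw [e0, e2]
      set r := x * mk (l.take (i + 1))
      simp only [f, mul_inv_rev (a := r), mul_assoc]
      rw [← Finset.sum_add_distrib, Finset.mul_sum]
      calc (∑ k : K, 2 * norm (r⁻¹ * w k) ^ 2) + 2
          ≤ (∑ k : K, 2 * norm (r⁻¹ * w k) ^ 2) + ∑ k : K, 2 := by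
            rw [Finset.sum_const, smul_eq_mul, Finset.card_univ]
            have := Fintype.card_pos (α := K)
            omega
        _ = ∑ k : K, (2 * norm (r⁻¹ * w k) ^ 2 + 2) := (Finset.sum_add_distrib).symm
        _ ≤ _ := Finset.sum_le_sum fun k _ => by
            have := sq_step hne.symm (r⁻¹ * w k)
            omega
    have hge : ∀ i, f p ≤ g i := fun i => hmin _ (hconv x hx y hy i)
    have hg0 : g 0 = f p := by simp [g, List.take_zero, ← FreeGroup.one_eq_mk, hxm]
    have hgL : g l.length = f p := by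
      simp [g, List.take_length, hl, mk_toWord, hym]
    have hinc : ∀ i, i + 1 ≤ l.length → g i + 2 * i ≤ g (i + 1) ∧ g 0 ≤ g i := by
      intro i
      induction i with
      | zero => intro _; exact ⟨by rw [hg0]; exact hge 1, le_rfl⟩
      | succ i ih =>
        intro hi
        obtain ⟨h1, h2⟩ := ih (by omega)
        have := hsec i (by omega)
        show g (i + 1) + 2 * (i + 1) ≤ g (i + 2) ∧ g 0 ≤ g (i + 1)
        exact ⟨by omega, by omega⟩
    obtain ⟨m, hm⟩ := Nat.exists_eq_add_of_le hLl
    obtain ⟨h3, h4⟩ := hinc (l.length - 1) (by omega)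
    rw [show l.length - 1 + 1 = l.length by omega] at h3
    omega
  refine ⟨p, hp, fun k => ?_⟩
  by_contra hne
  set q := w k * FreeGroup.map (π k) p with hq
  set r := w k * FreeGroup.map (π k) q with hr
  have hqV := hinv k p hp
  have hrV := hinv k q hqV
  have hn := hadj p hp q hqV rfl (hf k p)
  have hn2 := hadj p hp r hrV rfl ((hf k q).trans (hf k p))
  obtain ⟨a, ha⟩ : ∃ a, (p⁻¹ * q).toWord = [a] := by
    rw [norm] at hn
    match hl : (p⁻¹ * q).toWord, hn with
    | [], _ => exact absurd (inv_mul_eq_one.1 (toWord_eq_nil_iff.1 hl)).symm hne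
    | [a], _ => exact ⟨a, rfl⟩
  have hqp : p⁻¹ * q = mk [a] := by rw [← ha, mk_toWord]
  have hrq : q⁻¹ * r = mk [(π k a.1, a.2)] := by
    rw [hr, show q⁻¹ = (w k * FreeGroup.map (π k) p)⁻¹ from rfl, mul_inv_rev, mul_assoc, inv_mul_cancel_left,
      ← _root_.map_inv, ← _root_.map_mul, hqp, map.mk]
    rfl
  have hpr : p⁻¹ * r = mk [a, (π k a.1, a.2)] := by
    rw [show p⁻¹ * r = (p⁻¹ * q) * (q⁻¹ * r) by group, hqp, hrq, mul_mk]
    rfl
  rw [hpr, norm, toWord_mk, IsReduced.reduce_eq (L := [a, (π k a.1, a.2)]) (isReduced_cons_cons.2 ⟨fun _ => rfl, IsReduced.singleton⟩)] at hn2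
  simp at hn2

end Cfsg.Agent.Lib.FusionEssential.FreeFixedPoint
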