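import Cfsg.Agent.Lib.FusionP3.SmallExponent
import Cfsg.Agent.Lib.FusionP3.Tate

/-!
Abelian subgroups of small exponent inside a subgroup containing the hyperfocal subgroup control fusion.
-/

set_option autoImplicit false
set_option linter.style.haveILetI false

namespace Cfsg.Agent.Lib.FusionEssential.HyperfocalControl

open Cfsg Cfsg.FusionSystem Cfsg.Agent.Lib.FS Cfsg.Agent.Lib.FusionP3.Induction
  Cfsg.Agent.Lib.FusionP3.SmallExponent
open Cfsg.Agent.Lib.FusionP3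
open Cfsg.Agent.Lib.PGroups
open scoped commutatorElement

section Group

variable {G : Type*} [Group G] {p : ℕ} {A : Subgroup G}

/-- Alperin's lemma inside a normal subgroup `R`. -/
theorem mem_of_maximal_within [Finite G] [Fact p.Prime] (hG : IsPGroup p G) (n : ℕ)
    (hn : p ^ n ≠ 2) [hN : A.Normal] (hA : IsMulCommutative A)
    (hAe : ∀ a ∈ A, a ^ p ^ n = 1)
    {R : Subgroup G} [R.Normal] (hAR : A ≤ R)
    (hmax : ∀ B : Subgroup G, B.Normal → B ≤ R → IsMulCommutative B → (∀ b ∈ B, b ^ p ^ n = 1) →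
      A ≤ B → B = A)
    {x : G} (hx : x ∈ Subgroup.centralizer (A : Set G) ⊓ R) (hxn : x ^ p ^ n = 1) : x ∈ A := by
  rcases Nat.eq_zero_or_pos n with rfl | hn0
  · rw [pow_zero, pow_one] at hxn
    exact hxn ▸ A.one_mem
  have := hG.isNilpotent
  have hp : p.Prime := Fact.out
  let L : ℕ → Subgroup G :=
    fun i => (Subgroup.upperCentralSeries (G ⧸ A) i).comap (QuotientGroup.mk' A)
  have hL0 : L 0 = A := by
    simp [L, Subgroup.upperCentralSeries_zero, MonoidHom.comap_bot, QuotientGroup.ker_mk']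
  have hLsucc : ∀ i y, y ∈ L (i + 1) → ∀ g, ⁅y, g⁆ ∈ L i := by
    intro i y hy g
    have := (Subgroup.mem_upperCentralSeries_succ_iff.mp hy) (QuotientGroup.mk' A g)
    simpa [L, commutatorElement_def, mul_assoc] using this
  have hLn : ∀ i, (L i).Normal := fun i =>
    (inferInstance : (Subgroup.upperCentralSeries (G ⧸ A) i).Normal).comap _
  obtain ⟨m, hm⟩ : ∃ m, x ∈ L m := by
    obtain ⟨m, hm⟩ := (Group.IsNilpotent.nilpotent (G ⧸ A))
    exact ⟨m, by simp [L, hm]⟩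
  let C : Subgroup G := Subgroup.centralizer (A : Set G) ⊓ R
  have hAZ : ∀ a ∈ A, ∀ y ∈ C, Commute y a := fun a ha y hy => (hy.1 a ha).symm
  by_contra hxA
  obtain ⟨j, ⟨y, ⟨hyj, hyC, hyn, hyA⟩⟩, hjmin⟩ :
      ∃ j, (∃ y, y ∈ L j ∧ y ∈ C ∧ y ^ p ^ n = 1 ∧ y ∉ A) ∧
        ∀ i < j, ∀ y, y ∈ L i → y ∈ C → y ^ p ^ n = 1 → y ∈ A := by
    classical
    have hex : ∃ j, ∃ y, y ∈ L j ∧ y ∈ C ∧ y ^ p ^ n = 1 ∧ y ∉ A := ⟨m, x, hm, hx, hxn, hxA⟩
    refine ⟨Nat.find hex, Nat.find_spec hex, fun i hi z hz hzC hzn => ?_⟩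
    by_contra hzA
    exact Nat.find_min hex hi ⟨z, hz, hzC, hzn, hzA⟩
  -- one may assume `z ^ p ∈ A`
  obtain ⟨z, hzj, hzC, hzn, hzA, hzp⟩ :
      ∃ z, z ∈ L j ∧ z ∈ C ∧ z ^ p ^ n = 1 ∧ z ∉ A ∧ z ^ p ∈ A := by
    classical
    have hex : ∃ k, y ^ p ^ k ∈ A := ⟨n, by rw [hyn]; exact A.one_mem⟩
    obtain ⟨k, hk⟩ : ∃ k, Nat.find hex = k + 1 := by
      rcases Nat.eq_zero_or_pos (Nat.find hex) with h0 | h0
      · exfalso
        have := Nat.find_spec hex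
        rw [h0, pow_zero, pow_one] at this
        exact hyA this
      · exact ⟨_, (Nat.succ_pred_eq_of_pos h0).symm⟩
    refine ⟨y ^ p ^ k, (L j).pow_mem hyj _, C.pow_mem hyC _, ?_, Nat.find_min hex (by omega), ?_⟩
    · rw [← pow_mul, mul_comm, pow_mul, hyn, one_pow]
    · rw [← pow_mul, ← pow_succ, ← hk]
      exact Nat.find_spec hex
  have hj0 : j ≠ 0 := by
    rintro rfl
    exact hzA (hL0.le hzj)
  -- a product of `z⁻¹` and a conjugate of `z` with commutator in `A` has exponent `p ^ n`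
  have hexp : ∀ g : G, ⁅⁅z, g⁆, z⁆ ∈ A → ⁅z, g⁆ ∈ C → ⁅z, g⁆ ^ p ^ n = 1 := by
    intro g hzg hgC
    set w := g * z⁻¹ * g⁻¹ with hw
    have hwC : w ∈ C := (inferInstance : C.Normal).conj_mem _ (C.inv_mem hzC) g
    have hu : ⁅z, g⁆ = z * w := by rw [hw, commutatorElement_def]; group
    have hcA : ⁅w, z⁆ ∈ A := by
      have : ⁅w, z⁆ = z⁻¹ * ⁅⁅z, g⁆, z⁆ * z⁻¹⁻¹ := by
        simp only [hw, commutatorElement_def]; group
      rw [this]
      exact hN.conj_mem _ hzg z⁻¹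
    have hc1 : ⁅z, w⁆ ^ p = 1 := by
      have hcA' : ⁅z, w⁆ ∈ A := by rw [← commutatorElement_inv]; exact A.inv_mem hcA
      rw [← commutatorElement_pow_left_of_central z w (hAZ _ hcA' z hzC),
        commutatorElement_eq_one_iff_mul_comm]
      exact ((hAZ _ hzp w hwC).symm).eq
    have hc2 : ⁅w, z⁆ ^ p = 1 := by rw [← commutatorElement_inv, inv_pow, hc1, inv_one]
    have hwn : w ^ p ^ n = 1 := by rw [hw, conj_pow, inv_pow, hzn]; simp
    obtain ⟨t, ht⟩ := prime_dvd_choose_two hn hn0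
    rw [hu, mul_pow_of_central_commutator z w (hAZ _ hcA z hzC) (hAZ _ hcA w hwC), hzn, hwn, ht,
      pow_mul, hc2]
    simp
  have hrec : ∀ i, i < j → ∀ u, u ∈ L i → u ∈ C → ⁅z, u⁆ ∈ A := by
    intro i
    induction i with
    | zero =>
        intro _ u hu _
        have : ⁅z, u⁆ = 1 :=
          commutatorElement_eq_one_iff_mul_comm.mpr (hAZ u (hL0.le hu) z hzC).eq
        rw [this]
        exact A.one_mem
    | succ i ih =>
        intro hij u hu huC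
        have h1 : ⁅z, u⁆ ∈ L i := by
          rw [← commutatorElement_inv]
          exact (L i).inv_mem (hLsucc i u hu z)
        have h2 : ⁅z, u⁆ ∈ C := by
          rw [commutatorElement_def]
          exact C.mul_mem (C.mul_mem (C.mul_mem hzC huC) (C.inv_mem hzC)) (C.inv_mem huC)
        have h3 : ⁅⁅z, u⁆, z⁆ ∈ A := by
          rw [← commutatorElement_inv]
          exact A.inv_mem (ih (by omega) _ h1 h2)
        exact hjmin i (by omega) _ h1 h2 (hexp u h3 h2)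
  have hzg : ∀ g : G, ⁅g, z⁆ ∈ A := by
    intro g
    obtain ⟨i, rfl⟩ : ∃ i, j = i + 1 := ⟨j - 1, by omega⟩
    have h1 : ⁅z, g⁆ ∈ L i := hLsucc i z hzj g
    have h2 : ⁅z, g⁆ ∈ C := by
      have : ⁅z, g⁆ = z * (g * z⁻¹ * g⁻¹) := by rw [commutatorElement_def]; group
      rw [this]
      exact C.mul_mem hzC ((inferInstance : C.Normal).conj_mem _ (C.inv_mem hzC) g)
    have h3 : ⁅⁅z, g⁆, z⁆ ∈ A := by
      rw [← commutatorElement_inv]
      exact A.inv_mem (hrec i (by omega) _ h1 h2)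
    rw [← commutatorElement_inv]
    exact A.inv_mem (hjmin i (by omega) _ h1 h2 (hexp g h3 h2))
  have hB := isMulCommutative_sup_zpowers hA hzC.1
  have hBe : ∀ b ∈ A ⊔ Subgroup.zpowers z, b ^ p ^ n = 1 := by
    intro b hb
    obtain ⟨a, ha, c, ⟨k, rfl⟩, rfl⟩ := Subgroup.mem_sup_of_normal_left.mp hb
    have : Commute a (z ^ k) := ((hAZ a ha z hzC).zpow_left k).symm
    rw [this.mul_pow, hAe a ha, one_mul, ← zpow_natCast, ← zpow_mul, mul_comm, zpow_mul,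
      zpow_natCast, hzn, one_zpow]
  have := hmax _ (normal_sup_zpowers hzg) (sup_le hAR (Subgroup.zpowers_le.2 hzC.2)) hB hBe le_sup_left
  exact hzA (this.le (le_sup_right (a := A) (Subgroup.mem_zpowers z)))

theorem exists_maximal_within [Finite G] (R : Subgroup G) (q : ℕ) :
    ∃ A : Subgroup G, A.Normal ∧ A ≤ R ∧ IsMulCommutative A ∧ (∀ a ∈ A, a ^ q = 1) ∧
      ∀ B : Subgroup G, B.Normal → B ≤ R → IsMulCommutative B → (∀ b ∈ B, b ^ q = 1) → A ≤ B → B = A := by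
  obtain ⟨A, ⟨hn, hR, hc, he⟩, hmax⟩ :=
    (Set.toFinite {A : Subgroup G | A.Normal ∧ A ≤ R ∧ IsMulCommutative A ∧ ∀ a ∈ A, a ^ q = 1}).exists_maximal
      ⟨⊥, inferInstance, bot_le, inferInstance, fun a ha => by rw [Subgroup.mem_bot.1 ha, one_pow]⟩
  exact ⟨A, hn, hR, hc, he, fun B hBn hBR hBc hBe hAB => le_antisymm (hmax ⟨hBn, hBR, hBc, hBe⟩ hAB) hAB⟩

variable [Fact p.Prime] {Q : Type*} [Group Q] [Finite Q] {n : ℕ}

/-- An automorphism of order prime to `p` fixing a maximal normal abelian subgroup of exponent `p ^ n`. -/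
theorem eq_one_of_fix_within (hQ : IsPGroup p Q) (hn : p ^ n ≠ 2) (hn0 : 1 ≤ n) {A R : Subgroup Q} [hA : A.Normal] [R.Normal]
    (hAR : A ≤ R)
    (hc : IsMulCommutative A) (he : ∀ a ∈ A, a ^ p ^ n = 1)
    (hmax : ∀ B : Subgroup Q, B.Normal → B ≤ R → IsMulCommutative B → (∀ b ∈ B, b ^ p ^ n = 1) → A ≤ B → B = A)
    (γ : MulAut Q) (hcop : (orderOf γ).Coprime p) (hγR : ∀ y : Q, y⁻¹ * γ y ∈ R) (hfix : ∀ a ∈ A, γ a = a) : γ = 1 := by
  let G := SemidirectProduct Q (MulAut Q) (MonoidHom.id _)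
  haveI : Finite (MulAut Q) := Finite.of_injective (fun f => (f : Q → Q)) DFunLike.coe_injective
  haveI : Finite G := Finite.of_equiv _ SemidirectProduct.equivProd.symm
  let x : G := SemidirectProduct.inr γ
  have hconj : ∀ h : Q, x * SemidirectProduct.inl h * x⁻¹ = SemidirectProduct.inl (γ h) := fun h =>
    ((congrArg (fun y => SemidirectProduct.inr γ * SemidirectProduct.inl h * y)
      (map_inv (SemidirectProduct.inr : MulAut Q →* G) γ)).symm.trans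
        (SemidirectProduct.inl_aut (φ := MonoidHom.id _) γ h).symm)
  let C : Subgroup G := ((Subgroup.centralizer (A : Set Q) ⊓ R)).map SemidirectProduct.inl
  have hCfix : ∀ c ∈ (Subgroup.centralizer (A : Set Q) ⊓ R), γ c = c := by
    intro c hcC
    have hcent := PowFix.centralizes_of_pow (p := p) (q := p ^ n) (dvd_pow_self p (by omega))
      (PGroups.prime_dvd_choose_two hn hn0) (x := x) (Q := C) ?_ ?_ ?_ ?_ _ ⟨c, hcC, rfl⟩
    · have h1 := hconj c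
      rw [hcent, mul_inv_cancel_right] at h1
      exact (SemidirectProduct.inl_injective h1).symm
    · rwa [orderOf_injective _ SemidirectProduct.inr_injective]
    · exact (hQ.to_subgroup _).map _
    · refine Subgroup.mem_normalizer_iff.mpr fun g => ⟨?_, ?_⟩
      · rintro ⟨q, hq, rfl⟩
        refine ⟨γ q, ⟨fun a ha => ?_, ?_⟩, (hconj q).symm⟩
        · rw [← hfix a ha, ← map_mul, ← map_mul, hq.1 a ha]
        · simpa using R.mul_mem hq.2 (hγR q)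
      · rintro ⟨q, hq, hqe⟩
        refine ⟨γ⁻¹ q, ⟨fun a ha => γ.injective ?_, ?_⟩, ?_⟩
        · rw [map_mul, map_mul, MulAut.apply_inv_self, hfix a ha]
          exact hq.1 a ha
        · have h2 := hγR (γ⁻¹ q)
          rw [MulAut.apply_inv_self] at h2
          simpa using R.mul_mem hq.2 (R.inv_mem h2)
        · have h1 := hconj (γ⁻¹ q)
          rw [MulAut.apply_inv_self, hqe] at h1
          exact mul_left_cancel (mul_right_cancel h1)
    · rintro _ ⟨q, hq, rfl⟩ hqn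
      rw [← map_pow, ← map_one (SemidirectProduct.inl : Q →* G)] at hqn
      have hqA := mem_of_maximal_within hQ n hn hc he hAR hmax hq (SemidirectProduct.inl_injective hqn)
      have h1 := hconj q
      rw [hfix q hqA] at h1
      exact mul_inv_eq_iff_eq_mul.mp h1
  refine MulEquiv.ext fun y => ?_
  have hd : γ (y⁻¹ * γ y) = y⁻¹ * γ y := by
    refine hCfix _ ⟨fun a ha => ?_, hγR y⟩
    have h1 := hfix _ (hA.conj_mem a ha y)
    rw [map_mul, map_mul, map_inv, hfix a ha] at h1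
    calc a * (y⁻¹ * γ y) = y⁻¹ * (y * a * y⁻¹) * γ y := by group
      _ = y⁻¹ * γ y * a := by rw [← h1]; group
  have hpow : ∀ j : ℕ, (γ ^ j) y = y * (y⁻¹ * γ y) ^ j := by
    intro j
    induction j with
    | zero => simp
    | succ j ih => rw [pow_succ', MulAut.mul_apply, ih, map_mul, map_pow, hd, pow_succ', ← mul_assoc,
        mul_inv_cancel_left]
  have h1 := hpow (orderOf γ)
  rw [pow_orderOf_eq_one, MulAut.one_apply, left_eq_mul] at h1
  obtain ⟨j, hj⟩ := hQ (y⁻¹ * γ y)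
  have h2 := Nat.dvd_gcd (orderOf_dvd_of_pow_eq_one hj) (orderOf_dvd_of_pow_eq_one h1)
  rw [(hcop.symm).pow_left j, Nat.dvd_one, orderOf_eq_one_iff, inv_mul_eq_one] at h2
  exact h2.symm

/-- A subgroup containing a Sylow subgroup and all elements of order prime to `p` is everything. -/
theorem eq_top_of_sylow_of_coprime {X : Type*} [Group X] [Finite X] {K : Subgroup X} (W : Sylow p X)
    (hW : (W : Subgroup X) ≤ K) (hK : ∀ x : X, (orderOf x).Coprime p → x ∈ K) : K = ⊤ := by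
  rw [← Subgroup.index_eq_one]
  by_contra hne
  obtain ⟨q, hq, hqd⟩ := Nat.exists_prime_and_dvd hne
  haveI : Fact q.Prime := ⟨hq⟩
  obtain ⟨Y⟩ : Nonempty (Sylow q X) := inferInstance
  have hY : ∃ Y : Sylow q X, (Y : Subgroup X) ≤ K := by
    by_cases h : q = p
    · subst h
      exact ⟨W, hW⟩
    · refine ⟨Y, fun y hy => hK y ?_⟩
      obtain ⟨j, hj⟩ := Y.isPGroup' ⟨y, hy⟩
      exact Nat.Coprime.coprime_dvd_left (orderOf_dvd_of_pow_eq_one (congrArg Subtype.val hj))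
        (((Nat.coprime_primes hq Fact.out).2 h).pow_left j)
  obtain ⟨Y, hYK⟩ := hY
  exact Y.not_dvd_index (hqd.trans (Subgroup.index_dvd_of_le hYK))

end Group

variable {Ω : Type*} [Group Ω]

/-- `T` absorbs the movements by automorphisms of order prime to `p` and is invariant. -/
structure Controls (p : ℕ) (T : Subgroup Ω) {S : Subgroup Ω} (F : FusionSystem S) : Prop where
  conj : ∀ g ∈ S, ∀ x ∈ T, g * x * g⁻¹ ∈ T
  map : ∀ (A : Subgroup Ω) (φ : A →* Ω), φ ∈ F.Hom A → A ≤ T → φ.range ≤ T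
  comm : ∀ P : Subgroup Ω, P ≤ S → ∀ α : MulAut P, α ∈ F.autGroup P → (orderOf α).Coprime p →
    ∀ x : P, (x : Ω)⁻¹ * ((α x : P) : Ω) ∈ T

theorem Controls.sub {p : ℕ} {T S S' : Subgroup Ω} {F : FusionSystem S} {D : FusionSystem S'}
    (h : Controls p T F) (hle : S' ≤ S) (hD : D.IsSubsystemOf F) : Controls p T D :=
  ⟨fun g hg => h.conj g (hle hg), fun A φ hφ => h.map A φ (hD A hφ), fun P hP α hα =>
    h.comm P (hP.trans hle) α ((mem_autGroup (hP.trans hle)).2 (hD P ((mem_autGroup hP).1 hα)))⟩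

theorem controls_hyperfocal {p : ℕ} [Fact p.Prime] {S : Subgroup Ω} [Finite S] (hS : IsPGroup p S)
    {F : FusionSystem S} (hF : F.IsSaturated p) : Controls p (F.hyperfocalSubgroup p) F := by
  refine ⟨fun g hg x hx => Tate.hyperfocal_conj_mem hg hx, fun A φ hφ hA => ?_, fun P hP α hα hco x => ?_⟩
  · rintro _ ⟨x, rfl⟩
    exact (Tate.hyperfocal_stronglyClosed hS hF).2 A hA φ hφ x
  · exact Tate.hyperfocal_gen_mem hP (α := ⟨α, hα⟩)
      (Subgroup.subset_closure (show (orderOf (⟨α, hα⟩ : F.autGroup P)).Coprime p by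
        rwa [Subgroup.orderOf_mk])) x

/-- A common map defined on a subgroup of `T` of small exponent. -/
def SameWithin {S : Subgroup Ω} (q : ℕ) (T : Subgroup Ω) (E F : FusionSystem S) : Prop :=
  ∀ A : Subgroup Ω, A ≤ T → (∀ a ∈ A, ∀ b ∈ A, a * b = b * a) → (∀ a ∈ A, a ^ q = 1) →
    ∀ φ ∈ F.Hom A, φ ∈ E.Hom A

theorem hom_subset {p : ℕ} [Fact p.Prime] {n : ℕ} (hn : p ^ n ≠ 2) (hn0 : 1 ≤ n) :
    ∀ (S : Subgroup Ω), Finite S → IsPGroup p S → ∀ (E F : FusionSystem S), E.IsSaturated p → F.IsSaturated p →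
      E.IsSubsystemOf F → ∀ T : Subgroup Ω, Controls p T F → SameWithin (p ^ n) T E F → F.IsSubsystemOf E := by
  suffices h : ∀ (k : ℕ) (S : Subgroup Ω), Finite S → IsPGroup p S → ∀ (E F : FusionSystem S),
      E.IsSaturated p → F.IsSaturated p → E.IsSubsystemOf F → ∀ T : Subgroup Ω, Controls p T F →
      SameWithin (p ^ n) T E F → (graphs F).ncard ≤ k → F.IsSubsystemOf E from
    fun S hfin hS E F hE hF hEF T hT hH => h _ S hfin hS E F hE hF hEF T hT hH le_rfl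
  intro k
  induction k using Nat.strong_induction_on with
  | _ k ih =>
  intro S hfin hS E F hE hF hEF T hT hH hk P φ hφ
  revert P φ
  refine hom_induction hS hF (M := fun P φ => φ ∈ E.Hom P) ?_ ?_ ?_
  · intro P P' φ ψ χ _ _ h he h1 h2
    obtain ⟨χ', hχ', e⟩ := exists_comp h1 h2 h
    exact hom_congr hχ' fun x => (he x).trans (e x).symm
  · intro P P' φ ψ h _ he h1
    obtain ⟨φ', hφ', e⟩ := exists_restrict h1 h
    exact hom_congr hφ' fun x => (he x).trans (e x).symm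
  intro P hPfn _ _ α₀ hα₀ _
  haveI := finite_sub hPfn.1
  suffices hco : ∀ α : MulAut P, α ∈ F.autGroup P → (orderOf α).Coprime p → α ∈ E.autGroup P by
    haveI : Finite (MulAut P) := Finite.of_injective (fun f => (f : P → P)) DFunLike.coe_injective
    obtain ⟨-, W, hW⟩ := fullyAutomized_of_fullyNormalized hS hF hPfn
    have htop : (E.autGroup P).subgroupOf (F.autGroup P) = ⊤ := by
      refine eq_top_of_sylow_of_coprime W ?_ fun x hx => hco x x.2 (by rwa [Subgroup.orderOf_coe])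
      intro x hx
      rw [hW, Subgroup.mem_subgroupOf] at hx
      exact autInducedBy_le_autGroup E hPfn.1 hx
    have h1 : (⟨α₀, hα₀⟩ : F.autGroup P) ∈ (E.autGroup P).subgroupOf (F.autGroup P) := htop ▸ Subgroup.mem_top _
    exact (mem_autGroup hPfn.1).1 h1
  intro α hα hαco
  refine (mem_autGroup hPfn.1).2 ?_
  have hP : IsPGroup p P := isPGroup_of_le hS hPfn.1
  haveI hTn : (T.subgroupOf P).Normal := ⟨fun x hx g => hT.conj g (hPfn.1 g.2) x hx⟩
  obtain ⟨A₀, hA₀, hAT₀, hc₀, he₀, hmax⟩ := exists_maximal_within (T.subgroupOf P) (p ^ n)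
  set A := A₀.map P.subtype with hA
  have hAP : A ≤ P := Subgroup.map_subtype_le _
  have hAS : A ≤ S := hAP.trans hPfn.1
  haveI := finite_sub hAS
  have hAT : A ≤ T := by
    rintro _ ⟨a, ha, rfl⟩
    exact hAT₀ ha
  have hAc : ∀ a ∈ A, ∀ b ∈ A, a * b = b * a := by
    rintro _ ⟨a, ha, rfl⟩ _ ⟨b, hb, rfl⟩
    exact congrArg Subtype.val (setLike_mul_comm (s := A₀) ha hb)
  have hAe : ∀ a ∈ A, a ^ p ^ n = 1 := by
    rintro _ ⟨a, ha, rfl⟩
    rw [← map_pow, he₀ a ha, map_one]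
  -- a fully normalized conjugate
  obtain ⟨Q, hAQ, hQE⟩ := exists_isFullyNormalized E hAS
  obtain ⟨σ₀, hσ₀, hσ₀r⟩ := hAQ
  have hQc : ∀ a ∈ Q, ∀ b ∈ Q, a * b = b * a := by
    intro a ha b hb
    obtain ⟨x, rfl⟩ := hσ₀r.ge ha
    obtain ⟨y, rfl⟩ := hσ₀r.ge hb
    rw [← map_mul, ← map_mul]
    exact congrArg σ₀ (Subtype.ext (hAc x x.2 y y.2))
  have hQe : ∀ a ∈ Q, a ^ p ^ n = 1 := by
    intro a ha
    obtain ⟨x, rfl⟩ := hσ₀r.ge ha
    rw [← map_pow, show x ^ p ^ n = 1 from Subtype.ext (hAe x x.2), map_one]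
  have hQT : Q ≤ T := hσ₀r.ge.trans (hT.map A σ₀ (hEF A hσ₀) hAT)
  have hQF : F.IsFullyNormalized Q :=
    ⟨hQE.1, fun R ⟨χ, hχ, hχr⟩ => hQE.2 R ⟨χ, hH Q hQT hQc hQe χ hχ, hχr⟩⟩
  haveI := finite_sub hQE.1
  by_cases hcentral : ∀ (R : Subgroup Ω) (χ : R →* Ω), χ ∈ F.Hom R → χ ∈ F.centralizerHom Q R
  · -- `Q` is central, so the automizer of `P` is a `p`-group
    have hfix : ∀ γ ∈ F.autGroup P, ∀ a ∈ A₀, γ a = a := by
      intro γ hγ a ha
      have haA : (a : Ω) ∈ A := ⟨a, ha, rfl⟩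
      obtain ⟨-, -, -, ψ, hψ, hψA, hψQ⟩ := hcentral A σ₀ (hEF A hσ₀)
      have hmem : σ₀ ⟨a, haA⟩ ∈ Q := hσ₀r.le ⟨_, rfl⟩
      have haQ : (a : Ω) ∈ Q := by
        have h1 := (hψQ ⟨_, hmem⟩).trans (hψA ⟨a, haA⟩).symm
        have h2 := congrArg Subtype.val (F.injective_of_mem hψ h1)
        exact (show σ₀ ⟨a, haA⟩ = a from h2) ▸ hmem
      obtain ⟨φ, hφ, -, hφγ⟩ := exists_hom_of_aut hPfn.1 hγ
      obtain ⟨-, -, -, ψ', -, hψ'P, hψ'Q⟩ := hcentral P φ hφ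
      apply Subtype.ext
      rw [← hφγ, ← hψ'P]
      exact (congrArg ψ' (Subtype.ext rfl)).trans (hψ'Q ⟨a, haQ⟩)
    have h1 : α = 1 := eq_one_of_fix_within hP hn hn0 hAT₀ hc₀ he₀ hmax α hαco
      (fun x => hT.comm P hPfn.1 α hα hαco x) (hfix α hα)
    exact (mem_autGroup hPfn.1).1 (h1 ▸ one_mem _)
  -- the centralizer systems coincide
  obtain ⟨FC, hFC⟩ := exists_centralizerSystem F hQF.1
  obtain ⟨EC, hEC⟩ := exists_centralizerSystem E hQE.1
  have hC : ∀ (R : Subgroup Ω) (χ : R →* Ω), χ ∈ F.centralizerHom Q R → χ ∈ E.Hom R := by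
    haveI : Finite (centralizerIn S Q) := finite_sub (centralizerIn_le Q)
    have hsubF : FC.IsSubsystemOf F := fun R χ h => by rw [hFC R] at h; exact h.1
    have hsub : EC.IsSubsystemOf FC := by
      intro R χ h
      rw [hEC] at h
      rw [hFC]
      obtain ⟨h1, h2, h3, ψ, hψ, h4⟩ := h
      exact ⟨hEF R h1, h2, h3, ψ, hEF _ hψ, h4⟩
    have hHC : SameWithin (p ^ n) T EC FC := by
      intro B hBT hBc hBe χ hχ
      rw [hFC] at hχ
      obtain ⟨h1, h2, h3, ψ, hψ, h4⟩ := hχ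
      rw [hEC]
      have hBQ : ∀ b ∈ B, ∀ q ∈ Q, b * q = q * b := fun b hb q hq => ((h2 hb).2 q hq).symm
      have hnorm : ∀ b ∈ B, ∀ q ∈ Q, b * q * b⁻¹ ∈ Q := fun b hb q hq => by
        rw [hBQ b hb q hq, mul_inv_cancel_right]; exact hq
      refine ⟨hH B hBT hBc hBe χ h1, h2, h3, ψ, hH _ (sup_le hBT hQT) ?_ ?_ ψ hψ, h4⟩
      · intro a ha b hb
        obtain ⟨a₁, ha₁, a₂, ha₂, rfl⟩ := StronglyClosed.exists_mul_of_mem_sup hnorm ha
        obtain ⟨b₁, hb₁, b₂, hb₂, rfl⟩ := StronglyClosed.exists_mul_of_mem_sup hnorm hb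
        exact Commute.mul_left (Commute.mul_right (hBc a₁ ha₁ b₁ hb₁) (hBQ a₁ ha₁ b₂ hb₂))
          (Commute.mul_right (hBQ b₁ hb₁ a₂ ha₂).symm (hQc a₂ ha₂ b₂ hb₂))
      · intro a ha
        obtain ⟨a₁, ha₁, a₂, ha₂, rfl⟩ := StronglyClosed.exists_mul_of_mem_sup hnorm ha
        rw [(show Commute a₁ a₂ from hBQ a₁ ha₁ a₂ ha₂).mul_pow, hBe a₁ ha₁, hQe a₂ ha₂, one_mul]
    have hlt : (graphs FC).ncard < (graphs F).ncard := by
      refine Set.ncard_lt_ncard (Set.ssubset_iff_subset_ne.2 ⟨graphs_mono hsubF, fun heq => ?_⟩) (finite_graphs F)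
      refine hcentral fun R χ hχ => ?_
      rw [← hFC R]
      exact mem_of_graph (heq ▸ ⟨R, χ, hχ, rfl⟩)
    intro R χ hχ
    have h := ih _ (hlt.trans_le hk) _ ‹_› (isPGroup_of_le hS (centralizerIn_le Q)) EC FC
      (centralizerSystem_isSaturated hS hE (fullyNormalized_props hS hE hQE).1 hEC)
      (centralizerSystem_isSaturated hS hF (fullyNormalized_props hS hF hQF).1 hFC) hsub T (hT.sub (centralizerIn_le Q) hsubF) hHC le_rfl R
      (by rw [hFC]; exact hχ)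
    rw [hEC] at h
    exact h.1
  -- transport `α` to `Q`
  obtain ⟨φ, hφ, hφr, hφα⟩ := exists_hom_of_aut hPfn.1 hα
  obtain ⟨β, hβF, eβ⟩ := exists_restrict hφ hAP
  have hβE : β ∈ E.Hom A := hH A hAT hAc hAe β hβF
  set B := β.range with hB
  obtain ⟨σA, hσA, -, hσAQ⟩ := exists_normalizer_map hS hE hQE ⟨σ₀, hσ₀, hσ₀r⟩
  obtain ⟨σB, hσB, -, hσBQ⟩ :=
    exists_normalizer_map hS hE hQE (isConj_trans (isConj_symm ⟨β, hβE, rfl⟩) ⟨σ₀, hσ₀, hσ₀r⟩)
  have hPA : P ≤ normalizerIn S A := le_inf hPfn.1 (Subgroup.le_normalizer_iff.2 fun g hg x hx => by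
    obtain ⟨a, ha, rfl⟩ := hx
    exact ⟨⟨g, hg⟩ * a * ⟨g, hg⟩⁻¹, hA₀.conj_mem a ha _, rfl⟩)
  have hPB : P ≤ normalizerIn S B := le_inf hPfn.1 (Subgroup.le_normalizer_iff.2 fun g hg x hx => by
    obtain ⟨a, rfl⟩ := hx
    obtain ⟨g', hg'⟩ : ∃ g' : P, φ g' = g := hφr.ge hg
    refine ⟨⟨(g' : Ω) * a * (g' : Ω)⁻¹, conj_mem_of_normalizer (hPA g'.2).2 a.2⟩, ?_⟩
    rw [eβ, eβ, ← hg', ← map_inv, ← map_mul, ← map_mul]
    rfl)
  obtain ⟨sA, hsA, esA⟩ := exists_restrict hσA hPA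
  obtain ⟨sB, hsB, esB⟩ := exists_restrict hσB hPB
  set P₁ := sA.range with hP₁
  obtain ⟨θA, hθA, hθAr, hθl, hθr⟩ := exists_inv hsA rfl
  have hθP : ∀ y, θA y ∈ P := fun y => hθAr.le ⟨y, rfl⟩
  obtain ⟨τ, hτ, eτ⟩ := exists_comp (hEF _ hθA) hφ hθP
  have hτP : ∀ y, τ y ∈ P := fun y => hφr.le ⟨⟨θA y, hθP y⟩, (eτ y).symm⟩
  obtain ⟨ω, hω, eω⟩ := exists_comp hτ (hEF _ hsB) hτP
  have hQP₁ : Q ≤ P₁ := by
    intro y hy
    obtain ⟨a, ha, rfl⟩ := hσAQ.ge hy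
    exact ⟨⟨a, hAP (Subgroup.mem_subgroupOf.1 ha)⟩, esA _⟩
  have hP₁Q : P₁ ≤ normalizerIn S Q := by
    refine le_inf (range_le_base hsA) ?_
    rintro _ ⟨g, rfl⟩
    haveI := finite_sub hQE.1
    refine mem_normalizer_of_conj_mem fun y hy => ?_
    obtain ⟨a, ha, rfl⟩ := hσAQ.ge hy
    rw [esA, ← map_inv, ← map_mul, ← map_mul]
    exact hσAQ.le ⟨_, Subgroup.mem_subgroupOf.2 (conj_mem_of_normalizer (hPA g.2).2 (Subgroup.mem_subgroupOf.1 ha)), rfl⟩
  obtain ⟨ω₀, hω₀, eω₀⟩ := exists_restrict hω hQP₁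
  have hω₀E : ω₀ ∈ E.Hom Q := hH Q hQT hQc hQe ω₀ hω₀
  have hω₀Q : ∀ y, ω₀ y ∈ Q := by
    intro y
    obtain ⟨a, ha, hay⟩ := hσAQ.ge y.2
    have haA : (a : Ω) ∈ A := Subgroup.mem_subgroupOf.1 ha
    have h2 : θA ⟨y, hQP₁ y.2⟩ = a := by
      have h := hθl ⟨a, hAP haA⟩ ⟨_, rfl⟩
      refine Eq.trans (congrArg θA (Subtype.ext ?_)) h
      exact hay.symm.trans (esA ⟨a, hAP haA⟩).symm
    rw [eω₀, eω, esB]
    refine hσBQ.le ⟨_, Subgroup.mem_subgroupOf.2 ⟨⟨a, haA⟩, ?_⟩, rfl⟩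
    show β _ = τ ⟨(y : Ω), hQP₁ y.2⟩
    rw [eβ, eτ]
    exact congrArg φ (Subtype.ext h2.symm)
  have hω₀r : ω₀.range = Q := range_eq_of_mem hω₀E hω₀Q le_rfl
  have hωQ : ∀ g, ω g ∈ normalizerIn S Q := fun g => by
    refine ⟨apply_mem hω g, mem_normalizer_of_conj_mem fun y hy => ?_⟩
    obtain ⟨z, rfl⟩ := hω₀r.ge hy
    have hz : (g : Ω) * z * (g : Ω)⁻¹ ∈ Q := conj_mem_of_normalizer (hP₁Q g.2).2 z.2
    rw [eω₀, ← map_inv, ← map_mul, ← map_mul]
    have h := hω₀Q ⟨_, hz⟩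
    rw [eω₀] at h
    exact h
  obtain ⟨γ, hγ, eγ⟩ := exists_extend_aut (receptive_of_fullyNormalized hS hE hQE) hP₁Q
    (homEquiv_mem_autGroup hω₀E hω₀r) fun g hg => ⟨ω ⟨g, hg⟩, apply_mem hω _, fun x hx => by
      rw [homEquiv_coe, homEquiv_coe, eω₀, eω₀, ← map_inv, ← map_mul, ← map_mul]
      rfl⟩
  set P₃ := γ.range with hP₃
  obtain ⟨γi, hγi, hγir, hγil, -⟩ := exists_inv hγ rfl
  have hγiP : ∀ y, γi y ∈ P₁ := fun y => hγir.le ⟨y, rfl⟩
  obtain ⟨δ, hδ, eδ⟩ := exists_comp (hEF _ hγi) hω hγiP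
  have hQP₃ : Q ≤ P₃ := by
    intro y hy
    obtain ⟨z, hz⟩ := hω₀r.ge hy
    refine ⟨⟨z, hQP₁ z.2⟩, ?_⟩
    rw [eγ _ z.2, homEquiv_coe]
    exact hz
  have hδQ : ∀ y : Q, δ ⟨y, hQP₃ y.2⟩ = y := by
    intro y
    obtain ⟨z, hz⟩ := hω₀r.ge y.2
    have h1 : γ ⟨z, hQP₁ z.2⟩ = (y : Ω) := by rw [eγ _ z.2, homEquiv_coe]; exact hz
    have h2 : γi ⟨y, hQP₃ y.2⟩ = (z : Ω) := by
      have h := hγil ⟨z, hQP₁ z.2⟩ ⟨_, rfl⟩
      exact Eq.trans (congrArg γi (Subtype.ext h1.symm)) h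
    rw [eδ]
    refine Eq.trans ?_ hz
    rw [eω₀]
    exact congrArg ω (Subtype.ext h2)
  have hNQ : ∀ g ∈ normalizerIn S Q, g ∈ kNorm S Q.subtype (autInducedBy S Q) := fun g hg =>
    ⟨hg.1, Q.normalizerMonoidHom ⟨g, hg.2⟩, mem_autInducedBy.2 ⟨g, hg.1, fun _ => rfl⟩, fun _ => rfl⟩
  have hδE : δ ∈ E.Hom P₃ := by
    refine KSystemControl.kHom_subset hS hE hF hEF hQE hQF hQc hC P₃ δ ?_
    obtain ⟨δ', hδ', eδ'⟩ := exists_restrict hδ (sup_le le_rfl hQP₃ : P₃ ⊔ Q ≤ P₃)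
    refine ⟨hδ, ?_, fun y => ?_, δ', hδ', fun x => eδ' _, 1, one_mem _, fun y => (eδ' _).trans (hδQ y)⟩
    · intro y hy
      obtain ⟨g, rfl⟩ := hy
      refine hNQ _ ⟨apply_mem hγ g, ?_⟩
      exact ext_apply_mem_normalizer hQP₁ (fun x hx hxR => (eγ x hx hxR).trans (homEquiv_coe hω₀E hω₀r _))
        hω₀r g (hP₁Q g.2).2
    · rw [eδ]
      exact hNQ _ (hωQ _)
  -- assemble
  have hγP₃ : ∀ y, γ y ∈ P₃ := fun y => ⟨y, rfl⟩
  obtain ⟨ω', hω', eω'⟩ := exists_comp hγ hδE hγP₃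
  have hωE : ω ∈ E.Hom P₁ := hom_congr hω' fun y => by
    rw [eω', eδ]
    exact congrArg ω (Subtype.ext (hγil y _).symm)
  obtain ⟨θB, hθB, -, hθBl, -⟩ := exists_inv hsB rfl
  obtain ⟨μ, hμ, eμ⟩ := exists_comp hsA hωE fun x => ⟨x, rfl⟩
  have hμB : ∀ x, μ x ∈ sB.range := fun x => by rw [eμ, eω]; exact ⟨_, rfl⟩
  obtain ⟨ν, hν, eν⟩ := exists_comp hμ hθB hμB
  refine hom_congr hν fun x => ?_
  show ((α x : P) : Ω) = ν x
  rw [eν, ← hφα]
  have h : μ x = sB ⟨φ x, hφr.le ⟨x, rfl⟩⟩ := by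
    rw [eμ, eω]
    refine congrArg sB (Subtype.ext ?_)
    show τ _ = φ x
    rw [eτ]
    exact congrArg φ (Subtype.ext (hθl x _))
  exact Eq.trans (hθBl ⟨φ x, hφr.le ⟨x, rfl⟩⟩ ⟨_, rfl⟩).symm (congrArg θB (Subtype.ext h.symm))

end Cfsg.Agent.Lib.FusionEssential.HyperfocalControl
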