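import Mathlib

/-!
# Invariant lines for abelian groups of automorphisms of exponent dividing `p - 1`
-/

set_option autoImplicit false

namespace Cfsg.Agent.Lib.FusionEssential.InvariantLine

open Polynomial

/-- An endomorphism `f` of a nontrivial elementary abelian `p`-group with `f ^ (p-1) = 1` has an eigenvector. -/
theorem exists_eigen {p : ℕ} [Fact p.Prime] {A : Type*} [AddCommGroup A] [Finite A] [Nontrivial A]
    (hA : ∀ a : A, p • a = 0) (f : A →+ A) (hf : ∀ a, f^[p - 1] a = a) :
    ∃ (v : A) (k : ℕ), v ≠ 0 ∧ f v = k • v := by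
  letI : Module (ZMod p) A := AddCommGroup.zmodModule (n := p) (G := A) hA
  let g : Module.End (ZMod p) A := f.toZModLinearMap p
  have hgp : g ^ p = g := by
    refine LinearMap.ext fun a => ?_
    rw [Module.End.pow_apply]
    show f^[p] a = f a
    conv_lhs => rw [← Nat.sub_add_cancel (Fact.out : p.Prime).one_le, Function.iterate_succ_apply', hf]
  have hg : aeval g (X ^ p - X : (ZMod p)[X]) = g - g := by
    rw [map_sub, map_pow, aeval_X, hgp]
  rw [sub_self] at hg
  have hne : (X ^ p - X : (ZMod p)[X]) ≠ 0 :=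
    FiniteField.X_pow_card_sub_X_ne_zero (ZMod p) (Fact.out : p.Prime).one_lt
  have hsplit : (X ^ p - X : (ZMod p)[X]).Splits := by
    rw [splits_iff_card_roots, FiniteField.X_pow_card_sub_X_natDegree_eq _ (Fact.out : p.Prime).one_lt]
    have := FiniteField.roots_X_pow_card_sub_X (ZMod p)
    rw [ZMod.card] at this
    rw [this]
    simp
  haveI : Module.Finite (ZMod p) A := Module.Finite.of_finite
  have hdeg : (minpoly (ZMod p) g).degree ≠ 0 :=
    (minpoly.degree_pos (Algebra.IsIntegral.isIntegral g)).ne'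
  obtain ⟨μ, hμ⟩ := (hsplit.of_dvd hne (minpoly.dvd _ g hg)).exists_eval_eq_zero hdeg
  obtain ⟨v, hv⟩ := (Module.End.hasEigenvalue_of_isRoot hμ).exists_hasEigenvector
  refine ⟨v, μ.val, hv.2, ?_⟩
  show g v = μ.val • v
  rw [hv.apply_eq_smul, ← Nat.cast_smul_eq_nsmul (ZMod p), ZMod.natCast_zmod_val]

/-- An abelian group of automorphisms of exponent dividing `p - 1` of a nontrivial finite `p`-group
normalises a central subgroup of order `p`. -/
theorem exists_line {p : ℕ} [Fact p.Prime] {G : Type*} [Group G] [Finite G] [Nontrivial G]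
    (hG : IsPGroup p G) (H : Set (MulAut G)) (hcomm : ∀ a ∈ H, ∀ b ∈ H, a * b = b * a)
    (hpow : ∀ a ∈ H, a ^ (p - 1) = 1) :
    ∃ v : G, v ∈ Subgroup.center G ∧ v ≠ 1 ∧ v ^ p = 1 ∧ ∀ a ∈ H, a v ∈ Subgroup.zpowers v := by
  classical
  haveI := hG.center_nontrivial
  let Good : Subgroup G → Prop := fun U => U ≠ ⊥ ∧ U ≤ Subgroup.center G ∧ (∀ v ∈ U, v ^ p = 1) ∧
    ∀ a ∈ H, ∀ v ∈ U, a v ∈ U
  have hex : ∃ U, Good U := by
    let V : Subgroup G :=
      { carrier := {v | v ∈ Subgroup.center G ∧ v ^ p = 1}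
        one_mem' := ⟨one_mem _, one_pow _⟩
        mul_mem' := fun {a b} ha hb => ⟨mul_mem ha.1 hb.1, by
          rw [(show Commute a b from (Subgroup.mem_center_iff.1 ha.1 b).symm).mul_pow, ha.2, hb.2, one_mul]⟩
        inv_mem' := fun {a} ha => ⟨inv_mem ha.1, by rw [inv_pow, ha.2, inv_one]⟩ }
    refine ⟨V, ?_, fun v hv => hv.1, fun v hv => hv.2, fun a _ v hv => ⟨?_, by rw [← map_pow, hv.2, map_one]⟩⟩
    · obtain ⟨n, hn, hcard⟩ := (hG.to_subgroup (Subgroup.center G)).nontrivial_iff_card.1 ‹_›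
      obtain ⟨v, hv⟩ := exists_prime_orderOf_dvd_card' p
        (show p ∣ Nat.card (Subgroup.center G) by rw [hcard]; exact dvd_pow_self p hn.ne')
      intro hb
      have hm : (v : G) ∈ V := ⟨v.2, by rw [← Subgroup.coe_pow, ← hv, pow_orderOf_eq_one, Subgroup.coe_one]⟩
      rw [hb, Subgroup.mem_bot] at hm
      rw [show v = 1 from Subtype.ext hm, orderOf_one] at hv
      exact (Fact.out : p.Prime).ne_one hv.symm
    · refine Subgroup.mem_center_iff.2 fun w => ?_
      obtain ⟨w, rfl⟩ := a.surjective w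
      rw [← map_mul, ← map_mul, Subgroup.mem_center_iff.1 hv.1 w]
  obtain ⟨U, hU, hmin⟩ := WellFounded.has_min
    (wellFounded_lt : WellFounded ((· < ·) : Subgroup G → Subgroup G → Prop)) {U | Good U} hex
  obtain ⟨hne, hcen, hexp, hinv⟩ := hU
  haveI : Nontrivial U := (Subgroup.nontrivial_iff_ne_bot U).2 hne
  have hscalar : ∀ a ∈ H, ∀ v ∈ U, a v ∈ Subgroup.zpowers v := by
    intro a ha
    letI : CommGroup U := { (inferInstance : Group U) with
      mul_comm := fun x y => Subtype.ext (Subgroup.mem_center_iff.1 (hcen y.2) x) }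
    let f₀ : U →* U := ((a : MulAut G).toMonoidHom.comp U.subtype).codRestrict U fun v => hinv a ha v v.2
    have hit : ∀ j (v : U), ((f₀^[j] v : U) : G) = (a ^ j) v := by
      intro j v
      induction j with
      | zero => rfl
      | succ j ih =>
        rw [Function.iterate_succ_apply', pow_succ', MulAut.mul_apply, ← ih]
        rfl
    obtain ⟨v, k, hv, hvk⟩ := exists_eigen (p := p) (A := Additive U)
      (fun x => Subtype.ext (hexp _ (Additive.toMul x).2)) f₀.toAdditive (fun x => by
        refine Subtype.ext ?_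
        show ((f₀^[p - 1] (Additive.toMul x) : U) : G) = (Additive.toMul x : U)
        rw [hit, hpow a ha]; rfl)
    let E : Subgroup G :=
      { carrier := {w | w ∈ U ∧ a w = w ^ k}
        one_mem' := ⟨one_mem _, by rw [map_one, one_pow]⟩
        mul_mem' := fun {x y} hx hy => ⟨mul_mem hx.1 hy.1, by
          rw [map_mul, hx.2, hy.2, (show Commute x y from Subgroup.mem_center_iff.1 (hcen hy.1) x).mul_pow]⟩
        inv_mem' := fun {x} hx => ⟨inv_mem hx.1, by rw [map_inv, hx.2, inv_pow]⟩ }
    have hgood : Good E := by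
      refine ⟨?_, fun w hw => hcen hw.1, fun w hw => hexp w hw.1, fun b hb w hw => ⟨hinv b hb w hw.1, ?_⟩⟩
      · intro hb
        have hm : ((Additive.toMul v : U) : G) ∈ E := ⟨(Additive.toMul v : U).2, congrArg Subtype.val hvk⟩
        rw [hb, Subgroup.mem_bot] at hm
        exact hv (Subtype.ext hm)
      · rw [← MulAut.mul_apply, hcomm a ha b hb, MulAut.mul_apply, hw.2, map_pow]
    intro w hw
    have hEU : U ≤ E := by
      by_contra hnot
      exact hmin E hgood (lt_of_le_not_ge (fun w hw => hw.1) hnot)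
    rw [(hEU hw).2]
    exact pow_mem (Subgroup.mem_zpowers w) k
  obtain ⟨v, hv, hv1⟩ := (U.bot_or_exists_ne_one).resolve_left hne
  exact ⟨v, hcen hv, hv1, hexp v hv, fun a ha => hscalar a ha v hv⟩

end Cfsg.Agent.Lib.FusionEssential.InvariantLine
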