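import Cfsg.Prelude.Def_Transfer
import Cfsg.Agent.Lib.PGroups.MaxAbelian
import Cfsg.Agent.Lib.PGroups.Frattini
import Cfsg.Agent.Lib.Cores.Basic
import Cfsg.Agent.Lib.Spectrum.HuppertRegular
import Cfsg.Agent.Lib.FusionP3.GenExtra.Iso

/-!
Groups of order `p⁴`: either a chain of characteristic subgroups with steps of order `p`, or one of the few
shapes of essential subgroups of this order.
-/

set_option autoImplicit false
set_option linter.style.haveILetI false

namespace Cfsg.Agent.Lib.FusionEssential.OrderFour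

open Cfsg
open scoped commutatorElement

/-- Invariant under every automorphism. -/
def Inv {H : Type*} [Group H] (A : Subgroup H) : Prop := ∀ γ : MulAut H, ∀ x ∈ A, γ x ∈ A

theorem Inv.normal {H : Type*} [Group H] {A : Subgroup H} (h : Inv A) : A.Normal :=
  ⟨fun x hx g => h (MulAut.conj g) x hx⟩

/-- A chain of characteristic subgroups of orders `p`, `p²`, `p³`. -/
def CharChain (p : ℕ) (H : Type*) [Group H] : Prop :=
  ∃ A B C : Subgroup H, A ≤ B ∧ B ≤ C ∧ Nat.card A = p ∧ Nat.card B = p ^ 2 ∧ Nat.card C = p ^ 3 ∧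
    Inv A ∧ Inv B ∧ Inv C

theorem inv_range {H : Type*} [CommGroup H] (m : ℕ) : Inv (powMonoidHom m : H →* H).range := by
  rintro γ _ ⟨y, rfl⟩
  exact ⟨γ y, (map_pow γ y m).symm⟩

theorem inv_ker {H : Type*} [CommGroup H] (m : ℕ) : Inv (powMonoidHom m : H →* H).ker := by
  intro γ x hx
  show γ x ^ m = 1
  rw [← map_pow, show x ^ m = 1 from hx, map_one]

section

variable {p : ℕ} [hp : Fact p.Prime] {H : Type*} [Group H] [Finite H]

/-- A proper inclusion multiplies the order by at least `p`. -/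
theorem mul_le_of_lt (hH : IsPGroup p H) {A B : Subgroup H} (h : A < B) : p * Nat.card A ≤ Nat.card B := by
  obtain ⟨a, ha⟩ := IsPGroup.iff_card.1 (hH.to_subgroup A)
  obtain ⟨b, hb⟩ := IsPGroup.iff_card.1 (hH.to_subgroup B)
  have hlt : Nat.card A < Nat.card B := lt_of_le_of_ne (Subgroup.card_le_of_le h.le)
    fun e => h.ne (Subgroup.eq_of_le_of_card_ge h.le e.ge)
  rw [ha, hb] at hlt ⊢
  rw [← pow_succ']
  exact Nat.pow_le_pow_right hp.out.pos ((Nat.pow_lt_pow_iff_right hp.out.one_lt).1 hlt)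

theorem pow_card_eq_one (hH : IsPGroup p H) (hc : Nat.card H = p ^ 4) (x : H) : x ^ p ^ 4 = 1 := by
  rw [← hc]; exact pow_card_eq_one'

theorem ker_mul_range {H' : Type*} [Group H'] (f : H →* H') :
    Nat.card f.ker * Nat.card f.range = Nat.card H := by
  rw [← Subgroup.index_ker, Subgroup.card_mul_index]

theorem mem_zpowers_of_card {A : Subgroup H} (hA : Nat.card A = p) {a : H} (ha : a ∈ A) (ha1 : a ≠ 1)
    {x : H} (hx : x ∈ A) : x ∈ Subgroup.zpowers a := by
  have hgen : Subgroup.zpowers (⟨a, ha⟩ : A) = ⊤ :=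
    zpowers_eq_top_of_prime_card hA fun h => ha1 (congrArg Subtype.val h)
  obtain ⟨m, hm⟩ := Subgroup.mem_zpowers_iff.1 (hgen ▸ Subgroup.mem_top (⟨x, hx⟩ : A))
  rw [show x = a ^ m from (congrArg Subtype.val hm).symm]
  exact zpow_mem (Subgroup.mem_zpowers a) m

theorem orderOf_of_pow {x : H} {k : ℕ} (h1 : x ^ p ^ k ≠ 1) (h2 : x ^ p ^ (k + 1) = 1) :
    Nat.card (Subgroup.zpowers x) = p ^ (k + 1) := by
  rw [Nat.card_zpowers]
  exact orderOf_eq_prime_pow h1 h2

end

section Abelian

variable {p : ℕ} [hp : Fact p.Prime] {H : Type*} [CommGroup H] [Finite H]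

theorem abelian_large (hc : Nat.card H = p ^ 4) {x : H} (hx : x ^ p ^ 2 ≠ 1) : CharChain p H := by
  have hH : IsPGroup p H := IsPGroup.of_card hc
  let f : ℕ → (H →* H) := fun k => powMonoidHom (p ^ k)
  have hrk : ∀ k, Nat.card (f k).ker * Nat.card (f k).range = p ^ 4 := fun k => (ker_mul_range _).trans hc
  by_cases h3 : x ^ p ^ 3 = 1
  · by_cases hall : ∀ y : H, y ^ p ^ 3 = 1
    swap
    · push Not at hall
      obtain ⟨y, hy⟩ := hall
      have htop : Subgroup.zpowers y = ⊤ := Subgroup.eq_top_of_card_eq _ (by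
        rw [orderOf_of_pow (k := 3) hy (pow_card_eq_one hH hc y), hc])
      have hr : ∀ k, k ≤ 3 → Nat.card (f k).range = p ^ (4 - k) := by
        intro k hk
        have e : (f k).range = Subgroup.zpowers (y ^ p ^ k) := by
          rw [MonoidHom.range_eq_map, ← htop, MonoidHom.map_zpowers]; rfl
        rw [e, show 4 - k = (3 - k) + 1 by omega]
        refine orderOf_of_pow ?_ ?_
        · rw [← pow_mul, ← pow_add, show k + (3 - k) = 3 by omega]; exact hy
        · rw [← pow_mul, ← pow_add, show k + (3 - k + 1) = 4 by omega]; exact pow_card_eq_one hH hc y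
      refine ⟨(f 3).range, (f 2).range, (f 1).range, ?_, ?_, by rw [hr 3 le_rfl]; simp, hr 2 (by omega),
        hr 1 (by omega), inv_range _, inv_range _, inv_range _⟩
      · rintro _ ⟨z, rfl⟩
        exact ⟨z ^ p, by show (z ^ p) ^ _ = z ^ _; rw [← pow_mul, ← pow_succ']⟩
      · rintro _ ⟨z, rfl⟩
        exact ⟨z ^ p, by show (z ^ p) ^ _ = z ^ _; rw [← pow_mul, ← pow_succ']⟩
    have hX : Nat.card (Subgroup.zpowers x) = p ^ 3 := orderOf_of_pow hx h3
    have hX2 : Nat.card (Subgroup.zpowers (x ^ p ^ 2)) = p := by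
      rw [orderOf_of_pow (p := p) (k := 0) (x := x ^ p ^ 2) (by rwa [pow_zero, pow_one])
        (by rw [zero_add, pow_one, ← pow_mul, ← pow_succ]; exact h3), zero_add, pow_one]
    have hX1 : Nat.card (Subgroup.zpowers (x ^ p)) = p ^ 2 :=
      orderOf_of_pow (k := 1) (by rwa [pow_one, ← pow_mul, ← sq]) (by rw [← pow_mul, ← pow_succ']; exact h3)
    have hidx : (Subgroup.zpowers x).index = p := by
      have h := Subgroup.card_mul_index (Subgroup.zpowers x)
      rw [hX, hc, show p ^ 4 = p ^ 3 * p from pow_succ p 3] at h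
      exact Nat.eq_of_mul_eq_mul_left (pow_pos hp.out.pos 3) h
    have key : ∀ y : H, ∃ j : ℤ, y ^ p = (x ^ p) ^ j := by
      intro y
      have h1 : y ^ (Subgroup.zpowers x).index ∈ Subgroup.zpowers x := Subgroup.pow_index_mem _ y
      rw [hidx] at h1
      obtain ⟨i, hi⟩ := Subgroup.mem_zpowers_iff.1 h1
      have h2 : x ^ (i * (p ^ 2 : ℕ)) = 1 := by
        rw [zpow_mul, zpow_natCast, hi, ← pow_mul, ← pow_succ', hall]
      have h3' := orderOf_dvd_iff_zpow_eq_one.2 h2
      rw [← Nat.card_zpowers, hX] at h3'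
      push_cast at h3'
      rw [pow_succ (p : ℤ) 2, mul_comm i] at h3'
      obtain ⟨j, rfl⟩ := Int.dvd_of_mul_dvd_mul_left (pow_ne_zero 2 (Int.natCast_ne_zero.2 hp.out.ne_zero)) h3'
      exact ⟨j, by rw [← hi, zpow_mul, zpow_natCast]⟩
    have hR2 : Nat.card (f 2).range = p := by
      refine le_antisymm ?_ ?_
      · rw [← hX2]
        refine Subgroup.card_le_of_le ?_
        rintro _ ⟨y, rfl⟩
        obtain ⟨j, hj⟩ := key y
        refine Subgroup.mem_zpowers_iff.2 ⟨j, ?_⟩
        show (x ^ p ^ 2) ^ j = y ^ p ^ 2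
        rw [sq, pow_mul, pow_mul, hj, ← zpow_natCast ((x ^ p) ^ j), ← zpow_mul, mul_comm j, zpow_mul, zpow_natCast]
      · rw [← hX2]
        exact Subgroup.card_le_of_le (Subgroup.zpowers_le.2 ⟨x, rfl⟩)
    have hR1 : Nat.card (f 1).range = p ^ 2 := by
      refine le_antisymm ?_ ?_
      · rw [← hX1]
        refine Subgroup.card_le_of_le ?_
        rintro _ ⟨y, rfl⟩
        obtain ⟨j, hj⟩ := key y
        exact Subgroup.mem_zpowers_iff.2 ⟨j, by simpa [f] using hj.symm⟩
      · rw [← hX1]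
        exact Subgroup.card_le_of_le (Subgroup.zpowers_le.2 ⟨x, by simp [f]⟩)
    refine ⟨(f 2).range, (f 1).range, (f 2).ker, ?_, ?_, hR2, hR1, ?_, inv_range _, inv_range _, inv_ker _⟩
    · rintro _ ⟨z, rfl⟩
      exact ⟨z ^ p, by show (z ^ p) ^ _ = z ^ _; rw [← pow_mul, ← pow_succ']⟩
    · rintro _ ⟨z, rfl⟩
      show (z ^ p ^ 1) ^ p ^ 2 = 1
      rw [← pow_mul, ← pow_add]; exact hall z
    · have h := hrk 2
      rw [hR2, pow_succ p 3] at h
      exact Nat.eq_of_mul_eq_mul_right hp.out.pos h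
  · have htop : Subgroup.zpowers x = ⊤ := Subgroup.eq_top_of_card_eq _ (by
      rw [orderOf_of_pow (k := 3) h3 (pow_card_eq_one hH hc x), hc])
    have hr : ∀ k, k ≤ 3 → Nat.card (f k).range = p ^ (4 - k) := by
      intro k hk
      have e : (f k).range = Subgroup.zpowers (x ^ p ^ k) := by
        rw [MonoidHom.range_eq_map, ← htop, MonoidHom.map_zpowers]; rfl
      rw [e, show 4 - k = (3 - k) + 1 by omega]
      refine orderOf_of_pow ?_ ?_
      · rw [← pow_mul, ← pow_add, show k + (3 - k) = 3 by omega]; exact h3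
      · rw [← pow_mul, ← pow_add, show k + (3 - k + 1) = 4 by omega]; exact pow_card_eq_one hH hc x
    refine ⟨(f 3).range, (f 2).range, (f 1).range, ?_, ?_, by rw [hr 3 le_rfl]; simp, hr 2 (by omega),
      hr 1 (by omega), inv_range _, inv_range _, inv_range _⟩
    · rintro _ ⟨z, rfl⟩
      exact ⟨z ^ p, by show (z ^ p) ^ _ = z ^ _; rw [← pow_mul, ← pow_succ']⟩
    · rintro _ ⟨z, rfl⟩
      exact ⟨z ^ p, by show (z ^ p) ^ _ = z ^ _; rw [← pow_mul, ← pow_succ']⟩

/-- The map of `ℤ/n` sending `1` to an element killed by `n`. -/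
def toH (n : ℕ) (x : H) (hx : x ^ n = 1) : ZMod n →+ Additive H :=
  ZMod.lift n ⟨zmultiplesHom _ (Additive.ofMul x), by
    rw [zmultiplesHom_apply, natCast_zsmul, ← ofMul_pow, hx, ofMul_one]⟩

omit [Finite H] in
theorem toH_one (n : ℕ) (x : H) (hx : x ^ n = 1) : toH n x hx 1 = Additive.ofMul x := by
  rw [toH, show (1 : ZMod n) = ((1 : ℤ) : ZMod n) from Int.cast_one.symm, ZMod.lift_coe]
  exact one_zsmul _

/-- The abelian groups of exponent `p²`. -/
theorem abelian_small (hc : Nat.card H = p ^ 4) (h2 : ∀ x : H, x ^ p ^ 2 = 1) (h1 : ∃ x : H, x ^ p ≠ 1) :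
    Nonempty (H ≃* Multiplicative (ZMod (p ^ 2) × ZMod p × ZMod p)) ∨
      (Nonempty (H ≃* Multiplicative (ZMod (p ^ 2) × ZMod (p ^ 2))) ∧
        ∀ x : H, x ^ p = 1 ↔ ∃ y, y ^ p = x) := by
  have hH : IsPGroup p H := IsPGroup.of_card hc
  let f : H →* H := powMonoidHom p
  have hrk : Nat.card f.ker * Nat.card f.range = p ^ 4 := (ker_mul_range f).trans hc
  have hRK : f.range ≤ f.ker := by
    rintro _ ⟨y, rfl⟩
    show (y ^ p) ^ p = 1
    rw [← pow_mul, ← sq]; exact h2 y
  obtain ⟨x₀, hx₀⟩ := h1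
  have hx₀K : x₀ ∉ f.ker := hx₀
  have hR0 : Nat.card (Subgroup.zpowers (x₀ ^ p)) = p := by
    rw [orderOf_of_pow (p := p) (k := 0) (x := x₀ ^ p) (by rwa [pow_zero, pow_one])
      (by rw [zero_add, pow_one, ← pow_mul, ← sq]; exact h2 x₀), zero_add, pow_one]
  obtain ⟨a, ha⟩ := IsPGroup.iff_card.1 (hH.to_subgroup f.ker)
  obtain ⟨b, hb⟩ := IsPGroup.iff_card.1 (hH.to_subgroup f.range)
  rw [ha, hb, ← pow_add] at hrk
  have hab : a + b = 4 := Nat.pow_right_injective hp.out.two_le hrk
  have hba : b ≤ a := by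
    have := Subgroup.card_le_of_le hRK
    rw [ha, hb] at this
    exact (Nat.pow_le_pow_iff_right hp.out.one_lt).1 this
  have hb0 : 1 ≤ b := by
    have := Subgroup.card_le_of_le ((Subgroup.zpowers_le (g := x₀ ^ p)).2 (show x₀ ^ p ∈ f.range from ⟨x₀, rfl⟩))
    rw [hR0, hb] at this
    exact (Nat.pow_le_pow_iff_right hp.out.one_lt).1 (by simpa using this)
  rcases (by omega : (a = 3 ∧ b = 1) ∨ (a = 2 ∧ b = 2)) with ⟨rfl, rfl⟩ | ⟨rfl, rfl⟩
  · left
    obtain ⟨y, hyK, hy⟩ : ∃ y ∈ f.ker, y ∉ Subgroup.zpowers (x₀ ^ p) := by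
      by_contra h
      push Not at h
      have := Subgroup.card_le_of_le (show f.ker ≤ Subgroup.zpowers (x₀ ^ p) from h)
      rw [ha, hR0] at this
      exact absurd ((Nat.pow_le_pow_iff_right hp.out.one_lt).1 (this.trans_eq (pow_one p).symm)) (by norm_num)
    set A := Subgroup.zpowers (x₀ ^ p) ⊔ Subgroup.zpowers y
    have hA2 : Nat.card A ≤ p ^ 2 := by
      refine (Nat.le_of_dvd (Nat.mul_pos Nat.card_pos Nat.card_pos)
        (Cores.card_sup_dvd_mul _ _)).trans ?_
      rw [hR0, sq]
      refine Nat.mul_le_mul_left _ ?_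
      rw [Nat.card_zpowers]
      exact Nat.le_of_dvd hp.out.pos (orderOf_dvd_of_pow_eq_one hyK)
    obtain ⟨z, hzK, hz⟩ : ∃ z ∈ f.ker, z ∉ A := by
      by_contra h
      push Not at h
      have := (Subgroup.card_le_of_le (show f.ker ≤ A from h)).trans hA2
      rw [ha] at this
      exact absurd ((Nat.pow_le_pow_iff_right hp.out.one_lt).1 this) (by norm_num)
    let g : Multiplicative (ZMod (p ^ 2) × ZMod p × ZMod p) →* H :=
      ((toH (p ^ 2) x₀ (h2 x₀)).coprod ((toH p y (show y ^ p = 1 from hyK)).coprod (toH p z (show z ^ p = 1 from hzK)))).toMultiplicativeLeft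
    have hgx : x₀ ∈ g.range := ⟨Multiplicative.ofAdd (1, 0, 0), by simp [g, AddMonoidHom.toMultiplicativeLeft, toH_one]⟩
    have hgy : y ∈ g.range := ⟨Multiplicative.ofAdd (0, 1, 0), by simp [g, AddMonoidHom.toMultiplicativeLeft, toH_one p y (show y ^ p = 1 from hyK)]⟩
    have hgz : z ∈ g.range := ⟨Multiplicative.ofAdd (0, 0, 1), by simp [g, AddMonoidHom.toMultiplicativeLeft, toH_one p z (show z ^ p = 1 from hzK)]⟩
    have hAg : A ≤ g.range := sup_le (Subgroup.zpowers_le.2 (pow_mem hgx p)) (Subgroup.zpowers_le.2 hgy)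
    have hAp : p ^ 2 ≤ Nat.card A := by
      rw [sq]; nth_rewrite 2 [← hR0]
      exact mul_le_of_lt hH (SetLike.lt_iff_le_and_exists.2
        ⟨le_sup_left, y, Subgroup.mem_sup_right (Subgroup.mem_zpowers y), hy⟩)
    set B := A ⊔ Subgroup.zpowers z
    have hBK : B ≤ f.ker := sup_le (sup_le (Subgroup.zpowers_le.2 (hRK ⟨x₀, rfl⟩)) (Subgroup.zpowers_le.2 hyK))
      (Subgroup.zpowers_le.2 hzK)
    have hBp : p ^ 3 ≤ Nat.card B := by
      rw [pow_succ' p 2]
      exact (Nat.mul_le_mul_left p hAp).trans (mul_le_of_lt hH (SetLike.lt_iff_le_and_exists.2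
        ⟨le_sup_left, z, Subgroup.mem_sup_right (Subgroup.mem_zpowers z), hz⟩))
    have hBg : B < g.range := SetLike.lt_iff_le_and_exists.2
      ⟨sup_le hAg (Subgroup.zpowers_le.2 hgz), x₀, hgx, fun h => hx₀K (hBK h)⟩
    have hsurj : Function.Surjective g := by
      rw [← MonoidHom.range_eq_top]
      refine Subgroup.eq_top_of_le_card _ ?_
      rw [hc, pow_succ' p 3]
      exact (Nat.mul_le_mul_left p hBp).trans (mul_le_of_lt hH hBg)
    have hcard : Nat.card (Multiplicative (ZMod (p ^ 2) × ZMod p × ZMod p)) = Nat.card H := by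
      rw [hc, Nat.card_congr Multiplicative.toAdd, Nat.card_prod, Nat.card_prod, Nat.card_zmod, Nat.card_zmod]
      ring
    exact ⟨(MulEquiv.ofBijective g ((Nat.bijective_iff_surjective_and_card _).2 ⟨hsurj, hcard⟩)).symm⟩
  · right
    have hKR : f.ker = f.range :=
      (Subgroup.eq_of_le_of_card_ge hRK (by rw [ha, hb])).symm
    refine ⟨?_, fun x => ⟨fun hx => ?_, fun ⟨y, hy⟩ => ?_⟩⟩
    swap
    · obtain ⟨y, hy⟩ := (hKR ▸ (show x ∈ f.ker from hx) : x ∈ f.range)
      exact ⟨y, hy⟩
    swap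
    · rw [← hy, ← pow_mul, ← sq]; exact h2 y
    obtain ⟨y, hy⟩ : ∃ y : H, y ^ p ∉ Subgroup.zpowers (x₀ ^ p) := by
      by_contra h
      push Not at h
      have := Subgroup.card_le_of_le (show f.range ≤ Subgroup.zpowers (x₀ ^ p) by rintro _ ⟨y, rfl⟩; exact h y)
      rw [hb, hR0] at this
      exact absurd ((Nat.pow_le_pow_iff_right hp.out.one_lt).1 (this.trans_eq (pow_one p).symm)) (by norm_num)
    let g : Multiplicative (ZMod (p ^ 2) × ZMod (p ^ 2)) →* H :=
      ((toH (p ^ 2) x₀ (h2 x₀)).coprod (toH (p ^ 2) y (h2 y))).toMultiplicativeLeft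
    have hgx : x₀ ∈ g.range := ⟨Multiplicative.ofAdd (1, 0), by simp [g, AddMonoidHom.toMultiplicativeLeft, toH_one]⟩
    have hgy : y ∈ g.range := ⟨Multiplicative.ofAdd (0, 1), by simp [g, AddMonoidHom.toMultiplicativeLeft, toH_one]⟩
    set A := Subgroup.zpowers (x₀ ^ p) ⊔ Subgroup.zpowers (y ^ p)
    set B := A ⊔ Subgroup.zpowers x₀
    have hAp : p ^ 2 ≤ Nat.card A := by
      rw [sq]; nth_rewrite 2 [← hR0]
      exact mul_le_of_lt hH (SetLike.lt_iff_le_and_exists.2
        ⟨le_sup_left, _, Subgroup.mem_sup_right (Subgroup.mem_zpowers (y ^ p)), hy⟩)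
    have hAK : A ≤ f.ker := sup_le (Subgroup.zpowers_le.2 (hRK ⟨x₀, rfl⟩)) (Subgroup.zpowers_le.2 (hRK ⟨y, rfl⟩))
    have hBp : p ^ 3 ≤ Nat.card B := by
      rw [pow_succ' p 2]
      exact (Nat.mul_le_mul_left p hAp).trans (mul_le_of_lt hH (SetLike.lt_iff_le_and_exists.2
        ⟨le_sup_left, x₀, Subgroup.mem_sup_right (Subgroup.mem_zpowers x₀), fun h => hx₀K (hAK h)⟩))
    have hyB : y ∉ B := by
      intro h
      obtain ⟨u, hu, v, ⟨i, rfl⟩, rfl⟩ := Subgroup.mem_sup_of_normal_left.1 h
      apply hy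
      rw [mul_pow, show u ^ p = 1 from hAK hu, one_mul]
      refine Subgroup.mem_zpowers_iff.2 ⟨i, ?_⟩
      show (x₀ ^ p) ^ i = (x₀ ^ i) ^ p
      rw [← zpow_natCast, ← zpow_natCast, ← zpow_mul, ← zpow_mul, mul_comm]
    have hBg : B < g.range := SetLike.lt_iff_le_and_exists.2
      ⟨sup_le (sup_le (Subgroup.zpowers_le.2 (pow_mem hgx p)) (Subgroup.zpowers_le.2 (pow_mem hgy p)))
        (Subgroup.zpowers_le.2 hgx), y, hgy, hyB⟩
    have hsurj : Function.Surjective g := by
      rw [← MonoidHom.range_eq_top]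
      refine Subgroup.eq_top_of_le_card _ ?_
      rw [hc, pow_succ' p 3]
      exact (Nat.mul_le_mul_left p hBp).trans (mul_le_of_lt hH hBg)
    have hcard : Nat.card (Multiplicative (ZMod (p ^ 2) × ZMod (p ^ 2))) = Nat.card H := by
      rw [hc, Nat.card_congr Multiplicative.toAdd, Nat.card_prod, Nat.card_zmod]
      ring
    exact ⟨(MulEquiv.ofBijective g ((Nat.bijective_iff_surjective_and_card _).2 ⟨hsurj, hcard⟩)).symm⟩

end Abelian

section Nonabelian

variable {p : ℕ} [hp : Fact p.Prime] {H : Type*} [Group H] [Finite H]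

theorem inv_center : Inv (Subgroup.center H) := fun γ x hx => Subgroup.mem_center_iff.2 fun g => by
  obtain ⟨g, rfl⟩ := γ.surjective g
  rw [← map_mul, ← map_mul, Subgroup.mem_center_iff.1 hx g]

omit [Finite H] in
theorem comm_mul_right {a b c : H} (h : ⁅a, c⁆ ∈ Subgroup.center H) : ⁅a, b * c⁆ = ⁅a, b⁆ * ⁅a, c⁆ := by
  rw [show ⁅a, b * c⁆ = ⁅a, b⁆ * (b * ⁅a, c⁆ * b⁻¹) by simp only [commutatorElement_def]; group,
    Subgroup.mem_center_iff.1 h b, mul_inv_cancel_right]

omit [Finite H] in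
/-- The map `x ↦ [a, x]` when `a` is central modulo the centre. -/
def commHom (a : H) (ha : ∀ x, ⁅a, x⁆ ∈ Subgroup.center H) : H →* Subgroup.center H where
  toFun x := ⟨⁅a, x⁆, ha x⟩
  map_one' := Subtype.ext (commutatorElement_one_right a)
  map_mul' x y := Subtype.ext (comm_mul_right (ha y))

omit [Finite H] in
theorem mem_commHom_ker {a : H} (ha : ∀ x, ⁅a, x⁆ ∈ Subgroup.center H) {x : H} :
    x ∈ (commHom a ha).ker ↔ a * x = x * a := by
  rw [MonoidHom.mem_ker, ← commutatorElement_eq_one_iff_mul_comm]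
  exact Subtype.ext_iff

/-- A group with a centre of cyclic quotient is commutative. -/
theorem not_cyclic_quotient (hnc : ∃ x y : H, x * y ≠ y * x) : ¬ IsCyclic (H ⧸ Subgroup.center H) := fun h => by
  obtain ⟨x, y, hxy⟩ := hnc
  exact hxy (commutative_of_cyclic_center_quotient (QuotientGroup.mk' (Subgroup.center H)) (by rw [QuotientGroup.ker_mk']) x y)

/-- No nonabelian group of order `p⁴` of class two has a centre of order `p`. -/
theorem not_class_two (hc : Nat.card H = p ^ 4) (hZ : Nat.card (Subgroup.center H) = p)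
    (hcomm : ∀ x y : H, ⁅x, y⁆ ∈ Subgroup.center H) : False := by
  have hH : IsPGroup p H := IsPGroup.of_card hc
  obtain ⟨a, b, hab⟩ : ∃ a b : H, a * b ≠ b * a := by
    by_contra h
    push Not at h
    rw [show Subgroup.center H = ⊤ from eq_top_iff.2 fun x _ => Subgroup.mem_center_iff.2 fun y => h y x,
      Subgroup.card_top, hc] at hZ
    exact absurd (Nat.pow_right_injective hp.out.two_le (hZ.trans (pow_one p).symm)) (by norm_num)
  set Ca := (commHom a (hcomm a)).ker
  set Cb := (commHom b (hcomm b)).ker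
  have h1 : p ^ 2 ≤ Nat.card (Ca ⊓ Cb : Subgroup H) := by
    have hk := ker_mul_range ((commHom a (hcomm a)).prod (commHom b (hcomm b)))
    rw [MonoidHom.ker_prod, hc] at hk
    have hle : Nat.card ((commHom a (hcomm a)).prod (commHom b (hcomm b))).range ≤ p ^ 2 := by
      refine (Nat.card_le_card_of_injective _ Subtype.val_injective).trans ?_
      rw [Nat.card_prod, hZ, sq]
    by_contra hlt
    push Not at hlt
    have : Nat.card (Ca ⊓ Cb : Subgroup H) * Nat.card ((commHom a (hcomm a)).prod (commHom b (hcomm b))).range <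
        p ^ 2 * p ^ 2 := Nat.mul_lt_mul_of_lt_of_le hlt hle (pow_pos hp.out.pos 2)
    rw [hk, ← pow_add] at this
    exact lt_irrefl _ this
  obtain ⟨c, hcC, hcZ⟩ : ∃ c ∈ Ca ⊓ Cb, c ∉ Subgroup.center H := by
    by_contra h
    push Not at h
    have := h1.trans (Subgroup.card_le_of_le (show Ca ⊓ Cb ≤ Subgroup.center H from h))
    rw [hZ] at this
    exact absurd ((Nat.pow_le_pow_iff_right hp.out.one_lt).1 (this.trans_eq (pow_one p).symm)) (by norm_num)
  set Cc := (commHom c (hcomm c)).ker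
  have ha' : a ∈ Cc := (mem_commHom_ker _).2 ((mem_commHom_ker _).1 hcC.1).symm
  have hb' : b ∈ Cc := (mem_commHom_ker _).2 ((mem_commHom_ker _).1 hcC.2).symm
  have hc' : c ∈ Cc := (mem_commHom_ker _).2 rfl
  set D := Subgroup.center H ⊔ Subgroup.zpowers a ⊔ Subgroup.zpowers b
  haveI : (Subgroup.center H ⊔ Subgroup.zpowers a).Normal :=
    PGroups.normal_sup_zpowers fun g => hcomm g a
  have hZC : Subgroup.center H ≤ Cc := fun z hz => (mem_commHom_ker _).2 (Subgroup.mem_center_iff.1 hz c)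
  have hD3 : p ^ 3 ≤ Nat.card D := by
    have h2 : Subgroup.center H < Subgroup.center H ⊔ Subgroup.zpowers a :=
      SetLike.lt_iff_le_and_exists.2 ⟨le_sup_left, a, Subgroup.mem_sup_right (Subgroup.mem_zpowers a),
        fun h => hab ((Subgroup.mem_center_iff.1 h b).symm)⟩
    have h3 : Subgroup.center H ⊔ Subgroup.zpowers a < D := by
      refine SetLike.lt_iff_le_and_exists.2 ⟨le_sup_left, b, Subgroup.mem_sup_right (Subgroup.mem_zpowers b),
        fun h => hab ?_⟩
      obtain ⟨z, hz, _, ⟨i, rfl⟩, rfl⟩ := Subgroup.mem_sup_of_normal_left.1 h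
      exact (Commute.mul_right (show Commute a z from Subgroup.mem_center_iff.1 hz a)
        ((Commute.refl a).zpow_right i)).eq
    rw [pow_succ' p 2, sq]
    refine le_trans (Nat.mul_le_mul_left p ?_) (mul_le_of_lt hH h3)
    nth_rewrite 2 [← hZ]
    exact mul_le_of_lt hH h2
  have hcD : c ∉ D := by
    intro h
    obtain ⟨d, hd, _, ⟨j, rfl⟩, hdc⟩ := Subgroup.mem_sup_of_normal_left.1 h
    obtain ⟨z, hz, _, ⟨i, rfl⟩, rfl⟩ := Subgroup.mem_sup_of_normal_left.1 hd
    have hpow : ∀ x : H, x ^ p ∈ Subgroup.center H := fun x => Subgroup.mem_center_iff.2 fun g => by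
      refine (mem_commHom_ker (hcomm g)).1 (show commHom g (hcomm g) (x ^ p) = 1 from ?_)
      rw [map_pow]
      exact (orderOf_dvd_iff_pow_eq_one (n := p)).1 ((orderOf_dvd_natCard _).trans (dvd_of_eq hZ))
    have hcoef : ∀ (u v : H) (m : ℤ), u * v ≠ v * u →
        commHom u (hcomm u) (v ^ m) = 1 → v ^ m ∈ Subgroup.center H := by
      intro u v m huv hm
      rw [map_zpow] at hm
      have hne : commHom u (hcomm u) v ≠ 1 := fun h => huv ((mem_commHom_ker _).1 h)
      have hd := orderOf_dvd_iff_zpow_eq_one.2 hm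
      have ho : orderOf (commHom u (hcomm u) v) = p :=
        ((Nat.dvd_prime hp.out).1 ((orderOf_dvd_natCard _).trans (dvd_of_eq hZ))).resolve_left
          fun h => hne (orderOf_eq_one_iff.1 h)
      rw [ho] at hd
      obtain ⟨q, rfl⟩ := hd
      rw [zpow_mul, zpow_natCast]
      exact zpow_mem (hpow v) q
    have hk : ∀ u v : H, u * v = v * u → commHom u (hcomm u) v = 1 := fun u v h => (mem_commHom_ker _).2 h
    have e1 := hk a c ((mem_commHom_ker _).1 hcC.1)
    rw [← hdc, map_mul, map_mul, hk a z (Subgroup.mem_center_iff.1 hz a), map_zpow _ a, hk a a rfl,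
      one_zpow, one_mul, one_mul] at e1
    have e2 := hk b c ((mem_commHom_ker _).1 hcC.2)
    rw [← hdc, map_mul, map_mul, hk b z (Subgroup.mem_center_iff.1 hz b), map_zpow _ b, hk b b rfl,
      one_zpow, mul_one, one_mul] at e2
    exact hcZ (hdc ▸ mul_mem (mul_mem hz (hcoef b a i (Ne.symm hab) e2)) (hcoef a b j hab e1))
  have hCtop : Cc = ⊤ := by
    refine Subgroup.eq_top_of_le_card _ ?_
    have hlt : D < Cc := SetLike.lt_iff_le_and_exists.2
      ⟨sup_le (sup_le hZC (Subgroup.zpowers_le.2 ha')) (Subgroup.zpowers_le.2 hb'), c, hc', hcD⟩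
    rw [hc, pow_succ' p 3]
    exact (Nat.mul_le_mul_left p hD3).trans (mul_le_of_lt hH hlt)
  exact hcZ (Subgroup.mem_center_iff.2 fun g => ((mem_commHom_ker _).1 (hCtop ▸ Subgroup.mem_top g : g ∈ Cc)).symm)

/-- Maximal class: a chain of characteristic subgroups. -/
theorem center_prime (hc : Nat.card H = p ^ 4) (hZ : Nat.card (Subgroup.center H) = p) : CharChain p H := by
  have hH : IsPGroup p H := IsPGroup.of_card hc
  set Z := Subgroup.center H
  set B := (Subgroup.center (H ⧸ Z)).comap (QuotientGroup.mk' Z)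
  have hBmem : ∀ x, x ∈ B ↔ ∀ g, ⁅x, g⁆ ∈ Z := by
    intro x
    rw [Subgroup.mem_comap, Subgroup.mem_center_iff]
    constructor
    · intro h g
      rw [← QuotientGroup.eq_one_iff]
      exact (map_commutatorElement (QuotientGroup.mk' Z) x g).trans
        (commutatorElement_eq_one_iff_mul_comm.2 (h _).symm)
    · intro h g
      induction g using QuotientGroup.induction_on with
      | H g =>
        refine (commutatorElement_eq_one_iff_mul_comm.1 ?_).symm
        exact (map_commutatorElement (QuotientGroup.mk' Z) x g).symm.trans ((QuotientGroup.eq_one_iff _).2 (h g))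
  have hquot : Nat.card (H ⧸ Z) = p ^ 3 := by
    have h := Z.card_eq_card_quotient_mul_card_subgroup
    rw [hc, hZ, pow_succ p 3] at h
    exact (Nat.eq_of_mul_eq_mul_right hp.out.pos h).symm
  have hqnc : ∃ x y : H ⧸ Z, x * y ≠ y * x := by
    by_contra h
    push Not at h
    refine not_class_two hc hZ fun x y => ?_
    exact (hBmem x).1 (Subgroup.mem_comap.2 (Subgroup.mem_center_iff.2 fun g => h g _)) y
  haveI : Nontrivial (H ⧸ Z) :=
    Finite.one_lt_card_iff_nontrivial.1 (by rw [hquot]; exact Nat.one_lt_pow three_ne_zero hp.out.one_lt)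
  have hZq : Nat.card (Subgroup.center (H ⧸ Z)) = p := by
    have hQ : IsPGroup p (H ⧸ Z) := hH.to_quotient Z
    obtain ⟨k, hk⟩ := IsPGroup.iff_card.1 (hQ.to_subgroup (Subgroup.center (H ⧸ Z)))
    have h1 := (Subgroup.center (H ⧸ Z)).card_eq_card_quotient_mul_card_subgroup
    obtain ⟨m, hm⟩ := IsPGroup.iff_card.1 (hQ.to_quotient (Subgroup.center (H ⧸ Z)))
    rw [hquot, hk, hm, ← pow_add] at h1
    have h3 := Nat.pow_right_injective hp.out.two_le h1
    have hm2 : 2 ≤ m := by
      by_contra hlt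
      refine not_cyclic_quotient hqnc ?_
      rcases (by omega : m = 0 ∨ m = 1) with rfl | rfl
      · haveI : Subsingleton ((H ⧸ Z) ⧸ Subgroup.center (H ⧸ Z)) :=
          (Nat.card_eq_one_iff_unique.1 (by rw [hm, pow_zero])).1
        infer_instance
      · exact isCyclic_of_prime_card (p := p) (by rw [hm, pow_one])
    have hk0 : k ≠ 0 := by
      rintro rfl
      exact (Subgroup.nontrivial_iff_ne_bot _).1 hQ.center_nontrivial
        (Subgroup.eq_bot_of_card_eq _ (by rw [hk, pow_zero]))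
    rw [hk, show k = 1 by omega, pow_one]
  have hB : Nat.card B = p ^ 2 := by
    rw [show Nat.card B = Nat.card (Subgroup.center (H ⧸ Z)) * Nat.card (QuotientGroup.mk' Z).ker from ?_,
      QuotientGroup.ker_mk', hZq, hZ, sq]
    rw [← ker_mul_range ((QuotientGroup.mk' Z).comp B.subtype), mul_comm]
    congr 1
    · rw [MonoidHom.range_comp, Subgroup.range_subtype,
        Subgroup.map_comap_eq_self_of_surjective (QuotientGroup.mk'_surjective Z)]
    · refine Nat.card_congr ?_
      rw [← MonoidHom.comap_ker]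
      exact (Subgroup.subgroupOfEquivOfLe (fun x hx => by
        show (QuotientGroup.mk' Z) x ∈ Subgroup.center (H ⧸ Z)
        rw [show (QuotientGroup.mk' Z) x = 1 from hx]; exact one_mem _)).toEquiv
  have hZB : Z ≤ B := fun x hx => (hBmem x).2 fun g => by
    rw [commutatorElement_eq_one_iff_mul_comm.2 (Subgroup.mem_center_iff.1 hx g).symm]; exact one_mem _
  have hBi : Inv B := fun γ x hx => (hBmem _).2 fun g => by
    obtain ⟨g, rfl⟩ := γ.surjective g
    rw [← map_commutatorElement γ x g]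
    exact inv_center γ _ ((hBmem x).1 hx g)
  set C := Subgroup.centralizer (B : Set H)
  have hCi : Inv C := fun γ x hx => Subgroup.mem_centralizer_iff.2 fun b hb => by
    obtain ⟨b, rfl⟩ := γ.surjective b
    have hb' : b ∈ B := by simpa using hBi γ⁻¹ (γ b) hb
    rw [← map_mul, ← map_mul, Subgroup.mem_centralizer_iff.1 hx b hb']
  obtain ⟨b, hbB, hbZ⟩ : ∃ b ∈ B, b ∉ Z := by
    by_contra h
    push Not at h
    have := Subgroup.card_le_of_le (show B ≤ Z from h)
    rw [hB, hZ] at this
    exact absurd ((Nat.pow_le_pow_iff_right hp.out.one_lt).1 (this.trans_eq (pow_one p).symm)) (by norm_num)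
  have hker : (commHom b ((hBmem b).1 hbB)).ker ≤ C := by
    intro x hx
    have hgen : Z ⊔ Subgroup.zpowers b = B := by
      refine Subgroup.eq_of_le_of_card_ge (sup_le hZB (Subgroup.zpowers_le.2 hbB)) ?_
      rw [hB, sq]; nth_rewrite 2 [← hZ]
      exact mul_le_of_lt hH (SetLike.lt_iff_le_and_exists.2
        ⟨le_sup_left, b, Subgroup.mem_sup_right (Subgroup.mem_zpowers b), hbZ⟩)
    refine Subgroup.mem_centralizer_iff.2 fun y hy => ?_
    obtain ⟨z, hz, _, ⟨i, rfl⟩, rfl⟩ := Subgroup.mem_sup_of_normal_left.1 (hgen.ge hy)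
    have hbx : Commute b x := (mem_commHom_ker _).1 hx
    exact ((Commute.mul_left (show Commute z x from (Subgroup.mem_center_iff.1 hz x).symm) (hbx.zpow_left i))).eq
  have hBC : B ≤ C := by
    intro x hx
    refine hker ((mem_commHom_ker _).2 ?_)
    have hgen : Z ⊔ Subgroup.zpowers b = B := by
      refine Subgroup.eq_of_le_of_card_ge (sup_le hZB (Subgroup.zpowers_le.2 hbB)) ?_
      rw [hB, sq]; nth_rewrite 2 [← hZ]
      exact mul_le_of_lt hH (SetLike.lt_iff_le_and_exists.2
        ⟨le_sup_left, b, Subgroup.mem_sup_right (Subgroup.mem_zpowers b), hbZ⟩)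
    obtain ⟨z, hz, _, ⟨i, rfl⟩, rfl⟩ := Subgroup.mem_sup_of_normal_left.1 (hgen.ge hx)
    exact ((show Commute b z from Subgroup.mem_center_iff.1 hz b).mul_right ((Commute.refl b).zpow_right i)).eq
  have hC : Nat.card C = p ^ 3 := by
    have h3 : p ^ 3 ≤ Nat.card C := by
      refine le_trans ?_ (Subgroup.card_le_of_le hker)
      have h := ker_mul_range (commHom b ((hBmem b).1 hbB))
      by_contra hlt
      push Not at hlt
      have : Nat.card (commHom b ((hBmem b).1 hbB)).ker * Nat.card (commHom b ((hBmem b).1 hbB)).range < p ^ 3 * p :=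
        Nat.mul_lt_mul_of_lt_of_le hlt
          ((Subgroup.card_le_card_group (commHom b ((hBmem b).1 hbB)).range).trans_eq hZ) hp.out.pos
      rw [h, hc, ← pow_succ] at this
      exact lt_irrefl _ this
    obtain ⟨k, hk, hkC⟩ := (Nat.dvd_prime_pow hp.out).1 (hc ▸ C.card_subgroup_dvd_card)
    have hk4 : k ≠ 4 := by
      rintro rfl
      apply hbZ
      refine Subgroup.mem_center_iff.2 fun g => ?_
      have hgC : g ∈ C := by rw [Subgroup.eq_top_of_card_eq C (by rw [hkC, hc])]; trivial
      exact (Subgroup.mem_centralizer_iff.1 hgC b hbB).symm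
    rw [hkC] at h3 ⊢
    have := (Nat.pow_le_pow_iff_right hp.out.one_lt).1 h3
    rw [show k = 3 by omega]
  exact ⟨Z, B, C, hZB, hBC, hZ, hB, hC, inv_center, hBi, hCi⟩

/-- The possible nonabelian essential shapes. -/
def NonabShape.{v} (p : ℕ) (H : Type v) [Group H] : Prop :=
  (Odd p ∧ ∃ (E : Type) (_ : Group E) (_ : Finite E), Cfsg.IsExtraspecial p E ∧ Nat.card E = p ^ 3 ∧
      (∀ x : E, x ^ p = 1) ∧ Nonempty (H ≃* E × Multiplicative (ZMod p))) ∨
    (p = 2 ∧ Nonempty (H ≃* QuaternionGroup 2 × Multiplicative (ZMod 2))) ∨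
    ((∀ x : H, x ^ p ^ 2 = 1) ∧ IsCyclic (Subgroup.center H) ∧ Nat.card (Subgroup.center H) = p ^ 2)

/-- The map of `ℤ/n` sending `1` to an element killed by `n`, multiplicatively. -/
def zmodPow (n : ℕ) (z : H) (hz : z ^ n = 1) : Multiplicative (ZMod n) →* H :=
  (ZMod.lift n ⟨zmultiplesHom _ (Additive.ofMul z), by
    rw [zmultiplesHom_apply, natCast_zsmul, ← ofMul_pow, hz, ofMul_one]⟩).toMultiplicativeLeft

omit [Finite H] in
theorem zmodPow_apply (n : ℕ) (z : H) (hz : z ^ n = 1) (k : ℤ) :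
    zmodPow n z hz (Multiplicative.ofAdd (k : ZMod n)) = z ^ k := by
  show Additive.toMul (ZMod.lift n ⟨zmultiplesHom _ (Additive.ofMul z), _⟩ (k : ZMod n)) = z ^ k
  rw [ZMod.lift_coe, zmultiplesHom_apply]
  rfl

/-- `E × ⟨z⟩` for a central `z` of order `p` outside `E`. -/
theorem exists_product {E : Subgroup H} (hc : Nat.card H = p ^ 4) (hE : Nat.card E = p ^ 3) {z : H}
    (hzc : z ∈ Subgroup.center H) (hzp : z ^ p = 1) (hzE : z ∉ E) :
    Nonempty (H ≃* E × Multiplicative (ZMod p)) := by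
  let g : E × Multiplicative (ZMod p) →* H :=
    MonoidHom.noncommCoprod E.subtype (zmodPow p z hzp) fun e i => by
      obtain ⟨k, hk⟩ := ZMod.intCast_surjective i.toAdd
      rw [show i = Multiplicative.ofAdd (k : ZMod p) by rw [hk]; rfl, zmodPow_apply]
      exact (show Commute (e : H) z from Subgroup.mem_center_iff.1 hzc e).zpow_right k
  have hsurj : Function.Surjective g := by
    rw [← MonoidHom.range_eq_top]
    refine Subgroup.eq_top_of_le_card _ ?_
    have hlt : E < g.range := SetLike.lt_iff_le_and_exists.2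
      ⟨fun e he => ⟨(⟨e, he⟩, 1), by simp [g]⟩, z,
        (show z ∈ g.range from ⟨(1, Multiplicative.ofAdd ((1 : ℤ) : ZMod p)), by
          simp only [g, MonoidHom.noncommCoprod_apply, map_one, one_mul, zmodPow_apply, zpow_one]⟩), hzE⟩
    rw [hc, pow_succ' p 3, ← hE]
    exact mul_le_of_lt (IsPGroup.of_card hc) hlt
  have hcard : Nat.card (E × Multiplicative (ZMod p)) = Nat.card H := by
    rw [hc, Nat.card_prod, hE, Nat.card_congr Multiplicative.toAdd, Nat.card_zmod]; ring
  exact ⟨(MulEquiv.ofBijective g ((Nat.bijective_iff_surjective_and_card _).2 ⟨hsurj, hcard⟩)).symm⟩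

/-- Centre of order `p²`. -/
theorem center_sq (hc : Nat.card H = p ^ 4) (hZ : Nat.card (Subgroup.center H) = p ^ 2) :
    CharChain p H ∨ NonabShape p H := by
  classical
  have hH : IsPGroup p H := IsPGroup.of_card hc
  set Z := Subgroup.center H
  have hnc : ∃ x y : H, x * y ≠ y * x := by
    by_contra h
    push Not at h
    rw [show Z = ⊤ from eq_top_iff.2 fun x _ => Subgroup.mem_center_iff.2 fun y => h y x, Subgroup.card_top, hc] at hZ
    exact absurd (Nat.pow_right_injective hp.out.two_le hZ) (by norm_num)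
  have hquot : Nat.card (H ⧸ Z) = p ^ 2 := by
    have h := Z.card_eq_card_quotient_mul_card_subgroup
    rw [hc, hZ, show p ^ 4 = p ^ 2 * p ^ 2 by ring] at h
    exact (Nat.eq_of_mul_eq_mul_right (pow_pos hp.out.pos 2) h).symm
  have hcomm : ∀ x y : H, ⁅x, y⁆ ∈ Z := fun x y => by
    letI : CommGroup (H ⧸ Z) := IsPGroup.commGroupOfCardEqPrimeSq hquot
    rw [← QuotientGroup.eq_one_iff]
    exact (map_commutatorElement (QuotientGroup.mk' Z) x y).trans
      (commutatorElement_eq_one_iff_mul_comm.2 (mul_comm _ _))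
  have hpowZ : ∀ x : H, x ^ p ∈ Z := by
    intro x
    rw [← QuotientGroup.eq_one_iff, QuotientGroup.mk_pow]
    have hd := orderOf_dvd_natCard (x : H ⧸ Z)
    rw [hquot] at hd
    obtain ⟨k, hk, hkx⟩ := (Nat.dvd_prime_pow hp.out).1 hd
    interval_cases k
    · rw [orderOf_eq_one_iff.1 (hkx.trans (pow_zero p)), one_pow]
    · rw [← pow_one p, ← hkx, pow_orderOf_eq_one]
    · exact absurd (isCyclic_of_orderOf_eq_card _ (hkx.trans hquot.symm)) (not_cyclic_quotient hnc)
  have hpc : ∀ x y : H, ⁅y, x⁆ ^ p = 1 := fun x y => by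
    have h := (commHom y (hcomm y)).map_pow x p
    rw [show commHom y (hcomm y) (x ^ p) = 1 from (mem_commHom_ker _).2 (Subgroup.mem_center_iff.1 (hpowZ x) y)] at h
    exact congrArg Subtype.val h.symm
  obtain ⟨a, b, hab⟩ := hnc
  haveI : (Z ⊔ Subgroup.zpowers a).Normal := PGroups.normal_sup_zpowers fun g => hcomm g a
  have haZ : a ∉ Z := fun h => hab (Subgroup.mem_center_iff.1 h b).symm
  have hbZa : b ∉ Z ⊔ Subgroup.zpowers a := fun h => by
    obtain ⟨z, hz, _, ⟨i, rfl⟩, rfl⟩ := Subgroup.mem_sup_of_normal_left.1 h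
    exact hab ((show Commute a z from Subgroup.mem_center_iff.1 hz a).mul_right
      ((Commute.refl a).zpow_right i)).eq
  have hdecomp : ∀ x : H, ∃ i j : ℤ, ∃ z ∈ Z, x = z * a ^ i * b ^ j := by
    intro x
    have htop : Z ⊔ Subgroup.zpowers a ⊔ Subgroup.zpowers b = ⊤ := by
      refine Subgroup.eq_top_of_le_card _ ?_
      have h1 := mul_le_of_lt hH (A := Z) (B := Z ⊔ Subgroup.zpowers a) (SetLike.lt_iff_le_and_exists.2
        ⟨le_sup_left, a, Subgroup.mem_sup_right (Subgroup.mem_zpowers a), haZ⟩)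
      have h2 := mul_le_of_lt hH (A := Z ⊔ Subgroup.zpowers a) (B := Z ⊔ Subgroup.zpowers a ⊔ Subgroup.zpowers b)
        (SetLike.lt_iff_le_and_exists.2 ⟨le_sup_left, b, Subgroup.mem_sup_right (Subgroup.mem_zpowers b), hbZa⟩)
      rw [hZ] at h1
      rw [hc, show p ^ 4 = p * (p * p ^ 2) by ring]
      exact (Nat.mul_le_mul_left p h1).trans h2
    obtain ⟨d, hd, _, ⟨j, rfl⟩, rfl⟩ := Subgroup.mem_sup_of_normal_left.1 (htop ▸ Subgroup.mem_top x)
    obtain ⟨z, hz, _, ⟨i, rfl⟩, rfl⟩ := Subgroup.mem_sup_of_normal_left.1 hd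
    exact ⟨i, j, z, hz, rfl⟩
  set c := ⁅a, b⁆ with hcdef
  have hc1 : c ≠ 1 := fun h => hab (commutatorElement_eq_one_iff_mul_comm.1 h)
  have hcp : Nat.card (Subgroup.zpowers c) = p := by
    rw [Nat.card_zpowers, orderOf_eq_prime (hpc b a) hc1]
  have hcommc : ∀ x y : H, ⁅x, y⁆ ∈ Subgroup.zpowers c := by
    have hright : ∀ g y : H, ⁅g, a⁆ ∈ Subgroup.zpowers c → ⁅g, b⁆ ∈ Subgroup.zpowers c → ⁅g, y⁆ ∈ Subgroup.zpowers c := by
      intro g y hga hgb
      obtain ⟨i, j, z, hz, rfl⟩ := hdecomp y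
      have h := congrArg Subtype.val (show commHom g (hcomm g) (z * a ^ i * b ^ j) =
        commHom g (hcomm g) z * commHom g (hcomm g) a ^ i * commHom g (hcomm g) b ^ j by
          rw [map_mul, map_mul, map_zpow, map_zpow])
      rw [show ⁅g, z * a ^ i * b ^ j⁆ = ⁅g, z⁆ * ⁅g, a⁆ ^ i * ⁅g, b⁆ ^ j from h,
        commutatorElement_eq_one_iff_mul_comm.2 (Subgroup.mem_center_iff.1 hz g), one_mul]
      exact mul_mem (zpow_mem hga i) (zpow_mem hgb j)
    have hswap : ∀ x y : H, ⁅x, y⁆ ∈ Subgroup.zpowers c → ⁅y, x⁆ ∈ Subgroup.zpowers c := fun x y h => by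
      rw [← commutatorElement_inv]; exact inv_mem h
    intro x y
    refine hright x y (hswap a x ?_) (hswap b x ?_)
    · exact hright a x (by rw [commutatorElement_self]; exact one_mem _) (Subgroup.mem_zpowers c)
    · exact hright b x (hswap a b (Subgroup.mem_zpowers c)) (by rw [commutatorElement_self]; exact one_mem _)
  have hZc : c ∈ Z := hcomm a b
  set A := Subgroup.zpowers c
  have hAi : Inv A := by
    intro γ x hx
    obtain ⟨i, rfl⟩ := Subgroup.mem_zpowers_iff.1 hx
    rw [map_zpow, hcdef, map_commutatorElement]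
    exact zpow_mem (hcommc _ _) i
  have hAZ : A ≤ Z := Subgroup.zpowers_le.2 hZc
  have chain : ∀ C : Subgroup H, Inv C → Z ≤ C → Nat.card C = p ^ 3 → CharChain p H := fun C h1 h2 h3 =>
    ⟨A, Z, C, hAZ, h2, hcp, hZ, h3, hAi, inv_center, h1⟩
  by_cases hZcyc : IsCyclic Z
  · by_cases hexp : ∀ x : H, x ^ p ^ 2 = 1
    · exact Or.inr (Or.inr (Or.inr ⟨hexp, hZcyc, hZ⟩))
    left
    let f : H →* H :=
      { toFun := fun x => x ^ p ^ 2
        map_one' := one_pow _
        map_mul' := fun x y => by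
          obtain ⟨d, hd⟩ := PGroups.prime_dvd_choose_two (p := p) (n := 2)
            (by have := hp.out.two_le; nlinarith) (by norm_num)
          rw [PGroups.mul_pow_of_central_commutator x y (Subgroup.mem_center_iff.1 (hcomm y x) x)
            (Subgroup.mem_center_iff.1 (hcomm y x) y) (p ^ 2), hd, pow_mul, hpc x y, one_pow, mul_one] }
    push Not at hexp
    obtain ⟨x, hx⟩ := hexp
    have hZp : ∀ z ∈ Z, z ^ p ^ 2 = 1 := fun z hz => congrArg Subtype.val
      (orderOf_dvd_iff_pow_eq_one.1 ((orderOf_dvd_natCard (⟨z, hz⟩ : Z)).trans (dvd_of_eq hZ)))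
    have hrange : f.range ≤ A := by
      rintro _ ⟨y, rfl⟩
      have hw : f y ∈ Z := by
        show y ^ p ^ 2 ∈ Z
        rw [sq, pow_mul]; exact pow_mem (hpowZ y) p
      have hwp : (f y) ^ p = 1 := by
        show (y ^ p ^ 2) ^ p = 1
        rw [← pow_mul, mul_comm, pow_mul]; exact hZp _ (hpowZ y)
      haveI := Fintype.ofFinite Z
      let P : Subgroup Z :=
        { carrier := {v | v ^ p = 1}
          one_mem' := one_pow p
          mul_mem' := fun {u v} (hu : u ^ p = 1) (hv : v ^ p = 1) => by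
            show (u * v) ^ p = 1
            rw [((show Commute u v from Subtype.ext (Subgroup.mem_center_iff.1 v.2 u))).mul_pow, hu, hv, one_mul]
          inv_mem' := fun {u} (hu : u ^ p = 1) => by
            show u⁻¹ ^ p = 1
            rw [inv_pow, hu, inv_one] }
      have hle : Nat.card P ≤ p := by
        refine le_trans ?_ (IsCyclic.card_pow_eq_one_le (α := Z) hp.out.pos)
        rw [← Nat.card_eq_finsetCard]
        exact Nat.card_le_card_of_injective
          (fun v : P => ⟨v.1, Finset.mem_filter.2 ⟨Finset.mem_univ _, v.2⟩⟩)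
          fun u v h => Subtype.ext (congrArg Subtype.val h :)
      have hPe : Subgroup.zpowers (⟨c, hZc⟩ : Z) = P := by
        refine Subgroup.eq_of_le_of_card_ge (Subgroup.zpowers_le.2 (Subtype.ext (hpc b a))) ?_
        rw [Nat.card_zpowers, Subgroup.orderOf_mk, ← Nat.card_zpowers, hcp]
        exact hle
      obtain ⟨i, hi⟩ := Subgroup.mem_zpowers_iff.1 (hPe.ge (show (⟨f y, hw⟩ : Z) ∈ P from Subtype.ext hwp))
      exact Subgroup.mem_zpowers_iff.2 ⟨i, congrArg Subtype.val hi⟩
    have hR : Nat.card f.range = p := by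
      refine le_antisymm ((Subgroup.card_le_of_le hrange).trans_eq hcp) ?_
      have hne : f.range ≠ ⊥ := fun h => hx (Subgroup.mem_bot.1 (h ▸ ⟨x, rfl⟩ : f x ∈ (⊥ : Subgroup H)))
      have h := mul_le_of_lt hH (bot_lt_iff_ne_bot.2 hne)
      rwa [Subgroup.card_bot, mul_one] at h
    refine chain f.ker (fun γ y hy => ?_) (fun z hz => hZp z hz) ?_
    · show γ y ^ p ^ 2 = 1
      rw [← map_pow, show y ^ p ^ 2 = 1 from hy, map_one]
    · have h := (ker_mul_range f).trans hc
      rw [hR, show p ^ 4 = p ^ 3 * p from pow_succ p 3] at h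
      exact Nat.eq_of_mul_eq_mul_right hp.out.pos h
  -- the centre is elementary
  have hZexp : ∀ z ∈ Z, z ^ p = 1 := by
    intro z hz
    have hd := orderOf_dvd_natCard (⟨z, hz⟩ : Z)
    rw [hZ] at hd
    obtain ⟨k, hk, hkz⟩ := (Nat.dvd_prime_pow hp.out).1 hd
    interval_cases k
    · rw [show z = 1 from congrArg Subtype.val (orderOf_eq_one_iff.1 (hkz.trans (pow_zero p))), one_pow]
    · exact congrArg Subtype.val (orderOf_dvd_iff_pow_eq_one.1 (hkz.trans (pow_one p)).dvd)
    · exact absurd (isCyclic_of_orderOf_eq_card _ (hkz.trans hZ.symm)) hZcyc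
  haveI hAn : A.Normal := hAi.normal
  let q : H →* H ⧸ A :=
    { toFun := fun x => ((x ^ p : H) : H ⧸ A)
      map_one' := by simp
      map_mul' := fun x y => by
        rw [PGroups.mul_pow_of_central_commutator x y (Subgroup.mem_center_iff.1 (hcomm y x) x)
          (Subgroup.mem_center_iff.1 (hcomm y x) y) p, QuotientGroup.mk_mul, QuotientGroup.mk_mul,
          (QuotientGroup.eq_one_iff _).2 (pow_mem (hcommc y x) _), mul_one] }
  have hqmem : ∀ x, x ∈ q.ker ↔ x ^ p ∈ A := fun x => QuotientGroup.eq_one_iff _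
  by_cases hall : ∀ x : H, x ^ p ∈ A
  swap
  · left
    push Not at hall
    obtain ⟨x, hx⟩ := hall
    refine chain q.ker (fun γ y hy => ?_) (fun z hz => (hqmem z).2 (by rw [hZexp z hz]; exact one_mem _)) ?_
    · rw [hqmem] at hy ⊢
      rw [← map_pow]; exact hAi γ _ hy
    · have hle : Nat.card q.range ≤ p := by
        refine (Subgroup.card_le_of_le (show q.range ≤ Z.map (QuotientGroup.mk' A) by
          rintro _ ⟨y, rfl⟩; exact ⟨_, hpowZ y, rfl⟩)).trans ?_
        have h := ker_mul_range ((QuotientGroup.mk' A).comp Z.subtype)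
        rw [MonoidHom.range_comp, Subgroup.range_subtype, hZ, ← MonoidHom.comap_ker, QuotientGroup.ker_mk',
          show Nat.card (A.comap Z.subtype) = p from
            (Nat.card_congr (Subgroup.subgroupOfEquivOfLe hAZ).toEquiv).trans hcp, sq] at h
        exact (Nat.eq_of_mul_eq_mul_left hp.out.pos h).le
      have hne : q.range ≠ ⊥ := fun h => hx ((QuotientGroup.eq_one_iff _).1
        (Subgroup.mem_bot.1 (h ▸ ⟨x, rfl⟩ : q x ∈ (⊥ : Subgroup (H ⧸ A)))))
      have hge : p ≤ Nat.card q.range := by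
        have h := mul_le_of_lt (hH.to_quotient A) (bot_lt_iff_ne_bot.2 hne)
        rwa [Subgroup.card_bot, mul_one] at h
      have h := (ker_mul_range q).trans hc
      rw [le_antisymm hle hge, show p ^ 4 = p ^ 3 * p from pow_succ p 3] at h
      exact Nat.eq_of_mul_eq_mul_right hp.out.pos h
  -- all `p`-th powers lie in `A`
  set E := A ⊔ Subgroup.zpowers a ⊔ Subgroup.zpowers b
  obtain ⟨z, hzZ, hzA⟩ : ∃ z ∈ Z, z ∉ A := by
    by_contra h
    push Not at h
    have := Subgroup.card_le_of_le (show Z ≤ A from h)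
    rw [hZ, hcp] at this
    exact absurd ((Nat.pow_le_pow_iff_right hp.out.one_lt).1 (this.trans_eq (pow_one p).symm)) (by norm_num)
  haveI : (A ⊔ Subgroup.zpowers a).Normal := PGroups.normal_sup_zpowers fun g => hcommc g a
  have hzp : ∀ (K : Subgroup H) (x : H), K.Normal → A ≤ K → Nat.card (K ⊔ Subgroup.zpowers x : Subgroup H) ≤ p * Nat.card K := by
    intro K x hK hAK
    haveI := hK
    have h := ker_mul_range ((QuotientGroup.mk' K).comp (K ⊔ Subgroup.zpowers x).subtype)
    rw [MonoidHom.range_comp, Subgroup.range_subtype, Subgroup.map_sup, QuotientGroup.map_mk'_self, bot_sup_eq,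
      MonoidHom.map_zpowers, ← MonoidHom.comap_ker, QuotientGroup.ker_mk',
      show Nat.card (K.comap (K ⊔ Subgroup.zpowers x).subtype) = Nat.card K from
        Nat.card_congr (Subgroup.subgroupOfEquivOfLe le_sup_left).toEquiv] at h
    rw [← h, mul_comm]
    refine Nat.mul_le_mul_right _ ?_
    rw [Nat.card_zpowers]
    refine Nat.le_of_dvd hp.out.pos (orderOf_dvd_of_pow_eq_one ?_)
    show ((x : H ⧸ K)) ^ p = 1
    rw [← QuotientGroup.mk_pow, QuotientGroup.eq_one_iff]
    exact hAK (hall x)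
  have hEle : Nat.card E ≤ p ^ 3 := by
    refine (hzp _ b ‹_› le_sup_left).trans ?_
    rw [pow_succ' p 2, sq]
    exact Nat.mul_le_mul_left p ((hzp A a hAn le_rfl).trans_eq (by rw [hcp]))
  have hEge : p ^ 3 ≤ Nat.card E := by
    have h1 : A < A ⊔ Subgroup.zpowers a := SetLike.lt_iff_le_and_exists.2
      ⟨le_sup_left, a, Subgroup.mem_sup_right (Subgroup.mem_zpowers a), fun h => haZ (hAZ h)⟩
    have h2 : A ⊔ Subgroup.zpowers a < E := SetLike.lt_iff_le_and_exists.2
      ⟨le_sup_left, b, Subgroup.mem_sup_right (Subgroup.mem_zpowers b),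
        fun h => hbZa ((sup_le_sup_right hAZ _) h)⟩
    rw [pow_succ' p 2, sq]
    refine (Nat.mul_le_mul_left p ?_).trans (mul_le_of_lt hH h2)
    nth_rewrite 2 [← hcp]
    exact mul_le_of_lt hH h1
  have hE : Nat.card E = p ^ 3 := le_antisymm hEle hEge
  have haE : a ∈ E := Subgroup.mem_sup_left (Subgroup.mem_sup_right (Subgroup.mem_zpowers a))
  have hbE : b ∈ E := Subgroup.mem_sup_right (Subgroup.mem_zpowers b)
  have hcE : A ≤ E := le_sup_left.trans le_sup_left
  have hzE : z ∉ E := by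
    intro hz
    have hZE : Z ≤ E := by
      have hgen : A ⊔ Subgroup.zpowers z = Z := by
        refine Subgroup.eq_of_le_of_card_ge (sup_le hAZ (Subgroup.zpowers_le.2 hzZ)) ?_
        rw [hZ, sq]; nth_rewrite 2 [← hcp]
        exact mul_le_of_lt hH (SetLike.lt_iff_le_and_exists.2
          ⟨le_sup_left, z, Subgroup.mem_sup_right (Subgroup.mem_zpowers z), hzA⟩)
      rw [← hgen]
      exact sup_le hcE (Subgroup.zpowers_le.2 hz)
    have htop : E = ⊤ := eq_top_iff.2 fun x _ => by
      obtain ⟨i, j, w, hw, rfl⟩ := hdecomp x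
      exact mul_mem (mul_mem (hZE hw) (zpow_mem haE i)) (zpow_mem hbE j)
    rw [htop, Subgroup.card_top, hc] at hE
    exact absurd (Nat.pow_right_injective hp.out.two_le hE) (by norm_num)
  have hzone : z ^ p = 1 := hZexp z hzZ
  rcases hp.out.eq_two_or_odd' with h2 | hodd
  · subst h2
    have hsqA : ∀ x : H, x * x ∈ A := fun x => by rw [← sq]; exact hall x
    have hAtwo : ∀ x ∈ A, x ≠ 1 → x = c := by
      intro x hx hx1
      obtain ⟨v, -, huniq⟩ := (Nat.card_eq_two_iff' (1 : A)).1 hcp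
      exact congrArg Subtype.val ((huniq ⟨x, hx⟩ fun h => hx1 (congrArg Subtype.val h)).trans
        (huniq ⟨c, Subgroup.mem_zpowers c⟩ fun h => hc1 (congrArg Subtype.val h)).symm)
    have hZsq : ∀ w ∈ Z, w * w = 1 := fun w hw => by rw [← sq]; exact hZexp w hw
    have hmulZ : ∀ x : H, ∀ w ∈ Z, (w * x) * (w * x) = x * x := fun x w hw => by
      rw [mul_assoc, ← mul_assoc x, Subgroup.mem_center_iff.1 hw x, mul_assoc w x x, ← mul_assoc, hZsq w hw, one_mul]
    by_cases hu : ∀ t : H, t * t = 1 → t ∈ Z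
    · right; right; left
      haveI : Finite E := inferInstance
      have hQ : Nonempty (E ≃* QuaternionGroup 2) := by
        refine Spectrum.Huppert.quaternion_of_card_eight (by rw [hE]; norm_num) ?_
          ⟨⟨a, haE⟩, ⟨b, hbE⟩, fun h => hab (congrArg Subtype.val h)⟩
        intro u w hu2 hu1 hw2 hw1
        have key : ∀ t : E, t * t = 1 → t ≠ 1 → (t : H) = c := by
          intro t ht ht1
          refine hAtwo _ ?_ fun h => ht1 (Subtype.ext h)
          by_contra htA
          refine hzE ?_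
          have hgen : A ⊔ Subgroup.zpowers (t : H) = Z := by
            refine Subgroup.eq_of_le_of_card_ge
              (sup_le hAZ (Subgroup.zpowers_le.2 (hu _ (congrArg Subtype.val ht)))) ?_
            rw [hZ, sq]; nth_rewrite 2 [← hcp]
            exact mul_le_of_lt hH (SetLike.lt_iff_le_and_exists.2
              ⟨le_sup_left, _, Subgroup.mem_sup_right (Subgroup.mem_zpowers _), htA⟩)
          exact (sup_le hcE (Subgroup.zpowers_le.2 t.2)) (hgen.ge hzZ)
        exact Subtype.ext ((key u hu2 hu1).trans (key w hw2 hw1).symm)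
      obtain ⟨e⟩ := hQ
      obtain ⟨g⟩ := exists_product hc hE hzZ hzone hzE
      exact ⟨rfl, ⟨g.trans (MulEquiv.prodCongr e (MulEquiv.refl _))⟩⟩
    left
    push Not at hu
    obtain ⟨t, ht, htZ⟩ := hu
    obtain ⟨d, hd⟩ : ∃ d : H, d * d ≠ 1 := by
      by_contra h
      push Not at h
      apply hab
      have := inv_eq_of_mul_eq_one_right (h (a * b))
      rw [mul_inv_rev, inv_eq_of_mul_eq_one_right (h a), inv_eq_of_mul_eq_one_right (h b)] at this
      exact this.symm
    have hdZ : d ∉ Z := fun h => hd (hZsq d h)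
    haveI hDn : (Z ⊔ Subgroup.zpowers d).Normal := PGroups.normal_sup_zpowers fun g => hcomm g d
    have hmemD : ∀ y ∈ Z ⊔ Subgroup.zpowers d, y ∉ Z → y * y ≠ 1 := by
      intro y hy hyZ
      obtain ⟨w, hw, _, ⟨m, rfl⟩, rfl⟩ := Subgroup.mem_sup_of_normal_left.1 hy
      rcases Int.even_or_odd' m with ⟨r, rfl | rfl⟩
      · exfalso; apply hyZ
        refine mul_mem hw ?_
        simp only
        rw [zpow_mul, zpow_two]
        exact zpow_mem (hAZ (hsqA d)) r
      · simp only
        rw [zpow_add_one, zpow_mul, zpow_two, ← mul_assoc w, hmulZ d _ (mul_mem hw (zpow_mem (hAZ (hsqA d)) r))]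
        exact hd
    have htD : t ∉ Z ⊔ Subgroup.zpowers d := fun h => hmemD t h htZ ht
    have hD : Nat.card (Z ⊔ Subgroup.zpowers d : Subgroup H) = 2 ^ 3 := by
      refine le_antisymm ((hzp Z d inferInstance hAZ).trans (by rw [hZ]; norm_num)) ?_
      have := mul_le_of_lt hH (A := Z) (B := Z ⊔ Subgroup.zpowers d) (SetLike.lt_iff_le_and_exists.2
        ⟨le_sup_left, d, Subgroup.mem_sup_right (Subgroup.mem_zpowers d), hdZ⟩)
      rw [hZ] at this
      exact le_trans (by norm_num) this
    have htdn : ¬ Commute t d := by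
      intro htd
      apply hdZ
      refine Subgroup.mem_center_iff.2 fun g => ?_
      haveI : ((Z ⊔ Subgroup.zpowers d) ⊔ Subgroup.zpowers t).Normal :=
        PGroups.normal_sup_zpowers fun g => Subgroup.mem_sup_left (hcomm g t)
      have htop : (Z ⊔ Subgroup.zpowers d) ⊔ Subgroup.zpowers t = ⊤ := by
        refine Subgroup.eq_top_of_le_card _ ?_
        have := mul_le_of_lt hH (A := Z ⊔ Subgroup.zpowers d) (B := (Z ⊔ Subgroup.zpowers d) ⊔ Subgroup.zpowers t)
          (SetLike.lt_iff_le_and_exists.2 ⟨le_sup_left, t, Subgroup.mem_sup_right (Subgroup.mem_zpowers t), htD⟩)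
        rw [hD] at this
        rw [hc]; exact le_trans (by norm_num) this
      obtain ⟨u, hu, _, ⟨i, rfl⟩, rfl⟩ := Subgroup.mem_sup_of_normal_left.1 (htop ▸ Subgroup.mem_top g)
      obtain ⟨w, hw, _, ⟨m, rfl⟩, rfl⟩ := Subgroup.mem_sup_of_normal_left.1 hu
      exact ((Commute.mul_left (show Commute w d from (Subgroup.mem_center_iff.1 hw d).symm)
        ((Commute.refl d).zpow_left m)).mul_left (htd.zpow_left i)).eq
    -- elements squaring nontrivially lie in `Z⟨d⟩`
    have hkey : ∀ y : H, y * y ≠ 1 → y ∈ Z ⊔ Subgroup.zpowers d := by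
      intro y hy
      by_contra hyD
      have hmem : t⁻¹ * y ∈ Z ⊔ Subgroup.zpowers d := by
        have hcard2 : Nat.card (H ⧸ (Z ⊔ Subgroup.zpowers d)) = 2 := by
          have h := (Z ⊔ Subgroup.zpowers d).card_eq_card_quotient_mul_card_subgroup
          rw [hc, hD] at h
          omega
        refine QuotientGroup.eq.1 ?_
        obtain ⟨v, -, huniq⟩ := (Nat.card_eq_two_iff' (1 : H ⧸ (Z ⊔ Subgroup.zpowers d))).1 hcard2
        exact (huniq _ fun h => htD ((QuotientGroup.eq_one_iff t).1 h)).trans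
          (huniq _ fun h => hyD ((QuotientGroup.eq_one_iff y).1 h)).symm
      obtain ⟨w, hw, _, ⟨m, rfl⟩, hwm⟩ := Subgroup.mem_sup_of_normal_left.1 hmem
      rcases Int.even_or_odd' m with ⟨r, rfl | rfl⟩
      · apply hy
        set w' := w * d ^ (2 * r)
        have hw' : w' ∈ Z := mul_mem hw (by rw [zpow_mul, zpow_two]; exact zpow_mem (hAZ (hsqA d)) r)
        have hy' : y = w' * t := by
          rw [← Subgroup.mem_center_iff.1 hw' t]
          exact (inv_mul_eq_iff_eq_mul.1 hwm.symm)
        rw [hy', hmulZ t w' hw', ht]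
      · set w' := w * d ^ (2 * r)
        have hw' : w' ∈ Z := mul_mem hw (by rw [zpow_mul, zpow_two]; exact zpow_mem (hAZ (hsqA d)) r)
        have hy' : y = w' * (t * d) := by
          have e : y = t * (w' * d) := by
            rw [inv_mul_eq_iff_eq_mul.1 hwm.symm]
            simp [w', zpow_add_one, mul_assoc]
          rw [e, ← mul_assoc, Subgroup.mem_center_iff.1 hw' t, mul_assoc]
        rw [hy', hmulZ (t * d) w' hw', ← sq, PGroups.mul_pow_of_central_commutator t d
          (Subgroup.mem_center_iff.1 (hcomm d t) t) (Subgroup.mem_center_iff.1 (hcomm d t) d) 2, sq, sq, ht,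
          one_mul, show (2 : ℕ).choose 2 = 1 from rfl, pow_one, hAtwo _ (hsqA d) hd,
          hAtwo _ (hcommc d t) fun h => htdn (commutatorElement_eq_one_iff_mul_comm.1 h).symm] at hy
        exact hy (hZsq c hZc)
    refine chain (Z ⊔ Subgroup.zpowers d) (fun γ y hy => ?_) le_sup_left hD
    by_cases hyZ : y ∈ Z
    · exact Subgroup.mem_sup_left (inv_center γ y hyZ)
    · exact hkey _ fun h => hmemD y hy hyZ (γ.injective (by rw [map_mul, map_one]; exact h))
  · obtain ⟨d, hd⟩ := PGroups.prime_dvd_choose_two (p := p) (n := 1)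
      (by rw [pow_one]; rintro rfl; exact absurd hodd (by decide)) le_rfl
    rw [pow_one] at hd
    let f : H →* H :=
      { toFun := fun x => x ^ p
        map_one' := one_pow p
        map_mul' := fun x y => by
          rw [PGroups.mul_pow_of_central_commutator x y (Subgroup.mem_center_iff.1 (hcomm y x) x)
            (Subgroup.mem_center_iff.1 (hcomm y x) y) p, hd, pow_mul, hpc x y, one_pow, mul_one] }
    by_cases hexp : ∀ x : H, x ^ p = 1
    · obtain ⟨g⟩ := exists_product hc hE hzZ hzone hzE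
      have hes : Cfsg.IsExtraspecial p E := by
        have hEp : IsPGroup p E := hH.to_subgroup E
        have hcen : Subgroup.center E = A.subgroupOf E := by
          ext w
          constructor
          · intro hw
            rw [Subgroup.mem_subgroupOf]
            have h1 : (w : H) ∈ Z := Subgroup.mem_center_iff.2 fun x => by
              obtain ⟨i, j, v, hv, rfl⟩ := hdecomp x
              have ha' : Commute a (w : H) :=
                (congrArg Subtype.val (Subgroup.mem_center_iff.1 hw ⟨a, haE⟩) : _)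
              have hb' : Commute b (w : H) :=
                (congrArg Subtype.val (Subgroup.mem_center_iff.1 hw ⟨b, hbE⟩) : _)
              exact (((show Commute v (w : H) from (Subgroup.mem_center_iff.1 hv w).symm).mul_left
                (ha'.zpow_left i)).mul_left (hb'.zpow_left j)).eq
            by_contra hwA
            apply hzE
            have hgen : A ⊔ Subgroup.zpowers (w : H) = Z := by
              refine Subgroup.eq_of_le_of_card_ge (sup_le hAZ (Subgroup.zpowers_le.2 h1)) ?_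
              rw [hZ, sq]; nth_rewrite 2 [← hcp]
              exact mul_le_of_lt hH (SetLike.lt_iff_le_and_exists.2
                ⟨le_sup_left, _, Subgroup.mem_sup_right (Subgroup.mem_zpowers _), hwA⟩)
            exact (sup_le hcE (Subgroup.zpowers_le.2 w.2)) (hgen.ge hzZ)
          · intro hw
            exact Subgroup.mem_center_iff.2 fun x => Subtype.ext (Subgroup.mem_center_iff.1 (hAZ hw) x)
        have hcc : Nat.card (Subgroup.center E) = p := by
          rw [hcen, Nat.card_congr (Subgroup.subgroupOfEquivOfLe hcE).toEquiv, hcp]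
        have hle : commutator E ≤ Subgroup.center E := by
          rw [commutator_def, hcen]
          exact Subgroup.commutator_le.2 fun x _ y _ => hcommc x y
        have heq : commutator E = Subgroup.center E := by
          refine le_antisymm hle fun w hw => ?_
          rw [hcen, Subgroup.mem_subgroupOf] at hw
          obtain ⟨i, hi⟩ := Subgroup.mem_zpowers_iff.1 hw
          rw [show w = ⁅(⟨a, haE⟩ : E), ⟨b, hbE⟩⁆ ^ i from Subtype.ext (by rw [← hi]; rfl), commutator_def]
          exact zpow_mem (Subgroup.commutator_mem_commutator (Subgroup.mem_top _) (Subgroup.mem_top _)) i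
        refine ⟨⟨hEp, le_antisymm (PGroups.frattini_le_of_pow_commutator (p := p) _
          (fun x => by rw [show x ^ p = 1 from Subtype.ext (hexp x)]; exact one_mem _) hle)
          (heq.ge.trans (PGroups.commutator_le_frattini hEp)), heq⟩, hcc⟩
      refine Or.inr (Or.inl ⟨hodd, ?_⟩)
      obtain ⟨E₀, _, _, ⟨e⟩⟩ := Finite.exists_type_univ_nonempty_mulEquiv.{_, 0} E
      refine ⟨E₀, inferInstance, inferInstance, ?_, by rw [← Nat.card_congr e.toEquiv, hE],
        fun x => e.symm.injective (by rw [map_pow, map_one]; exact Subtype.ext (hexp _)),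
        ⟨g.trans (MulEquiv.prodCongr e (MulEquiv.refl _))⟩⟩
      exact FusionP3.GenExtra.isExtraspecial_congr e hes
    left
    push Not at hexp
    obtain ⟨x₀, hx₀⟩ := hexp
    have hR : Nat.card f.range = p := by
      refine le_antisymm ((Subgroup.card_le_of_le (show f.range ≤ A by rintro _ ⟨x, rfl⟩; exact hall x)).trans_eq hcp) ?_
      have hne : f.range ≠ ⊥ := fun h => hx₀ (Subgroup.mem_bot.1 (h ▸ ⟨x₀, rfl⟩ : f x₀ ∈ (⊥ : Subgroup H)))
      have h := mul_le_of_lt hH (bot_lt_iff_ne_bot.2 hne)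
      rwa [Subgroup.card_bot, mul_one] at h
    refine chain f.ker (fun γ y hy => ?_) (fun w hw => hZexp w hw) ?_
    · show γ y ^ p = 1
      rw [← map_pow, show y ^ p = 1 from hy, map_one]
    · have h := (ker_mul_range f).trans hc
      rw [hR, show p ^ 4 = p ^ 3 * p from pow_succ p 3] at h
      exact Nat.eq_of_mul_eq_mul_right hp.out.pos h

/-- Nonabelian groups of order `p⁴`. -/
theorem nonabelian (hc : Nat.card H = p ^ 4) (hnc : ∃ x y : H, x * y ≠ y * x) :
    CharChain p H ∨ NonabShape p H := by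
  have hH : IsPGroup p H := IsPGroup.of_card hc
  haveI : Nontrivial H :=
    Finite.one_lt_card_iff_nontrivial.1 (by rw [hc]; exact Nat.one_lt_pow (by norm_num) hp.out.one_lt)
  obtain ⟨k, hk⟩ := IsPGroup.iff_card.1 (hH.to_subgroup (Subgroup.center H))
  obtain ⟨m, hm⟩ := IsPGroup.iff_card.1 (hH.to_quotient (Subgroup.center H))
  have h1 := (Subgroup.center H).card_eq_card_quotient_mul_card_subgroup
  rw [hc, hk, hm, ← pow_add] at h1
  have h3 := Nat.pow_right_injective hp.out.two_le h1
  have hm2 : 2 ≤ m := by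
    by_contra hlt
    refine not_cyclic_quotient hnc ?_
    rcases (by omega : m = 0 ∨ m = 1) with rfl | rfl
    · haveI : Subsingleton (H ⧸ Subgroup.center H) := (Nat.card_eq_one_iff_unique.1 (by rw [hm, pow_zero])).1
      infer_instance
    · exact isCyclic_of_prime_card (p := p) (by rw [hm, pow_one])
  have hk0 : k ≠ 0 := by
    rintro rfl
    exact (Subgroup.nontrivial_iff_ne_bot _).1 hH.center_nontrivial
      (Subgroup.eq_bot_of_card_eq _ (by rw [hk, pow_zero]))
  rcases (by omega : k = 1 ∨ k = 2) with rfl | rfl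
  · exact Or.inl (center_prime hc (hk.trans (pow_one p)))
  · exact center_sq hc hk

end Nonabelian

end Cfsg.Agent.Lib.FusionEssential.OrderFour
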