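/-
Automorphisms of order prime to p of a p-group are detected on invariant subgroups all of whose elements
have order dividing p (or 4 when p = 2).
-/
import Cfsg.Agent.Lib.PGroups.Automorphism

set_option autoImplicit false
set_option linter.style.haveILetI false

namespace Cfsg.Agent.Lib.FusionEssential.SmallOrder

open Subgroup Cfsg.Agent.Lib.PGroups
open scoped commutatorElement

/-- `x ^ p = 1`, or `x ^ 4 = 1` when `p = 2`. -/
def Small {G : Type*} [Monoid G] (p : ℕ) (x : G) : Prop := x ^ p = 1 ∨ (p = 2 ∧ x ^ 4 = 1)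

variable {G : Type*} [Group G] {p : ℕ}

theorem small_map_iff {H : Type*} [Group H] (f : G →* H) (hf : Function.Injective f) (x : G) :
    Small p (f x) ↔ Small p x := by
  have e : ∀ n : ℕ, f x ^ n = 1 ↔ x ^ n = 1 := fun n => by rw [← map_pow, map_eq_one_iff f hf]
  unfold Small
  rw [e, e]

theorem small_coe_iff {K : Subgroup G} (x : K) : Small p (x : G) ↔ Small p x :=
  small_map_iff K.subtype K.subtype_injective x

theorem small_mulAut_iff (a : MulAut G) (x : G) : Small p (a x) ↔ Small p x :=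
  small_map_iff a.toMonoidHom a.injective x

/-- An automorphism of order prime to `p` stabilising a series fixes it. -/
theorem fixed_of_series (hG : IsPGroup p G) (a : MulAut G) (ha : (orderOf a).Coprime p)
    (L : ℕ → Subgroup G) {n : ℕ} (hn : L n = ⊥) (h : ∀ i, ∀ x ∈ L i, x⁻¹ * a x ∈ L (i + 1)) :
    ∀ x ∈ L 0, a x = x := by
  suffices H : ∀ j i, i + j = n → ∀ x ∈ L i, a x = x from H n 0 (zero_add n)
  intro j
  induction j with
  | zero =>
    intro i hi x hx
    rw [show i = n by omega, hn, Subgroup.mem_bot] at hx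
    rw [hx, map_one]
  | succ j ih =>
    intro i hi x hx
    exact eq_of_fixed_diff hG a ha x (ih (i + 1) (by omega) _ (h i x hx))

/-- A conjugation-invariant set of automorphisms of order prime to `p` which fixes every invariant subgroup
of small exponent fixes every invariant subgroup. -/
theorem fixed_of_small [Finite G] [Fact p.Prime] (hG : IsPGroup p G) (A : Subgroup (MulAut G))
    (D : Set (MulAut G)) (hDA : D ⊆ A) (hDc : ∀ γ ∈ A, ∀ a ∈ D, γ * a * γ⁻¹ ∈ D)
    (hcop : ∀ a ∈ D, (orderOf a).Coprime p) (V : Subgroup G) (hV : ∀ γ ∈ A, ∀ x ∈ V, γ x ∈ V)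
    (h : ∀ Q ≤ V, (∀ γ ∈ A, ∀ x ∈ Q, γ x ∈ Q) → (∀ x ∈ Q, Small p x) → ∀ a ∈ D, ∀ x ∈ Q, a x = x) :
    ∀ a ∈ D, ∀ x ∈ V, a x = x := by
  suffices H : ∀ n, ∀ H ≤ V, Nat.card H = n → (∀ γ ∈ A, ∀ x ∈ H, γ x ∈ H) → ∀ a ∈ D, ∀ x ∈ H, a x = x from
    H _ V le_rfl rfl hV
  intro n
  induction n using Nat.strong_induction_on with
  | _ n ih =>
    intro H hHV hn hH
    have hsub : ∀ K < H, (∀ γ ∈ A, ∀ x ∈ K, γ x ∈ K) → ∀ a ∈ D, ∀ x ∈ K, a x = x := fun K hK =>
      ih _ (hn ▸ lt_of_le_of_ne (Subgroup.card_le_of_le hK.le)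
        (fun he => hK.ne (Subgroup.eq_of_le_of_card_ge hK.le he.ge))) K (hK.le.trans hHV) rfl
    let W := Subgroup.closure {x | ∃ g ∈ H, ∃ a ∈ D, x = g⁻¹ * a g}
    have hWH : W ≤ H := (Subgroup.closure_le H).mpr fun x ⟨g, hg, a, ha, hx⟩ =>
      hx ▸ H.mul_mem (H.inv_mem hg) (hH a (hDA ha) g hg)
    rcases hWH.lt_or_eq with hlt | heq
    · have hWi : ∀ γ ∈ A, ∀ x ∈ W, γ x ∈ W := by
        intro γ hγ
        suffices hle : W ≤ W.comap γ.toMonoidHom from fun x hx => hle hx
        refine (Subgroup.closure_le _).mpr ?_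
        rintro _ ⟨g, hg, a, ha, rfl⟩
        refine Subgroup.subset_closure ⟨γ g, hH γ hγ g hg, γ * a * γ⁻¹, hDc γ hγ a ha, ?_⟩
        show γ (g⁻¹ * a g) = _
        rw [map_mul, map_inv, MulAut.mul_apply, MulAut.mul_apply, MulAut.inv_apply_self]
      exact fun a ha x hx => eq_of_fixed_diff hG a (hcop a ha) x
        (hsub W hlt hWi a ha _ (Subgroup.subset_closure ⟨x, hx, a, ha, rfl⟩))
    · rcases eq_or_ne H ⊥ with rfl | hne
      · exact fun a ha x hx => by simp [Subgroup.mem_bot.mp hx]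
      have : Nontrivial H := (Subgroup.nontrivial_iff_ne_bot H).mpr hne
      set Φ := (frattini H).map H.subtype with hΦdef
      have hΦH : Φ < H := by
        refine lt_of_le_of_ne (Subgroup.map_subtype_le _) fun he => ?_
        have h1 : (⊥ : Subgroup H) ⊔ frattini H = ⊤ := by
          rw [bot_sup_eq]
          refine Subgroup.map_injective H.subtype_injective ?_
          rw [← hΦdef, he, ← MonoidHom.range_eq_map, Subgroup.range_subtype]
        exact bot_ne_top (frattini_nongenerating h1)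
      have hΦi : ∀ γ ∈ A, ∀ x ∈ Φ, γ x ∈ Φ := by
        rintro γ hγ x ⟨y, hy, rfl⟩
        let φ : H ≃* H :=
          MulEquiv.ofBijective
            ({ toFun := fun z => ⟨γ z, hH γ hγ z z.2⟩
               map_one' := Subtype.ext (map_one γ)
               map_mul' := fun u v => Subtype.ext (map_mul γ (u : G) v) } : H →* H)
            (Finite.injective_iff_bijective.mp fun u v huv =>
              Subtype.ext (γ.injective (congrArg Subtype.val huv)))
        exact ⟨φ y, (SetLike.ext_iff.mp (frattini_characteristic.fixed φ) y).mpr hy, rfl⟩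
      have hfix := hsub Φ hΦH hΦi
      have hcen : ∀ x ∈ Φ, ∀ y ∈ H, Commute y x := by
        intro x hx
        have key : H ≤ Subgroup.centralizer {x} := by
          refine heq.ge.trans ((Subgroup.closure_le _).mpr ?_)
          rintro _ ⟨g, hg, a, ha, rfl⟩
          rw [SetLike.mem_coe, Subgroup.mem_centralizer_singleton_iff]
          refine (commute_of_fixed a g x (hfix a ha x hx) (hfix a ha _ ?_)).eq
          obtain ⟨y, hy, rfl⟩ := hx
          exact ⟨⟨g, hg⟩ * y * ⟨g, hg⟩⁻¹, (inferInstance : (frattini H).Normal).conj_mem y hy _, rfl⟩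
        exact fun y hy => Subgroup.mem_centralizer_singleton_iff.mp (key hy)
      have hHp := hG.to_subgroup H
      have hc : ∀ x ∈ H, ∀ y ∈ H, ⁅x, y⁆ ∈ Φ := fun x hx y hy =>
        ⟨⁅(⟨x, hx⟩ : H), ⟨y, hy⟩⁆, commutatorElement_mem_frattini hHp _ _, rfl⟩
      have hcp : ∀ x ∈ H, ∀ y ∈ H, ⁅x, y⁆ ^ p = 1 := fun x hx y hy => by
        rw [← commutatorElement_pow_left_of_central x y (hcen _ (hc x hx y hy) x hx),
          commutatorElement_eq_one_iff_mul_comm]
        exact (hcen _ ⟨⟨x, hx⟩ ^ p, pow_mem_frattini hHp _, rfl⟩ y hy).eq.symm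
      have hmul : ∀ x ∈ H, ∀ y ∈ H, ∀ m : ℕ, (x * y) ^ m = x ^ m * y ^ m * ⁅y, x⁆ ^ m.choose 2 :=
        fun x hx y hy m => mul_pow_of_central_commutator x y (hcen _ (hc y hy x hx) x hx)
          (hcen _ (hc y hy x hx) y hy) m
      obtain ⟨m, hm, hsmall, hgen⟩ : ∃ m : ℕ, (∀ x ∈ H, ∀ y ∈ H, ⁅y, x⁆ ^ m.choose 2 = 1) ∧
          (∀ x : G, x ^ m = 1 → Small p x) ∧ ∀ g ∈ H, ∀ a ∈ D, (g⁻¹ * a g) ^ m = 1 := by
        have hgp : ∀ g ∈ H, g ^ p ∈ Φ := fun g hg => ⟨⟨g, hg⟩ ^ p, pow_mem_frattini hHp _, rfl⟩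
        rcases eq_or_ne p 2 with hp | hp
        · subst hp
          have hc6 : ∀ x ∈ H, ∀ y ∈ H, ⁅y, x⁆ ^ Nat.choose 4 2 = 1 := fun x hx y hy => by
            rw [show Nat.choose 4 2 = 2 * 3 by decide, pow_mul, hcp y hy x hx, one_pow]
          refine ⟨4, hc6, fun x hx => Or.inr ⟨rfl, hx⟩, fun g hg a ha => ?_⟩
          have hd : g⁻¹ * a g ∈ H := H.mul_mem (H.inv_mem hg) (hH a (hDA ha) g hg)
          have hg4 : g ^ 4 ∈ Φ := by
            rw [show (4 : ℕ) = 2 * 2 by norm_num, pow_mul]; exact hgp _ (H.pow_mem hg 2)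
          have h1 : a (g ^ 4) = g ^ 4 := hfix a ha _ hg4
          rw [map_pow, show a g = g * (g⁻¹ * a g) by group, hmul g hg _ hd 4, hc6 g hg _ hd, mul_one] at h1
          exact mul_eq_left.mp h1
        · obtain ⟨t, ht⟩ : p ∣ p.choose 2 := by
            have h := prime_dvd_choose_two (p := p) (n := 1) (by simpa using hp) le_rfl
            rwa [pow_one] at h
          have hct : ∀ x ∈ H, ∀ y ∈ H, ⁅y, x⁆ ^ p.choose 2 = 1 := fun x hx y hy => by
            rw [ht, pow_mul, hcp y hy x hx, one_pow]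
          refine ⟨p, hct, fun x hx => Or.inl hx, fun g hg a ha => ?_⟩
          have hd : g⁻¹ * a g ∈ H := H.mul_mem (H.inv_mem hg) (hH a (hDA ha) g hg)
          have h1 : a (g ^ p) = g ^ p := hfix a ha _ (hgp g hg)
          rw [map_pow, show a g = g * (g⁻¹ * a g) by group, hmul g hg _ hd p, hct g hg _ hd, mul_one] at h1
          exact mul_eq_left.mp h1
      refine h H hHV hH fun x hx => hsmall x ?_
      have key : x ∈ H ∧ x ^ m = 1 := by
        rw [← heq] at hx
        refine Subgroup.closure_induction (p := fun y _ => y ∈ H ∧ y ^ m = 1) ?_ ⟨one_mem _, one_pow _⟩ ?_ ?_ hx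
        · rintro _ ⟨g, hg, a, ha, rfl⟩
          exact ⟨H.mul_mem (H.inv_mem hg) (hH a (hDA ha) g hg), hgen g hg a ha⟩
        · rintro y z - - ⟨hy, hy'⟩ ⟨hz, hz'⟩
          exact ⟨H.mul_mem hy hz, by rw [hmul y hy z hz, hy', hz', hm y hy z hz, one_mul, one_mul]⟩
        · rintro y - ⟨hy, hy'⟩
          exact ⟨H.inv_mem hy, by rw [inv_pow, hy', inv_one]⟩
      exact key.2

end Cfsg.Agent.Lib.FusionEssential.SmallOrder
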