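/-
Criteria for the base to be normal in a saturated fusion system, through automizers of essential subgroups.
-/
import Cfsg.Prelude.Def_FusionSystem
import Cfsg.Agent.Lib.FusionSystem.Essential
import Cfsg.Agent.Lib.FusionP3.Tate
import Cfsg.Agent.Lib.FusionEssential.SmallOrder

set_option autoImplicit false
set_option linter.style.haveILetI false

namespace Cfsg.Agent.Lib.FusionEssential.PClosed

open Cfsg Cfsg.FusionSystem Cfsg.Agent.Lib.FS Cfsg.Agent.Lib.FusionEssential.SmallOrder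
open scoped commutatorElement

variable {Ω : Type*} [Group Ω] {S : Subgroup Ω} [Finite S] {p : ℕ} [Fact p.Prime] {F : FusionSystem S}

theorem le_base_of_or {P : Subgroup Ω} (h : P = S ∨ F.IsEssential p P) : P ≤ S := by
  rcases h with rfl | h
  · exact le_rfl
  · exact h.2.1.1

/-- An automizer of an essential subgroup has no normal `p`-subgroup containing `Aut_S(P)`. -/
theorem not_normal_pGroup (hS : IsPGroup p S) (hF : F.IsSaturated p) {P : Subgroup Ω} (hess : F.IsEssential p P)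
    (K : Subgroup (MulAut P)) (hK : K ≤ F.autGroup P)
    (hKn : ∀ γ ∈ F.autGroup P, ∀ a ∈ K, γ * a * γ⁻¹ ∈ K) (hKp : IsPGroup p K)
    (hKS : autInducedBy S P ≤ K) : False := by
  have hPS : P ≤ S := hess.2.1.1
  haveI := finite_sub hPS
  obtain ⟨M, -, -, -, hne⟩ := FusionEssential.exists_data hS hF hess
  have hrad := (radical_of_essential hS hF hess).2
  have hle : K.subgroupOf (F.autGroup P) ≤ pCore p (F.autGroup P) := by
    refine le_sSup ⟨⟨fun a ha γ => ?_⟩, hKp.of_equiv (Subgroup.subgroupOfEquivOfLe hK).symm⟩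
    exact Subgroup.mem_subgroupOf.2 (hKn _ γ.2 _ (Subgroup.mem_subgroupOf.1 ha))
  have hinn : autInducedBy S P ≤ Inn P := by
    rw [← hrad]
    exact fun a ha => ⟨⟨a, hK (hKS ha)⟩, hle (Subgroup.mem_subgroupOf.2 (hKS ha)), rfl⟩
  obtain ⟨g, hg, hgP⟩ := SetLike.exists_of_lt
    (FusionP3.Induction.lt_normalizerIn hS (lt_of_le_of_ne hPS hne))
  exact not_inn_of_not_mem (hess.1.2 P (isConj_refl F hPS)) hPS hg hgP
    (hinn (mem_autInducedBy.2 ⟨g, hg.1, fun _ => rfl⟩))

/-- Without essential subgroups the base is normal. -/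
theorem isNormal_base (hS : IsPGroup p S) (hF : F.IsSaturated p)
    (h : ∀ P : Subgroup Ω, ¬ F.IsEssential p P) : F.IsNormal S := by
  refine (isNormal_iff_essential hS hF).2 ?_
  rintro P (rfl | hP)
  · refine ⟨le_rfl, fun α _ => ?_⟩
    rw [Subgroup.subgroupOf_self]
    exact Subgroup.map_top_of_surjective _ α.surjective
  · exact absurd hP (h P)

omit [Fact p.Prime] in
/-- A group of automorphisms is a `p`-group when its elements of order prime to `p` are trivial. -/
theorem isPGroup_of_coprime_trivial [Fact p.Prime] {A : Type*} [Group A] [Finite A] (K : Subgroup A)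
    (h : ∀ a ∈ K, (orderOf a).Coprime p → a = 1) : IsPGroup p K := by
  rw [IsPGroup.iff_orderOf]
  rintro ⟨a, ha⟩
  rw [Subgroup.orderOf_mk]
  obtain ⟨k, m, hm, hkm⟩ := Nat.exists_eq_pow_mul_and_not_dvd (orderOf_pos a).ne' p (Fact.out : p.Prime).ne_one
  refine ⟨k, ?_⟩
  have hb : orderOf (a ^ p ^ k) = m := by
    rw [orderOf_pow_of_dvd (pow_ne_zero _ (Fact.out : p.Prime).ne_zero) (hkm ▸ dvd_mul_right _ _), hkm,
      Nat.mul_div_cancel_left _ (Nat.pow_pos (Fact.out : p.Prime).pos)]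
  have h1 : a ^ p ^ k = 1 := h _ (K.pow_mem ha _) (by
    rw [hb]; exact ((Fact.out : p.Prime).coprime_iff_not_dvd.2 hm).symm)
  rw [h1, orderOf_one] at hb
  rw [hkm, ← hb, mul_one]

/-- The `p'`-elements of a normal subgroup of an automizer are trivial when they fix the invariant subgroups
of small exponent inside a strongly closed subgroup containing their commutators. -/
theorem isPGroup_of_small (hS : IsPGroup p S) {P : Subgroup Ω} (hP : P ≤ S) (K : Subgroup (MulAut P))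
    (hK : K ≤ F.autGroup P) (hKn : ∀ γ ∈ F.autGroup P, ∀ a ∈ K, γ * a * γ⁻¹ ∈ K)
    {V : Subgroup Ω} (hV : F.StronglyClosed V)
    (hmove : ∀ a ∈ F.autGroup P, (orderOf a).Coprime p → ∀ x : P, (x : Ω)⁻¹ * ((a x : P) : Ω) ∈ V)
    (h : ∀ Q : Subgroup P, Q ≤ V.subgroupOf P → (∀ γ ∈ F.autGroup P, ∀ x ∈ Q, γ x ∈ Q) →
      (∀ x ∈ Q, Small p x) → ∀ a ∈ K, (orderOf a).Coprime p → ∀ x ∈ Q, a x = x) :
    IsPGroup p K := by
  haveI := finite_sub hP
  refine isPGroup_of_coprime_trivial K fun a ha hco => ?_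
  have hPp : IsPGroup p P := isPGroup_of_le hS hP
  have hVi : ∀ γ ∈ F.autGroup P, ∀ x ∈ V.subgroupOf P, γ x ∈ V.subgroupOf P := fun γ hγ x hx =>
    Subgroup.mem_subgroupOf.2 ((autGroup_mem_iff_of_stronglyClosed hV hP hγ x).1 (Subgroup.mem_subgroupOf.1 hx))
  have hfix := fixed_of_small hPp (F.autGroup P) {b | b ∈ K ∧ (orderOf b).Coprime p} (fun b hb => hK hb.1)
    (fun γ hγ b hb => ⟨hKn γ hγ b hb.1, by
      have e : orderOf (γ * b * γ⁻¹) = orderOf b := (MulAut.conj γ).orderOf_eq b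
      rw [e]; exact hb.2⟩)
    (fun b hb => hb.2) (V.subgroupOf P) hVi (fun Q hQV hQi hQs b hb => h Q hQV hQi hQs b hb.1 hb.2) a ⟨ha, hco⟩
  ext x
  refine congrArg Subtype.val (PGroups.eq_of_fixed_diff hPp a hco x (hfix _ ?_))
  exact Subgroup.mem_subgroupOf.2 (hmove a (hK ha) hco x)

/-- Commutators of elements of `O^p` of automizers lie in the hyperfocal subgroup. -/
theorem inv_mul_mem_hyperfocal {P : Subgroup Ω} (hP : P ≤ S) {a : MulAut P} (ha : a ∈ F.autGroup P)
    (hco : (orderOf a).Coprime p) (x : P) : (x : Ω)⁻¹ * ((a x : P) : Ω) ∈ F.hyperfocalSubgroup p :=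
  FusionP3.Tate.hyperfocal_gen_mem hP (α := ⟨a, ha⟩)
    (Subgroup.subset_closure (show (orderOf (⟨a, ha⟩ : F.autGroup P)).Coprime p by
      rwa [Subgroup.orderOf_mk])) x

theorem exists_lowerCentralSeries_eq_bot (hS : IsPGroup p S) : ∃ n, S.lowerCentralSeries n = ⊥ :=
  (Subgroup.isNilpotent_iff_lowerCentralSeries (S := S)).1 hS.isNilpotent

omit [Finite S] [Fact p.Prime] in
/-- Maps with source `S` preserve the lower central series. -/
theorem hom_base_mem_series {φ : S →* Ω} (hφ : φ ∈ F.Hom S) {i : ℕ} (x : S)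
    (hx : (x : Ω) ∈ S.lowerCentralSeries i) : φ x ∈ S.lowerCentralSeries i := by
  obtain ⟨y, hy, hyx⟩ := (Subgroup.top_subtype_lowerCentralSeries S i).ge hx
  have e : y = x := Subtype.ext hyx
  subst e
  have h1 : φ y ∈ ((⊤ : Subgroup S).lowerCentralSeries i).map φ := Subgroup.mem_map_of_mem φ hy
  rw [Subgroup.map_lowerCentralSeries, ← MonoidHom.range_eq_map] at h1
  exact Subgroup.lowerCentralSeries_mono i (range_le_base hφ) h1

omit [Finite S] in
/-- Conjugation by `S` acts trivially on the factors of the lower central series. -/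
theorem conj_mem_series {i : ℕ} {x s : Ω} (hx : x ∈ S.lowerCentralSeries i) (hs : s ∈ S) :
    x⁻¹ * (s * x * s⁻¹) ∈ S.lowerCentralSeries (i + 1) := by
  have h : ⁅x⁻¹, s⁆ ∈ S.lowerCentralSeries (i + 1) := by
    rw [Subgroup.lowerCentralSeries_succ]
    exact Subgroup.commutator_mem_commutator (inv_mem hx) hs
  rwa [commutatorElement_def, inv_inv, show x⁻¹ * s * x * s⁻¹ = x⁻¹ * (s * x * s⁻¹) by group] at h

omit [Finite S] in
/-- Elements of prime-power small order generate cyclic groups of order `p` or `4`. -/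
theorem card_zpowers_of_small {x : Ω} (hx : Small p x) (h1 : x ≠ 1) :
    Nat.card (Subgroup.zpowers x) = p ∨ Nat.card (Subgroup.zpowers x) = 4 := by
  rw [Nat.card_zpowers]
  rcases hx with hx | ⟨rfl, hx⟩
  · exact Or.inl (orderOf_eq_prime hx h1)
  · obtain ⟨j, hj, hj'⟩ := (Nat.dvd_prime_pow Nat.prime_two).1
      (show orderOf x ∣ 2 ^ 2 from orderOf_dvd_of_pow_eq_one hx)
    interval_cases j
    · exact absurd (orderOf_eq_one_iff.1 (by simpa using hj')) h1
    · exact Or.inl (by simpa using hj')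
    · exact Or.inr (by simpa using hj')

/-- If every small element of a strongly closed `V` containing the `p'`-commutators moves inside each term of
the lower central series of `S` by a map defined on `S`, the base is normal. -/
theorem isNormal_base_of_series (hS : IsPGroup p S) (hF : F.IsSaturated p) {V : Subgroup Ω}
    (hV : F.StronglyClosed V)
    (hmove : ∀ P ≤ S, ∀ a ∈ F.autGroup P, (orderOf a).Coprime p → ∀ x : P, (x : Ω)⁻¹ * ((a x : P) : Ω) ∈ V)
    (h : ∀ (P : Subgroup Ω) (φ : P →* Ω), φ ∈ F.Hom P → ∀ x : P, (x : Ω) ∈ V → Small p (x : Ω) →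
      ∀ i, (x : Ω) ∈ S.lowerCentralSeries i → φ x ∈ S.lowerCentralSeries i) :
    F.IsNormal S := by
  refine isNormal_base hS hF fun P hess => ?_
  have hP : P ≤ S := hess.2.1.1
  haveI := finite_sub hP
  let good : Subgroup P → Prop := fun Q => Q ≤ V.subgroupOf P ∧
    (∀ γ ∈ F.autGroup P, ∀ x ∈ Q, γ x ∈ Q) ∧ ∀ x ∈ Q, Small p x
  have hkeep : ∀ Q, good Q → ∀ γ ∈ F.autGroup P, ∀ x ∈ Q, ∀ i, (x : Ω) ∈ S.lowerCentralSeries i →
      ((γ x : P) : Ω) ∈ S.lowerCentralSeries i := by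
    intro Q hQ γ hγ x hx i hxi
    obtain ⟨φ, hφ, -, he⟩ := exists_hom_of_aut hP hγ
    rw [← he]
    exact h P φ hφ x (Subgroup.mem_subgroupOf.1 (hQ.1 hx)) ((small_coe_iff x).2 (hQ.2.2 x hx)) i hxi
  let K : Subgroup (MulAut P) :=
    { carrier := {a | a ∈ F.autGroup P ∧ ∀ Q, good Q → ∀ x ∈ Q, ∀ i, (x : Ω) ∈ S.lowerCentralSeries i →
          (x : Ω)⁻¹ * ((a x : P) : Ω) ∈ S.lowerCentralSeries (i + 1)}
      one_mem' := ⟨one_mem _, fun Q _ x _ i _ => by simp⟩
      mul_mem' := fun {a b} ha hb => ⟨mul_mem ha.1 hb.1, fun Q hQ x hx i hi => by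
        rw [show (x : Ω)⁻¹ * (((a * b) x : P) : Ω) =
          ((x : Ω)⁻¹ * ((b x : P) : Ω)) * (((b x : P) : Ω)⁻¹ * ((a (b x) : P) : Ω)) by
            rw [MulAut.mul_apply]; group]
        exact mul_mem (hb.2 Q hQ x hx i hi)
          (ha.2 Q hQ (b x) (hQ.2.1 b hb.1 x hx) i (hkeep Q hQ b hb.1 x hx i hi))⟩
      inv_mem' := fun {a} ha => ⟨inv_mem ha.1, fun Q hQ x hx i hi => by
        have := ha.2 Q hQ (a⁻¹ x) (hQ.2.1 _ (inv_mem ha.1) x hx) i (hkeep Q hQ _ (inv_mem ha.1) x hx i hi)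
        rw [MulAut.apply_inv_self] at this
        simpa using inv_mem this⟩ }
  have hKn : ∀ γ ∈ F.autGroup P, ∀ a ∈ K, γ * a * γ⁻¹ ∈ K := fun γ hγ a ha => by
    refine ⟨mul_mem (mul_mem hγ ha.1) (inv_mem hγ), fun Q hQ x hx i hi => ?_⟩
    set y := γ⁻¹ x with hy
    have hyQ : y ∈ Q := hQ.2.1 _ (inv_mem hγ) x hx
    have hd := ha.2 Q hQ y hyQ i (hkeep Q hQ _ (inv_mem hγ) x hx i hi)
    have := hkeep Q hQ γ hγ (y⁻¹ * a y) (mul_mem (inv_mem hyQ) (hQ.2.1 a ha.1 y hyQ)) (i + 1) (by simpa using hd)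
    rw [map_mul, map_inv, hy, MulAut.apply_inv_self] at this
    simpa [MulAut.mul_apply] using this
  refine not_normal_pGroup hS hF hess K (fun a ha => ha.1) hKn ?_ ?_
  · refine isPGroup_of_small hS hP K (fun a ha => ha.1) hKn hV (hmove P hP) ?_
    intro Q hQV hQi hQs a ha hco x hx
    obtain ⟨n, hn⟩ := exists_lowerCentralSeries_eq_bot hS
    refine fixed_of_series (isPGroup_of_le hS hP) a hco
      (fun i => Q ⊓ (S.lowerCentralSeries i).subgroupOf P) (n := n) ?_ ?_ x ?_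
    · simp only [hn]
      rw [Subgroup.bot_subgroupOf, inf_bot_eq]
    · rintro i y ⟨hyQ, hyi⟩
      exact ⟨Q.mul_mem (Q.inv_mem hyQ) (hQi a ha.1 y hyQ),
        by simpa [Subgroup.mem_subgroupOf] using ha.2 Q ⟨hQV, hQi, hQs⟩ y hyQ i (Subgroup.mem_subgroupOf.1 hyi)⟩
    · exact ⟨hx, Subgroup.mem_subgroupOf.2 (hP x.2)⟩
  · intro a ha
    refine ⟨autInducedBy_le_autGroup F hP ha, fun Q _ x _ i hi => ?_⟩
    obtain ⟨g, hg, he⟩ := mem_autInducedBy.1 ha
    rw [he]
    exact conj_mem_series hi hg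

end Cfsg.Agent.Lib.FusionEssential.PClosed
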