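import Cfsg.Agent.Lib.FusionP3.Biset
import Cfsg.Agent.Lib.FusionP3.Transfer

/-!
# Park: a stable biset for an arbitrary fusion system

Without saturation one still finds a finite `S × S`-set, stable under the system, whose stabilizers are graphs of
maps of the system and with a point fixed by the diagonal: force the marks to depend only on the order,
multiplying by `|S × S|` at each level to obtain the divisibility.
-/

set_option autoImplicit false

namespace Cfsg.Agent.Lib.FusionEssential.Park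

open Cfsg Cfsg.FusionSystem MulAction
open Cfsg.Agent.Lib
open Cfsg.Agent.Lib.FusionP3.GSets Cfsg.Agent.Lib.FusionP3.Biset

universe u

variable {Ω : Type u} [Group Ω] {S : Subgroup Ω}

/-- Disjoint copies multiply the marks. -/
theorem exists_copies {G : Type u} [Group G] (Y : Type u) [MulAction G Y] [Finite Y] (M : ℕ) :
    ∃ (Z : Type u) (_ : MulAction G Z) (_ : Finite Z),
      (∀ K : Subgroup G, markCount Z K = markCount Y K * M) ∧
      ∀ z : Z, ∃ y : Y, stabilizer G z = stabilizer G y := by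
  let inst : MulAction G (Y × ULift.{u} (Fin M)) :=
    { smul := fun g z => (g • z.1, z.2)
      one_smul := fun z => Prod.ext (one_smul G z.1) rfl
      mul_smul := fun g h z => Prod.ext (mul_smul g h z.1) rfl }
  have hst : ∀ z : Y × ULift.{u} (Fin M), stabilizer G z = stabilizer G z.1 := fun z => by
    ext g
    exact ⟨fun h => congrArg Prod.fst (show (g • z.1, z.2) = z from h),
      fun h => show (g • z.1, z.2) = z from Prod.ext h rfl⟩
  refine ⟨_, inst, inferInstance, fun K => ?_, fun z => ⟨z.1, hst z⟩⟩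
  rw [markCount, Nat.card_congr (Equiv.subtypeEquivRight fun z => (by rw [hst z] :
    K ≤ stabilizer G z ↔ K ≤ stabilizer G z.1))]
  rw [markCount, Nat.card_congr (Equiv.prodSubtypeFstEquivSubtypeProd
    (p := fun y : Y => K ≤ stabilizer G y)), Nat.card_prod, Nat.card_ulift, Nat.card_fin]

/-- The diagonal is a graph. -/
theorem isGraph_diag (F : FusionSystem S) : IsGraph F ((MonoidHom.id S).prod (MonoidHom.id S)).range :=
  ⟨S, S.subtype, FS.subtype_mem F le_rfl, S.subtype, FS.subtype_mem F le_rfl, fun z =>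
    ⟨by rintro ⟨x, rfl⟩; exact ⟨x, rfl, rfl⟩, fun ⟨x, h1, h2⟩ =>
      ⟨x, Prod.ext (Subtype.ext h1) (Subtype.ext h2)⟩⟩⟩

theorem card_diag : Nat.card ((MonoidHom.id S).prod (MonoidHom.id S)).range = Nat.card S :=
  Nat.card_congr (MonoidHom.ofInjective fun _ _ h => congrArg Prod.fst h).toEquiv.symm

/-- The semicharacteristic biset. -/
theorem exists_biset [Finite S] (F : FusionSystem S) :
    ∃ (X : Type u) (_ : MulAction (S × S) X) (_ : Finite X),
      (∀ x : X, IsGraph F (stabilizer (S × S) x)) ∧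
      (∀ (A : Subgroup Ω) (φ : A →* Ω) (hφ : φ ∈ F.Hom A), ∃ e : X ≃ X,
        ∀ (z : dom S A) (x : X), e ((z : S × S) • x) = twHom hφ z • e x) ∧
      ∃ x : X, ∀ s : S, ((s, s) : S × S) • x = x := by
  classical
  set N := Nat.card S
  suffices h : ∀ j, ∃ (X : Type u) (_ : MulAction (S × S) X) (_ : Finite X) (f : ℕ → ℕ),
      (∀ x : X, IsGraph F (stabilizer (S × S) x)) ∧
      (∀ K : Subgroup (S × S), IsGraph F K → N + 1 - j ≤ Nat.card K → markCount X K = f (Nat.card K)) ∧
      (0 < j → 0 < f N) by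
    obtain ⟨X, iX, fX, f, hg, hm, hpos⟩ := h (N + 1)
    refine ⟨X, iX, fX, hg, fun A φ hφ => ?_, ?_⟩
    · refine @exists_equiv_of_markCount_eq (dom S A) _ _ (Nat.card X) X
        (MulAction.compHom X (dom S A).subtype) _ X (MulAction.compHom X (twHom hφ)) _ rfl fun L => ?_
      rw [markCount_comp, markCount_comp]
      have hK : L.map (dom S A).subtype ≤ dom S A := Subgroup.map_subtype_le L
      have htw : L.map (twHom hφ) = tw hφ (L.map (dom S A).subtype) := by
        rw [tw, Subgroup.subgroupOf, Subgroup.comap_map_eq_self_of_injective (dom S A).subtype_injective]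
      rw [htw]
      by_cases hgr : IsGraph F (L.map (dom S A).subtype)
      · rw [hm _ hgr (by omega), hm _ ((isGraph_tw_iff hφ hK).mpr hgr) (by omega), card_tw hφ hK]
      · rw [markCount_eq_zero_of_not_isGraph hg hgr,
          markCount_eq_zero_of_not_isGraph hg fun hh => hgr ((isGraph_tw_iff hφ hK).mp hh)]
    · have h1 : 0 < markCount X ((MonoidHom.id S).prod (MonoidHom.id S)).range := by
        rw [hm _ (isGraph_diag F) (by omega), card_diag]
        exact hpos (Nat.succ_pos _)
      obtain ⟨⟨x, hx⟩⟩ := (Nat.card_pos_iff.mp h1).1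
      exact ⟨x, fun s => hx ⟨s, rfl⟩⟩
  intro j
  induction j with
  | zero =>
    let iE : MulAction (S × S) PEmpty.{u + 1} :=
      { smul := fun _ x => x.elim, one_smul := fun x => x.elim, mul_smul := fun _ _ x => x.elim }
    refine ⟨PEmpty.{u + 1}, iE, inferInstance, fun _ => 0, fun x => x.elim, fun K hK hc => ?_,
      fun h => absurd h (lt_irrefl 0)⟩
    have := card_le_of_isGraph hK
    omega
  | succ j ih =>
    obtain ⟨X, iX, fX, f, hg, hm, hpos⟩ := ih
    by_cases hj : N < j
    · exact ⟨X, iX, fX, f, hg, fun K hK hc => hm K hK (by omega), fun _ => hpos (by omega)⟩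
    obtain ⟨Y, iY, fY, hY, hYst⟩ := exists_copies X (G := S × S) (Nat.card (S × S))
    set d := N - j
    set B := Nat.card (S × S) * (Nat.card Y + 1)
    have hB : ∀ K : Subgroup (S × S), markCount Y K ≤ B := fun K =>
      (markCount_le_card K).trans (le_trans (Nat.le_succ _) (Nat.le_mul_of_pos_left _ Nat.card_pos))
    obtain ⟨Z, iZ, fZ, hZg, hZ1, hZ2, -, -⟩ :=
      exists_extend_marks (IsGraph F) (fun g K h => isGraph_conj h g) d (fun _ => B)
        (fun _ _ _ _ => rfl) Y (fun y => by obtain ⟨x, hx⟩ := hYst y; rw [hx]; exact hg x)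
        (fun K _ _ => hB K)
        (fun K _ _ => by
          refine Nat.dvd_sub ?_ ?_
          · exact ((Subgroup.index_dvd_card _).trans (Subgroup.card_subgroup_dvd_card _)).trans (dvd_mul_right _ _)
          · rw [hY]
            exact ((Subgroup.index_dvd_card _).trans (Subgroup.card_subgroup_dvd_card _)).trans (dvd_mul_left _ _))
    refine ⟨Z, iZ, fZ, fun c => if c = d then B else f c * Nat.card (S × S), hZg, fun K hK hc => ?_, fun _ => ?_⟩
    · by_cases hcd : Nat.card K = d
      · show _ = if Nat.card K = d then B else _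
        rw [if_pos hcd, hZ2 K hK hcd]
      · show _ = if Nat.card K = d then B else f (Nat.card K) * Nat.card (S × S)
        rw [if_neg hcd, hZ1 K (by omega), hY, hm K hK (by omega)]
    · show 0 < if N = d then B else f N * Nat.card (S × S)
      split_ifs with hd
      · exact Nat.mul_pos Nat.card_pos (Nat.succ_pos _)
      · exact Nat.mul_pos (hpos (by omega)) Nat.card_pos

/-- Park: every fusion system is realised by a finite group. -/
theorem exists_realization [Finite S] (F : FusionSystem S) :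
    ∃ (G : Type u) (_ : Group G) (_ : Finite G) (ι : S →* G), F.IsRealizedBy ι := by
  obtain ⟨X, iX, fX, hg, hst, x₀, hx₀⟩ := exists_biset F
  haveI : Finite (Equiv.Perm X) := inferInstance
  refine ⟨FusionP3.Transfer.equivGroup S X, inferInstance, inferInstance, FusionP3.Transfer.lft S X, ?_, ?_⟩
  · refine (injective_iff_map_eq_one _).2 fun a ha => ?_
    have h : ((a, 1) : S × S) ∈ stabilizer (S × S) x₀ :=
      (congrArg (fun γ : FusionP3.Transfer.equivGroup S X => γ.1 x₀) ha : _)
    obtain ⟨P, φ, hφ, -, key⟩ := exists_hom_of_isGraph (hg x₀)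
    obtain ⟨h1, h2⟩ := (key _).mp h
    have h3 : (⟨(a : Ω), h1⟩ : P) = 1 := F.injective_of_mem hφ (h2.trans (map_one φ).symm)
    exact Subtype.ext (congrArg (fun y : P => (y : Ω)) h3)
  intro P hP φ hv
  constructor
  · intro hφ
    obtain ⟨ε, hε⟩ := FusionP3.Transfer.exists_twist hst hφ
    refine ⟨ε, fun x => ?_⟩
    rw [eq_mul_inv_iff_mul_eq]
    refine Subtype.ext (Equiv.ext fun z => ?_)
    exact (hε x 1 z).symm
  · rintro ⟨g, hgx⟩
    set w := g.1 x₀
    have hfix : ∀ x : P, ((⟨φ x, hv x⟩, ⟨x, hP x.2⟩) : S × S) • w = w := by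
      intro x
      have e := hgx x
      rw [eq_mul_inv_iff_mul_eq] at e
      have e2 : ((⟨φ x, hv x⟩, 1) : S × S) • g.1 (((1 : S), (⟨x, hP x.2⟩ : S)) • x₀) =
          g.1 (((⟨x, hP x.2⟩, 1) : S × S) • ((1 : S), (⟨x, hP x.2⟩ : S)) • x₀) :=
        congrArg (fun γ : FusionP3.Transfer.equivGroup S X => γ.1 (((1 : S), (⟨x, hP x.2⟩ : S)) • x₀)) e
      rw [FusionP3.Transfer.equiv_apply, smul_smul, smul_smul, Prod.mk_mul_mk, Prod.mk_mul_mk, one_mul,
        mul_one, mul_one, hx₀] at e2
      exact e2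
    obtain ⟨P', ψ, hψ, -, key⟩ := exists_hom_of_isGraph (hg w)
    have hk : ∀ x : P, ∃ h : φ x ∈ P', ψ ⟨φ x, h⟩ = (x : Ω) := fun x =>
      (key _).mp (mem_stabilizer_iff.mpr (hfix x))
    have hle : φ.range ≤ P' := by rintro _ ⟨x, rfl⟩; exact (hk x).1
    obtain ⟨τ, hτ, hτe⟩ := FS.exists_restrict hψ hle
    have hτ' : ∀ x : P, τ ⟨φ x, ⟨x, rfl⟩⟩ = (x : Ω) := fun x => (hτe _).trans (hk x).2
    have hr : τ.range = P := by
      refine le_antisymm ?_ fun y hy => ⟨_, hτ' ⟨y, hy⟩⟩
      rintro _ ⟨⟨_, x, rfl⟩, rfl⟩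
      rw [hτ']; exact x.2
    obtain ⟨χ, hχ, -, hl, -⟩ := FS.exists_inv hτ hr
    refine FS.hom_congr hχ fun x => ?_
    have h1 := hl ⟨φ x, ⟨x, rfl⟩⟩ (by rw [hτ']; exact x.2)
    refine h1.symm.trans (congrArg χ (Subtype.ext ?_))
    exact hτ' x

end Cfsg.Agent.Lib.FusionEssential.Park
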