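import Cfsg.Agent.Lib.FusionP3.Induction
import Cfsg.Agent.Lib.FusionSystem.Agree

/-!
Every automizer of a fully normalized subgroup is realised inside the automizer of a fully normalized
centric radical subgroup.
-/

set_option autoImplicit false
set_option linter.style.haveILetI false

namespace Cfsg.Agent.Lib.FusionEssential.RadicalClimb

open Cfsg Cfsg.FusionSystem Cfsg.Agent.Lib.FS Cfsg.Agent.Lib.FusionP3.Induction

theorem mem_pCore_of_hom {X Y : Type*} [Group X] [Group Y] [Finite X] {p : ℕ} (f : X →* Y)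
    (hf : Function.Surjective f) {x : X} (hx : x ∈ pCore p X) : f x ∈ pCore p Y :=
  Cores.map_pCore_le f hf ⟨x, hx, rfl⟩

theorem mem_pCore_of_injective {X Y : Type*} [Group X] [Group Y] [Finite Y] {p : ℕ} (f : X →* Y)
    (hf : Function.Injective f) {x : X} (hx : f x ∈ pCore p Y) : x ∈ pCore p X := by
  haveI : ((pCore p Y).comap f).Normal := Subgroup.Normal.comap inferInstance f
  refine Cores.le_pCore (N := (pCore p Y).comap f) ?_ hx
  exact (Cores.pCore_isPGroup p).of_injective (f.subgroupComap (pCore p Y))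
    fun a b h => Subtype.ext (hf (congrArg Subtype.val h))

variable {Ω : Type*} [Group Ω] {S : Subgroup Ω} [Finite S] {p : ℕ} [Fact p.Prime] {F : FusionSystem S}

omit [Finite S] [Fact p.Prime] in
/-- The transported automorphism in terms of the map. -/
theorem congr_homEquiv_apply {P Q : Subgroup Ω} {φ : P →* Ω} (hφ : φ ∈ F.Hom P) (hQ : φ.range = Q)
    (α : MulAut P) (x : P) :
    MulAut.congr (homEquiv hφ hQ) α (homEquiv hφ hQ x) = homEquiv hφ hQ (α x) := by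
  show homEquiv hφ hQ (α ((homEquiv hφ hQ).symm (homEquiv hφ hQ x))) = _
  rw [MulEquiv.symm_apply_apply]

/-- One step of the climb. -/
theorem exists_step (hS : IsPGroup p S) (hF : F.IsSaturated p) {P : Subgroup Ω} (hc : F.IsCentric P)
    (hfn : F.IsFullyNormalized P) (hrad : ¬ F.IsRadical p P) :
    ∃ R : Subgroup Ω, R ≤ S ∧ P < R ∧ F.IsCentric R ∧ ∀ α ∈ F.autGroup P, ∃ β ∈ F.autGroup R,
      ∀ (x : P) (hx : (x : Ω) ∈ R), ((β ⟨x, hx⟩ : R) : Ω) = ((α x : P) : Ω) := by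
  haveI := finite_sub hfn.1
  set W := (pCore p (F.autGroup P)).map (F.autGroup P).subtype with hW
  have hinn : Inn P ≤ W := by
    intro w hw
    have hwX := inn_le_autGroup F hfn.1 hw
    haveI : ((Inn P).subgroupOf (F.autGroup P)).Normal := by
      refine ⟨fun n hn g => ?_⟩
      obtain ⟨q, hq⟩ := Subgroup.mem_subgroupOf.mp hn
      refine Subgroup.mem_subgroupOf.mpr ⟨g.1 q, ?_⟩
      rw [Subgroup.coe_mul, Subgroup.coe_mul, Subgroup.coe_inv, ← hq]
      refine MulEquiv.ext fun x => ?_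
      simp [MulAut.mul_apply, MulAut.conj_apply]
    refine ⟨⟨w, hwX⟩, Cores.le_pCore ?_ (Subgroup.mem_subgroupOf.mpr hw), rfl⟩
    refine IsPGroup.of_injective ?_ (Subgroup.subgroupOfEquivOfLe (inn_le_autGroup F hfn.1)).toMonoidHom
      (MulEquiv.injective _)
    exact (isPGroup_of_le hS hfn.1).of_surjective (MulAut.conj (G := P)).rangeRestrict
      (MulAut.conj (G := P)).rangeRestrict_surjective
  have hWT : W ≤ autInducedBy S P := by
    obtain ⟨R, hR⟩ := (fullyAutomized_of_fullyNormalized hS hF hfn).2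
    rintro _ ⟨w, hw, rfl⟩
    exact Subgroup.mem_subgroupOf.mp (hR ▸ Cores.pCore_le_sylow R hw)
  set R := preimageAut S P W with hR
  have hRS : R ≤ S := (preimageAut_le P W).trans (normalizerIn_le P)
  have hlt : P < R := by
    refine lt_of_le_of_ne (le_preimageAut hfn.1 hinn) fun he => hrad ⟨hfn.1, le_antisymm ?_ hinn⟩
    intro w hw
    obtain ⟨g, hg, hgw⟩ := mem_autInducedBy.mp (hWT hw)
    have hgP : g ∈ P := by
      rw [he]; exact ⟨⟨hg, mem_normalizer_of_aut hgw⟩, w, hw, hgw⟩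
    exact ⟨⟨g, hgP⟩, MulEquiv.ext fun x => Subtype.ext (hgw x).symm⟩
  refine ⟨R, hRS, hlt, FS.isCentric_of_le hc hlt.le hRS, fun α hα => ?_⟩
  have hn : ∀ w ∈ W, α * w * α⁻¹ ∈ W := by
    rintro _ ⟨v, hv, rfl⟩
    exact ⟨_, Subgroup.Normal.conj_mem inferInstance v hv ⟨α, hα⟩, rfl⟩
  obtain ⟨ψ, hψ, he⟩ := exists_extend_preimage (receptive_of_fullyNormalized hS hF hfn) hWT hα hn
  haveI := finite_sub hRS
  have hψR : ∀ g, ψ g ∈ R := by
    rintro ⟨g, hg⟩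
    obtain ⟨hgN, w, hw, hwg⟩ := hg
    have hx : ∀ x : P, ((α (w x) : P) : Ω) = ψ ⟨g, hgN, w, hw, hwg⟩ * (α x : P) * (ψ ⟨g, hgN, w, hw, hwg⟩)⁻¹ := by
      intro x
      rw [← he x x.2 (hlt.le x.2), ← he _ (w x).2 (hlt.le (w x).2), ← map_inv, ← map_mul, ← map_mul]
      exact congrArg ψ (Subtype.ext (hwg x))
    have hv : ∀ y : P, (((α * w * α⁻¹) y : P) : Ω) =
        ψ ⟨g, hgN, w, hw, hwg⟩ * y * (ψ ⟨g, hgN, w, hw, hwg⟩)⁻¹ := by
      intro y
      rw [MulAut.mul_apply, MulAut.mul_apply, hx, MulAut.apply_inv_self]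
    exact ⟨⟨apply_mem hψ _, mem_normalizer_of_aut hv⟩, _, hn w hw, hv⟩
  have hr : ψ.range = R := range_eq_of_mem hψ hψR le_rfl
  exact ⟨_, homEquiv_mem_autGroup hψ hr, fun x hx => by rw [homEquiv_coe]; exact he x x.2 hx⟩

/-- A centric subgroup maps into a fully normalized centric radical subgroup whose automizer induces the whole
automizer of its image. -/
theorem exists_climb (hS : IsPGroup p S) (hF : F.IsSaturated p) {P : Subgroup Ω} (hc : F.IsCentric P) :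
    ∃ (R : Subgroup Ω) (φ : P →* Ω), φ ∈ F.Hom P ∧ φ.range ≤ R ∧ F.IsFullyNormalized R ∧ F.IsCentric R ∧
      F.IsRadical p R ∧ ∀ α ∈ F.autGroup P, ∃ β ∈ F.autGroup R, ∀ (x : P) (hx : φ x ∈ R),
        ((β ⟨φ x, hx⟩ : R) : Ω) = φ (α x) := by
  suffices h : ∀ (k : ℕ) (P : Subgroup Ω), F.IsCentric P → Nat.card S - Nat.card P ≤ k →
      ∃ (R : Subgroup Ω) (φ : P →* Ω), φ ∈ F.Hom P ∧ φ.range ≤ R ∧ F.IsFullyNormalized R ∧ F.IsCentric R ∧
        F.IsRadical p R ∧ ∀ α ∈ F.autGroup P, ∃ β ∈ F.autGroup R, ∀ (x : P) (hx : φ x ∈ R),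
          ((β ⟨φ x, hx⟩ : R) : Ω) = φ (α x) from h _ P hc le_rfl
  intro k
  induction k using Nat.strong_induction_on with
  | _ k ih =>
  intro P hc hk
  obtain ⟨P', hPP', hfn⟩ := exists_isFullyNormalized F hc.1
  obtain ⟨σ, hσ, hσr⟩ := hPP'
  have hc' : F.IsCentric P' :=
    ⟨hfn.1, fun Q hQ => hc.2 Q (isConj_trans ⟨σ, hσ, hσr⟩ hQ)⟩
  set e := homEquiv hσ hσr with he
  by_cases hrad : F.IsRadical p P'
  · refine ⟨P', σ, hσ, hσr.le, hfn, hc', hrad, fun α hα => ?_⟩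
    refine ⟨_, congr_mem_autGroup hσ hσr hα, fun x hx => ?_⟩
    rw [show (⟨σ x, hx⟩ : P') = e x from Subtype.ext rfl, congr_homEquiv_apply]
    rfl
  obtain ⟨R₁, hR₁S, hlt, hc₁, hext⟩ := exists_step hS hF hc' hfn hrad
  haveI := finite_sub hR₁S
  haveI := finite_sub hfn.1
  have hcard : Nat.card P < Nat.card R₁ := by
    rw [← isConj_card (F := F) ⟨σ, hσ, hσr⟩]
    exact lt_of_not_ge fun h => hlt.ne (Subgroup.eq_of_le_of_card_ge hlt.le h)
  have hS' := Subgroup.card_le_of_le hR₁S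
  obtain ⟨R, φ, hφ, hφR, hRfn, hRc, hRr, hφa⟩ :=
    ih (Nat.card S - Nat.card R₁) (by omega) R₁ hc₁ le_rfl
  have hσR : ∀ x, σ x ∈ R₁ := fun x => hlt.le (hσr.le ⟨x, rfl⟩)
  obtain ⟨τ, hτ, eτ⟩ := exists_comp hσ hφ hσR
  refine ⟨R, τ, hτ, ?_, hRfn, hRc, hRr, fun α hα => ?_⟩
  · rintro _ ⟨x, rfl⟩
    rw [eτ]
    exact hφR ⟨_, rfl⟩
  obtain ⟨β₁, hβ₁, hβ₁e⟩ := hext _ (congr_mem_autGroup hσ hσr hα)
  obtain ⟨β, hβ, hβe⟩ := hφa β₁ hβ₁
  refine ⟨β, hβ, fun x hx => ?_⟩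
  have h1 : φ ⟨σ x, hσR x⟩ ∈ R := hφR ⟨_, rfl⟩
  rw [show (⟨τ x, hx⟩ : R) = ⟨φ ⟨σ x, hσR x⟩, h1⟩ from Subtype.ext (eτ x), hβe _ h1, eτ]
  refine congrArg φ (Subtype.ext ?_)
  refine (hβ₁e (e x) (hσR x)).trans ?_
  rw [congr_homEquiv_apply]
  rfl

/-- The product of a fully centralized subgroup with its centralizer is centric and its automizer induces the
whole automizer of the subgroup. -/
theorem exists_centralizer_extension (hS : IsPGroup p S) (hF : F.IsSaturated p) {Q : Subgroup Ω}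
    (hQ : F.IsFullyNormalized Q) :
    F.IsCentric (Q ⊔ centralizerIn S Q) ∧ ∀ α ∈ F.autGroup Q, ∃ β ∈ F.autGroup (Q ⊔ centralizerIn S Q),
      ∀ x : Q, ((β (Subgroup.inclusion le_sup_left x) : ↥(Q ⊔ centralizerIn S Q)) : Ω) = ((α x : Q) : Ω) := by
  set C := centralizerIn S Q with hC
  have hP₀S : Q ⊔ C ≤ S := sup_le hQ.1 (centralizerIn_le Q)
  haveI := finite_sub hQ.1
  haveI : Finite ↥(Q ⊔ C) := finite_sub hP₀S
  refine ⟨⟨hP₀S, ?_⟩, fun α hα => ?_⟩
  · rintro R ⟨ψ, hψ, hψR⟩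
    obtain ⟨ψ₀, hψ₀, eψ₀⟩ := exists_restrict hψ (le_sup_left : Q ≤ Q ⊔ C)
    have hfc := (fullyNormalized_props hS hF hQ).1
    have hz : ∀ c : C, ψ (Subgroup.inclusion le_sup_right c) ∈ centralizerIn S ψ₀.range := fun c => by
      refine ⟨apply_mem hψ _, ?_⟩
      rintro _ ⟨x, rfl⟩
      rw [eψ₀, ← map_mul, ← map_mul]
      exact congrArg ψ (Subtype.ext (c.2.2 x x.2))
    intro y hy
    have hy' : y ∈ centralizerIn S ψ₀.range := centralizerIn_anti (by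
      rintro _ ⟨x, rfl⟩
      rw [eψ₀]
      exact hψR.le ⟨_, rfl⟩) hy
    haveI : Finite C := finite_sub (centralizerIn_le Q)
    haveI : Finite (centralizerIn S ψ₀.range) := finite_sub (centralizerIn_le _)
    have hinj : Function.Injective fun c : C => (⟨_, hz c⟩ : centralizerIn S ψ₀.range) := fun a b h =>
      Subgroup.inclusion_injective _ (F.injective_of_mem hψ (congrArg Subtype.val h))
    obtain ⟨c, hc⟩ := (hinj.bijective_of_nat_card_le (hfc.2 _ ⟨ψ₀, hψ₀, rfl⟩)).2 ⟨y, hy'⟩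
    exact hψR.le ⟨_, congrArg Subtype.val hc⟩
  have hle : Q ⊔ C ≤ normalizerIn S Q := sup_le (le_normalizerIn hQ.1) (centralizerIn_le_normalizerIn Q)
  obtain ⟨φ, hφ, hr, he⟩ := exists_hom_of_aut hQ.1 hα
  obtain ⟨χ, hχ, hext⟩ := (receptive_of_fullyNormalized hS hF hQ).2 Q φ hφ hr
  have hsub : Q ⊔ C ≤ extender S Q φ := sup_le (le_extender hQ.1 (apply_mem hφ)) (centralizerIn_le_extender Q φ)
  obtain ⟨ψ, hψ, eψ⟩ := exists_restrict hχ hsub
  have hψx : ∀ x : Q, ψ (Subgroup.inclusion le_sup_left x) = ((α x : Q) : Ω) := fun x => by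
    rw [eψ, ← he]
    exact hext x x.2 _
  have hψP : ∀ z, ψ z ∈ Q ⊔ C := by
    have key : Q ⊔ C ≤ ((Q ⊔ C).comap ψ).map (Q ⊔ C).subtype := by
      refine sup_le (fun x hx => ⟨Subgroup.inclusion le_sup_left ⟨x, hx⟩, ?_, rfl⟩) fun c hc =>
        ⟨Subgroup.inclusion le_sup_right ⟨c, hc⟩, ?_, rfl⟩
      · show ψ _ ∈ Q ⊔ C
        rw [hψx]
        exact (le_sup_left : Q ≤ Q ⊔ C) (α _).2
      · refine (le_sup_right : C ≤ Q ⊔ C) ⟨apply_mem hψ _, fun y hy => ?_⟩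
        obtain ⟨x, hx⟩ := α.surjective ⟨y, hy⟩
        rw [show y = ψ (Subgroup.inclusion le_sup_left x) by rw [hψx, hx], ← map_mul, ← map_mul]
        exact congrArg ψ (Subtype.ext (hc.2 x x.2))
    rintro ⟨z, hz⟩
    obtain ⟨w, hw, hwz⟩ := key hz
    rwa [show w = ⟨z, hz⟩ from Subtype.ext hwz] at hw
  have hr' : ψ.range = Q ⊔ C := range_eq_of_mem hψ hψP le_rfl
  exact ⟨_, homEquiv_mem_autGroup hψ hr', fun x => by rw [homEquiv_coe]; exact hψx x⟩

end Cfsg.Agent.Lib.FusionEssential.RadicalClimb
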