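import Cfsg.Agent.Lib.FusionEssential.RankTwoGroup
import Cfsg.Agent.Lib.Resistant67.CaseSmall
import Cfsg.Agent.Lib.PLocal.SLTwo

/-!
# Abelian essential subgroups with two generators
-/

set_option autoImplicit false
set_option linter.style.haveILetI false

namespace Cfsg.Agent.Lib.FusionEssential.RankTwo

open Cfsg Cfsg.FusionSystem Cfsg.Agent.Lib Cfsg.Agent.Lib.FS
open Cfsg.Agent.Lib.Resistant67 (aut_mem_frattini conjN)

universe u

variable {Ω : Type u} [Group Ω] {S : Subgroup Ω} [Finite S] {p : ℕ} [Fact p.Prime] {F : FusionSystem S}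
  {P : Subgroup Ω}

/-- An invariant subgroup over the Frattini subgroup is trivial or everything. -/
theorem eq_or_eq_top (hS : IsPGroup p S) (hF : F.IsSaturated p) (hess : F.IsEssential p P)
    (hidx : (frattini P).index ≤ p ^ 2) {M : Subgroup P} (hΦ : frattini P ≤ M)
    (hM : ∀ γ ∈ F.autGroup P, ∀ x ∈ M, γ x ∈ M) : M = frattini P ∨ M = ⊤ := by
  by_contra h
  push Not at h
  exact Resistant67.false_of_between hS hF hess hidx (lt_of_le_of_ne hΦ (Ne.symm h.1)) h.2 hM

/-- The Frattini quotient has order exactly `p²`. -/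
theorem index_eq (hS : IsPGroup p S) (hF : F.IsSaturated p) (hess : F.IsEssential p P)
    (hidx : (frattini P).index ≤ p ^ 2) : (frattini P).index = p ^ 2 := by
  haveI := finite_sub hess.2.1.1
  have hPp := isPGroup_of_le hS hess.2.1.1
  obtain ⟨j, hj⟩ := hPp.index (frattini P)
  rw [hj] at hidx ⊢
  have hj2 := (Nat.pow_le_pow_iff_right (Fact.out : p.Prime).one_lt).1 hidx
  rcases eq_or_lt_of_le hj2 with rfl | hlt
  · rfl
  exfalso
  obtain ⟨v, -, hv⟩ := Resistant67.exists_zpowers_sup hPp (le_top : frattini P ≤ ⊤) (by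
    rw [Subgroup.index_top, mul_one, hj]
    exact (Nat.pow_le_pow_right (Fact.out : p.Prime).pos (Nat.le_of_lt_succ hlt)).trans_eq (pow_one p))
  exact Resistant67.false_of_step hS hF hess (frattini P) le_rfl (fun γ _ x hx => aut_mem_frattini γ hx)
    (top_le_iff.1 hv) (one_mem _) le_sup_right

/-- The structure of an abelian essential subgroup on two generators and an automorphism of order `p`. -/
theorem exists_structure (hS : IsPGroup p S) (hF : F.IsSaturated p) (hess : F.IsEssential p P)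
    (hab : IsMulCommutative P) (hidx : (frattini P).index ≤ p ^ 2) :
    ∃ k, 1 ≤ k ∧ (∀ z : P, z ^ p ^ k = 1) ∧ (∀ j < k, ∀ z : P, z ^ p ^ j = 1 → z ∈ frattini P) ∧
      ∃ θ ∈ F.autGroup P, θ ^ p = 1 ∧ (¬ ∀ x, x⁻¹ * θ x ∈ frattini P) ∧
        ∃ L : Subgroup P, frattini P < L ∧ L ≠ ⊤ ∧ (∀ x, x⁻¹ * θ x ∈ L) ∧
          ∀ x ∈ L, x⁻¹ * θ x ∈ frattini P := by
  haveI := finite_sub hess.2.1.1
  letI : CommGroup P := { (inferInstance : Group P) with mul_comm := fun a b => hab.is_comm.comm a b }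
  have hPp := isPGroup_of_le hS hess.2.1.1
  have hi := index_eq hS hF hess hidx
  obtain ⟨g, hg⟩ := Resistant67.exists_normalizer_not_mem hS hF hess
  set θ : MulAut P := (conjN F hess.2.1.1 g : MulAut P) with hθ
  obtain ⟨m, hm⟩ := Resistant67.conjN_pow_eq_one (F := F) hS hess.2.1.1 g
  have hne : ¬ ∀ x, delta θ x ∈ frattini P := fun h =>
    hg (Resistant67.mem_of_trivial_frattini hS hF hess fun x => by rw [← hθ, ← delta_apply]; exact h x)
  obtain ⟨L, hL, hLt, hd1, hd2⟩ := exists_line hPp hi hm hne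
  have hdd : ∀ x, delta θ (delta θ x) ∈ frattini P := fun x => hd2 _ (hd1 x)
  have hgp : ((g ^ p : normalizerIn S P) : Ω) ∈ P :=
    Resistant67.mem_of_trivial_frattini hS hF hess fun x => by
      rw [map_pow, Subgroup.coe_pow, ← hθ, ← delta_apply]
      exact delta_pow_mem hPp hdd x
  have hθp : θ ^ p = 1 := MulEquiv.ext fun x => Subtype.ext (by
    rw [hθ, ← Subgroup.coe_pow, ← map_pow, Resistant67.conjN_apply]
    have hc := congrArg Subtype.val (hab.is_comm.comm (⟨_, hgp⟩ : P) x)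
    simp only [Subgroup.coe_mul] at hc
    rw [hc, mul_inv_cancel_right]
    rfl)
  classical
  obtain ⟨e, he⟩ := IsPGroup.iff_card.1 hPp
  have hex : ∃ k, ∀ z : P, z ^ p ^ k = 1 := ⟨e, fun z => by rw [← he, pow_card_eq_one']⟩
  set k := Nat.find hex with hk
  have hk1 : 1 ≤ k := by
    by_contra h0
    refine hne fun x => ?_
    have h1 := Nat.find_spec hex (delta θ x)
    rw [← hk, Nat.lt_one_iff.1 (not_le.1 h0), pow_zero, pow_one] at h1
    rw [h1]
    exact one_mem _
  refine ⟨k, hk1, Nat.find_spec hex, fun j hj z hz => ?_, θ, (conjN F hess.2.1.1 g).2, hθp, ?_, L, hL,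
    hLt, fun x => by rw [← delta_apply]; exact hd1 x, fun x hx => by rw [← delta_apply]; exact hd2 x hx⟩
  swap
  · exact fun h => hne fun x => by rw [delta_apply]; exact h x
  -- the elements killed by `p ^ j`
  set M := (powMonoidHom (p ^ j) : P →* P).ker ⊔ frattini P with hM
  rcases eq_or_eq_top hS hF hess hidx (M := M) le_sup_right (fun γ _ x hx => by
      obtain ⟨a, ha, f, hf, rfl⟩ := Subgroup.mem_sup.1 hx
      rw [map_mul]
      refine Subgroup.mul_mem_sup ?_ (aut_mem_frattini γ hf)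
      rw [MonoidHom.mem_ker, powMonoidHom_apply, ← map_pow, show a ^ p ^ j = 1 from ha, map_one]) with h | h
  · exact h ▸ Subgroup.mem_sup_left hz
  · exfalso
    have hstep : ∀ x : P, ∃ y : P, x ^ p ^ j = y ^ p ^ (j + 1) := fun x => by
      obtain ⟨a, ha, f, hf, rfl⟩ := Subgroup.mem_sup.1 (h.ge (Subgroup.mem_top x))
      obtain ⟨y, rfl⟩ := (frattini_eq hPp f).1 hf
      refine ⟨y, ?_⟩
      rw [mul_pow, show a ^ p ^ j = 1 from ha, one_mul, pow_succ', pow_mul]
    have hiter : ∀ t : ℕ, ∀ x : P, ∃ y : P, x ^ p ^ j = y ^ p ^ (j + t) := by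
      intro t
      induction t with
      | zero => exact fun x => ⟨x, rfl⟩
      | succ t ih =>
        intro x
        obtain ⟨y, hy⟩ := ih x
        obtain ⟨w, hw⟩ := hstep y
        refine ⟨w, ?_⟩
        rw [hy, pow_add, pow_mul, hw, ← pow_mul, ← pow_add]
        congr 2; omega
    refine Nat.find_min hex hj fun x => ?_
    obtain ⟨y, hy⟩ := hiter k x
    rw [hy, pow_add, mul_comm, pow_mul, Nat.find_spec hex, one_pow]

/-- Abelian essential subgroups on two generators. -/
theorem abelian_rank_two (hS : IsPGroup p S) (hF : F.IsSaturated p) (hess : F.IsEssential p P)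
    (hab : IsMulCommutative P) (hidx : (frattini P).index ≤ p ^ 2) :
    (IsElementaryAbelian p P ∧ Nat.card P = p ^ 2) ∨
      (p ≤ 3 ∧ ∃ k : ℕ, Nonempty (↥P ≃* Multiplicative (ZMod (p ^ k) × ZMod (p ^ k)))) := by
  haveI := finite_sub hess.2.1.1
  have hPp := isPGroup_of_le hS hess.2.1.1
  obtain ⟨k, hk1, hexp, hΩ, θ, -, hθp, hne, L, hL, hLt, hd1, hd2⟩ := exists_structure hS hF hess hab hidx
  letI : CommGroup P := { (inferInstance : Group P) with mul_comm := fun a b => hab.is_comm.comm a b }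
  obtain ⟨x, hxL, hx⟩ := SetLike.exists_of_lt hL
  obtain ⟨y, -, hy⟩ := SetLike.exists_of_lt (lt_top_iff_ne_top.2 hLt)
  have hxy : y ∉ Subgroup.zpowers x ⊔ frattini P := fun h =>
    hy (sup_le (Subgroup.zpowers_le.2 hxL) hL.le h)
  have hi := index_eq hS hF hess hidx
  have hgen : Subgroup.zpowers x ⊔ Subgroup.zpowers y ⊔ frattini P = ⊤ :=
    eq_top_of_chain hPp hi (A := Subgroup.zpowers x ⊔ frattini P)
      (lt_of_le_of_ne le_sup_right fun h =>
        hx (h.ge (Subgroup.mem_sup_left (Subgroup.mem_zpowers x))))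
      (lt_of_le_of_ne (sup_le_sup_right le_sup_left _) fun h =>
        hxy (h.ge (Subgroup.mem_sup_left (Subgroup.mem_sup_right (Subgroup.mem_zpowers y)))))
  obtain ⟨e, -, -⟩ := pair_equiv hPp rfl hexp hΩ hx hxy hgen
  rcases eq_or_lt_of_le hk1 with hk | hk
  · refine Or.inl ⟨⟨hab, fun a ha => ?_⟩, ?_⟩
    · have := congrArg Subtype.val (hexp ⟨a, ha⟩)
      rwa [← hk, pow_one, Subgroup.coe_pow] at this
    · rw [← Nat.card_congr e.toEquiv, Nat.card_congr Multiplicative.toAdd, Nat.card_prod, Nat.card_zmod,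
        ← hk, pow_one, sq]
  · refine Or.inr ⟨?_, k, ⟨e.symm⟩⟩
    by_contra hp3
    have hp5 : 5 ≤ p := by
      rcases Nat.lt_or_ge p 5 with h | h
      · exact absurd ((show p = 4 by omega) ▸ (Fact.out : p.Prime)) (by norm_num)
      · exact h
    refine hne fun z => ?_
    rw [← delta_apply]
    refine delta_mem_of_five_le hPp hp5 hθp (fun w => ?_) (fun w hw => hΩ 1 hk w (by rwa [pow_one])) z
    rw [delta_apply, delta_apply]
    exact hd2 _ (hd1 w)

/-- An essential subgroup of order `p²` has `SL(2,p)` in its automiser. -/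
theorem exists_sl_two (hS : IsPGroup p S) (hF : F.IsSaturated p) (hess : F.IsEssential p P)
    (hcard : Nat.card P = p ^ 2) :
    IsElementaryAbelian p P ∧
      ∃ K : Subgroup ↥(F.autGroup P), Nonempty (↥K ≃* Matrix.SpecialLinearGroup (Fin 2) (ZMod p)) := by
  haveI := finite_sub hess.2.1.1
  have hPp := isPGroup_of_le hS hess.2.1.1
  have hab : IsMulCommutative P := ⟨⟨IsPGroup.commutative_of_card_eq_prime_sq hcard⟩⟩
  have hidx : (frattini P).index ≤ p ^ 2 := hcard ▸ Nat.le_of_dvd Nat.card_pos (frattini P).index_dvd_card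
  have hi := index_eq hS hF hess hidx
  have hbot : frattini P = ⊥ := by
    have := (frattini P).card_mul_index
    rw [hi, hcard] at this
    exact Subgroup.eq_bot_of_card_eq _ (Nat.eq_of_mul_eq_mul_right
      (pow_pos (Fact.out : p.Prime).pos 2) (by rw [this, one_mul]))
  obtain ⟨k, hk1, hexp, hΩ, θ, hθA, hθp, hne, L, hL, hLt, hd1, hd2⟩ := exists_structure hS hF hess hab hidx
  letI : CommGroup P := { (inferInstance : Group P) with mul_comm := fun a b => hab.is_comm.comm a b }
  have hk : k = 1 := by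
    by_contra hk
    refine hne fun z => ?_
    refine hΩ 1 (by omega) _ ?_
    rw [pow_one]
    exact (frattini_eq hPp _).2 ⟨_, rfl⟩ |> fun h => Subgroup.mem_bot.1 (hbot ▸ h)
  subst hk
  have hpow : ∀ z : P, z ^ p = 1 := fun z => by simpa using hexp z
  refine ⟨⟨hab, fun a ha => ?_⟩, ?_⟩
  · have := congrArg Subtype.val (hpow ⟨a, ha⟩)
    rwa [Subgroup.coe_pow] at this
  -- move the line
  obtain ⟨γ, hγA, x, hxL, hy⟩ : ∃ γ ∈ F.autGroup P, ∃ x ∈ L, γ x ∉ L := by
    by_contra h
    push Not at h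
    rcases eq_or_eq_top hS hF hess hidx hL.le h with h | h
    · exact hL.ne' h
    · exact hLt h
  set y := γ x with hyγ
  have hfix : ∀ z ∈ L, θ z = z := fun z hz => by
    have := hd2 z hz
    rw [hbot, Subgroup.mem_bot, inv_mul_eq_one] at this
    exact this.symm
  have hx : x ∉ frattini P := fun h => by
    rw [hbot, Subgroup.mem_bot] at h
    exact hy (by rw [hyγ, h, map_one]; exact one_mem _)
  have hxy : y ∉ Subgroup.zpowers x ⊔ frattini P := fun h =>
    hy (sup_le (Subgroup.zpowers_le.2 hxL) hL.le h)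
  have hlt1 : frattini P < Subgroup.zpowers x ⊔ frattini P :=
    lt_of_le_of_ne le_sup_right fun h => hx (h.ge (Subgroup.mem_sup_left (Subgroup.mem_zpowers x)))
  have hgen : Subgroup.zpowers x ⊔ Subgroup.zpowers y ⊔ frattini P = ⊤ :=
    eq_top_of_chain hPp hi hlt1
      (lt_of_le_of_ne (sup_le_sup_right le_sup_left _) fun h =>
        hxy (h.ge (Subgroup.mem_sup_left (Subgroup.mem_sup_right (Subgroup.mem_zpowers y)))))
  have hLx : L = Subgroup.zpowers x := by
    rcases eq_or_lt_of_le (sup_le (Subgroup.zpowers_le.2 hxL) hL.le :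
      Subgroup.zpowers x ⊔ frattini P ≤ L) with h | h
    · rw [← h, hbot, sup_bot_eq]
    · exact absurd (eq_top_of_chain hPp hi hlt1 h) hLt
  rw [hbot, sup_bot_eq] at hgen
  have hgenset : Subgroup.closure ({x, y} : Set P) = ⊤ := by
    rw [eq_top_iff, ← hgen, sup_le_iff, Subgroup.zpowers_le, Subgroup.zpowers_le]
    exact ⟨Subgroup.subset_closure (by simp), Subgroup.subset_closure (by simp)⟩
  have hext : ∀ a b : MulAut P, a x = b x → a y = b y → a = b := fun a b h1 h2 => by
    have := MonoidHom.eq_of_eqOn_dense (f := a.toMonoidHom) (g := b.toMonoidHom) hgenset (by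
      rintro z (rfl | rfl)
      · exact h1
      · exact h2)
    exact MulEquiv.ext fun z => DFunLike.congr_fun this z
  have hp1 := (Fact.out : p.Prime).one_lt
  have hinv : ∀ (z : P) (s : ℤ), z ^ s ≠ 1 → ∃ i : ℕ, z ^ (s * i) = z := by
    intro z s hs
    have hs0 : ((s : ℤ) : ZMod p) ≠ 0 := fun h => by
      obtain ⟨c, rfl⟩ := (ZMod.intCast_zmod_eq_zero_iff_dvd s p).1 h
      exact hs (by rw [zpow_mul, zpow_natCast, hpow, one_zpow])
    refine ⟨((s : ZMod p)⁻¹).val, ?_⟩
    have h1 : ((s * (((s : ZMod p)⁻¹).val : ℤ) - 1 : ℤ) : ZMod p) = 0 := by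
      push_cast
      rw [ZMod.natCast_zmod_val, mul_inv_cancel₀ hs0, sub_self]
    obtain ⟨c, hc⟩ := (ZMod.intCast_zmod_eq_zero_iff_dvd _ p).1 h1
    rw [show s * (((s : ZMod p)⁻¹).val : ℤ) = 1 + p * c by linarith, zpow_add, zpow_one, zpow_mul,
      zpow_natCast, hpow, one_zpow, mul_one]
  have hiter : ∀ (a : MulAut P) (u v : P) (s : ℤ), a u = u → a v = v * u ^ s →
      ∀ i : ℕ, (a ^ i) u = u ∧ (a ^ i) v = v * u ^ (s * i) := by
    intro a u v s hu hv i
    induction i with
    | zero => simp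
    | succ i ih =>
      rw [pow_succ', MulAut.mul_apply, MulAut.mul_apply, ih.1, ih.2, map_mul, map_zpow, hu, hv,
        mul_assoc, ← zpow_add]
      refine ⟨rfl, ?_⟩
      congr 2
      push_cast; ring
  -- the two transvections
  obtain ⟨s, hs⟩ : ∃ s : ℤ, x ^ s = y⁻¹ * θ y := Subgroup.mem_zpowers_iff.1 (hLx.le (hd1 y))
  have hsne : x ^ s ≠ 1 := fun h => hne fun z => by
    have hθ1 : θ = 1 := hext θ 1 (hfix x hxL) (by
      rw [hs, inv_mul_eq_one] at h; exact h.symm)
    rw [hθ1, MulAut.one_apply, inv_mul_cancel]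
    exact one_mem _
  obtain ⟨i, hi'⟩ := hinv x s hsne
  obtain ⟨hux, huy⟩ := hiter θ x y s (hfix x hxL) (by rw [hs, mul_inv_cancel_left]) i
  rw [hi'] at huy
  set β := γ * θ * γ⁻¹ with hβ
  have hβapp : ∀ z, β z = γ (θ (γ⁻¹ z)) := fun z => rfl
  have hβy : β y = y := by
    rw [hβapp, hyγ, MulAut.inv_apply_self, hfix x hxL]
  obtain ⟨t, ht⟩ : ∃ t : ℤ, x ^ t = (γ⁻¹ x)⁻¹ * θ (γ⁻¹ x) :=
    Subgroup.mem_zpowers_iff.1 (hLx.le (hd1 _))
  have hβx : β x = x * y ^ t := by
    have e : θ (γ⁻¹ x) = γ⁻¹ x * x ^ t := by rw [ht, mul_inv_cancel_left]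
    rw [hβapp, e, map_mul, map_zpow, MulAut.apply_inv_self]
  have htne : y ^ t ≠ 1 := fun h => hne fun z => by
    have hb1 : β = 1 := hext β 1 (by rw [hβx, h, mul_one]; rfl) hβy
    rw [show θ = 1 by rw [hβ, conj_eq_one_iff] at hb1; exact hb1, MulAut.one_apply, inv_mul_cancel]
    exact one_mem _
  obtain ⟨j, hj⟩ := hinv y t htne
  obtain ⟨hly, hlx⟩ := hiter β y x t hβy hβx j
  rw [hj] at hlx
  -- the action
  obtain ⟨e, he1, he2⟩ := pair_equiv hPp (pow_one p).symm hexp hΩ hx hxy
    (by rw [hbot, sup_bot_eq]; exact hgen)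
  have hesymm : ∀ v, (MulAut.congr e) v = (e.symm.trans v).trans e := fun v => rfl
  set ψ := (MulAut.congr e).toMonoidHom.comp (slAct p) with hψ
  have hψapp : ∀ M v, ψ M (e v) = e (slAct p M v) := fun M v => by
    show e (slAct p M (e.symm (e v))) = _
    rw [e.symm_apply_apply]
  have hadd : ∀ a b : ZMod p × ZMod p, e (Multiplicative.ofAdd (a + b)) =
      e (Multiplicative.ofAdd a) * e (Multiplicative.ofAdd b) := fun a b => by rw [ofAdd_add, map_mul]
  have hup : ψ (PLocal.SLTwo.up 1) = θ ^ i := hext _ _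
    (by rw [hux, ← he1, hψapp, slAct_apply]; simp [slFun, PLocal.SLTwo.up])
    (by
      rw [huy, ← he2, hψapp, slAct_apply, ← he1, ← hadd]
      simp [slFun, PLocal.SLTwo.up])
  have hlo : ψ (PLocal.SLTwo.lo 1) = β ^ j := hext _ _
    (by
      rw [hlx, ← he1, hψapp, slAct_apply, ← he2, ← hadd]
      simp [slFun, PLocal.SLTwo.lo])
    (by rw [hly, ← he2, hψapp, slAct_apply]; simp [slFun, PLocal.SLTwo.lo])
  have hrange : ∀ M, ψ M ∈ F.autGroup P := by
    intro M
    have hM : M ∈ Subgroup.closure ({PLocal.SLTwo.up (1 : ZMod p), PLocal.SLTwo.lo 1} :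
        Set (Matrix.SpecialLinearGroup (Fin 2) (ZMod p))) := by
      rw [PLocal.SLTwo.closure_pair_eq_top]; exact Subgroup.mem_top M
    induction hM using Subgroup.closure_induction with
    | mem z hz =>
      rcases hz with rfl | rfl
      · rw [hup]; exact pow_mem hθA i
      · rw [hlo]; exact pow_mem (mul_mem (mul_mem hγA hθA) (inv_mem hγA)) j
    | one => rw [map_one]; exact one_mem _
    | mul a b _ _ ha hb => rw [map_mul]; exact mul_mem ha hb
    | inv a _ ha => rw [map_inv]; exact inv_mem ha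
  have hinj : Function.Injective (ψ.codRestrict (F.autGroup P) hrange) := fun a b h =>
    slAct_injective p ((MulAut.congr e).injective (congrArg Subtype.val h))
  exact ⟨_, ⟨(MonoidHom.ofInjective hinj).symm⟩⟩

end Cfsg.Agent.Lib.FusionEssential.RankTwo
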