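import Mathlib
import Cfsg.Agent.Lib.PGroups.Frattini
import Cfsg.Agent.Lib.PGroupTheory.RegularExtra

/-!
# Abelian `p`-groups with two generators and their automorphisms of order `p`
-/

set_option autoImplicit false

namespace Cfsg.Agent.Lib.FusionEssential.RankTwo

variable {H : Type*} [CommGroup H] {p : ℕ}

theorem frattini_eq [Finite H] [Fact p.Prime] (hH : IsPGroup p H) (x : H) :
    x ∈ frattini H ↔ ∃ w, w ^ p = x := by
  refine ⟨fun hx => ?_, fun ⟨w, hw⟩ => hw ▸ PGroups.pow_mem_frattini hH w⟩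
  have hle : frattini H ≤ (powMonoidHom p : H →* H).range := by
    refine PGroups.frattini_le_of_pow_commutator _ (fun y => ⟨y, rfl⟩) ?_
    rw [_root_.commutator_def]
    refine Subgroup.commutator_le.2 fun a _ b _ => ?_
    rw [commutatorElement_eq_one_iff_commute.2 (Commute.all a b)]
    exact one_mem _
  exact hle hx

/-- `x ↦ x⁻¹ θ(x)`. -/
def delta (θ : MulAut H) : H →* H := θ.toMonoidHom / MonoidHom.id H

theorem delta_apply (θ : MulAut H) (x : H) : delta θ x = x⁻¹ * θ x := by
  rw [delta, MonoidHom.div_apply, div_eq_inv_mul]; rfl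

theorem delta_frattini [Finite H] [Fact p.Prime] (hH : IsPGroup p H) (θ : MulAut H) {x : H}
    (hx : x ∈ frattini H) : delta θ x ∈ frattini H := by
  obtain ⟨w, rfl⟩ := (frattini_eq hH x).1 hx
  rw [map_pow]
  exact PGroups.pow_mem_frattini hH _

/-- The automorphism as an element of the endomorphism ring. -/
def addEnd : MulAut H →* AddMonoid.End (Additive H) where
  toFun θ := MonoidHom.toAdditive θ.toMonoidHom
  map_one' := rfl
  map_mul' _ _ := rfl

theorem addEnd_sub_one (θ : MulAut H) (x : H) :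
    (addEnd θ - 1) (Additive.ofMul x) = Additive.ofMul (delta θ x) := by
  rw [delta_apply, ← div_eq_inv_mul]
  rfl

theorem addEnd_sub_one_pow (θ : MulAut H) (n : ℕ) (x : H) :
    ((addEnd θ - 1) ^ n) (Additive.ofMul x) = Additive.ofMul ((delta θ)^[n] x) := by
  induction n with
  | zero => rfl
  | succ n ih =>
    rw [pow_succ', Function.iterate_succ_apply', ← addEnd_sub_one θ ((delta θ)^[n] x), ← ih]
    rfl

theorem mul_natCast_apply {A : Type*} [AddCommGroup A] (n : ℕ) (f : AddMonoid.End A) (a : A) :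
    ((n : AddMonoid.End A) * f) a = n • f a := rfl

theorem end_mul_apply {A : Type*} [AddCommGroup A] (f g : AddMonoid.End A) (a : A) :
    (f * g) a = f (g a) := rfl

theorem end_sum_apply {A : Type*} [AddCommGroup A] {ι : Type*} (s : Finset ι) (f : ι → AddMonoid.End A)
    (a : A) : (∑ i ∈ s, f i) a = ∑ i ∈ s, f i a := by
  classical
  induction s using Finset.induction_on with
  | empty => rfl
  | insert i t hi ih => rw [Finset.sum_insert hi, Finset.sum_insert hi, ← ih]; rfl

/-- Iterates of `δ` of an automorphism of `p`-power order end in the Frattini subgroup. -/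
theorem delta_iterate_mem [Finite H] [Fact p.Prime] (hH : IsPGroup p H) {θ : MulAut H} {m : ℕ}
    (hθ : θ ^ p ^ m = 1) (x : H) : (delta θ)^[p ^ m] x ∈ frattini H := by
  set D := addEnd θ - 1 with hD
  obtain ⟨r, hr⟩ := (Commute.one_right D).symm.exists_add_pow_prime_pow_eq (Fact.out : p.Prime) m
  rw [one_pow, hD, add_sub_cancel, ← map_pow, hθ, map_one, ← hD, mul_assoc, mul_assoc, add_assoc,
    left_eq_add, add_eq_zero_iff_eq_neg] at hr
  have h1 := DFunLike.congr_fun hr (Additive.ofMul x)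
  rw [hD, addEnd_sub_one_pow] at h1
  rw [frattini_eq hH]
  refine ⟨Additive.toMul (-((1 * (D * r)) (Additive.ofMul x))), ?_⟩
  have h2 := congrArg Additive.toMul h1
  rw [toMul_ofMul] at h2
  rw [h2, ← toMul_nsmul, smul_neg]
  rfl

/-- The key estimate for `p ≥ 5`. -/
theorem delta_mem_of_five_le [Finite H] [Fact p.Prime] (hH : IsPGroup p H) (hp5 : 5 ≤ p) {θ : MulAut H}
    (hθ : θ ^ p = 1) (h2 : ∀ x, delta θ (delta θ x) ∈ frattini H)
    (hΩ : ∀ x : H, x ^ p = 1 → x ∈ frattini H) (x : H) : delta θ x ∈ frattini H := by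
  set D := addEnd θ - 1 with hD
  set a := Additive.ofMul x with ha
  have hD2 : ∀ b, ∃ w, (D ^ 2) b = p • w := fun b => by
    obtain ⟨w, hw⟩ := (frattini_eq hH _).1 (h2 b.toMul)
    refine ⟨Additive.ofMul w, ?_⟩
    rw [← ofMul_toMul b, hD, addEnd_sub_one_pow, ← ofMul_pow, hw]
    rfl
  have hexp : (1 : AddMonoid.End (Additive H)) =
      ∑ m ∈ Finset.range (p + 1), D ^ m * (p.choose m : AddMonoid.End (Additive H)) := by
    have := (Commute.one_right D).add_pow p
    simp only [one_pow, mul_one] at this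
    rw [← this, hD, sub_add_cancel, ← map_pow, hθ, map_one]
  obtain ⟨q, hq⟩ : ∃ q, p = q + 4 + 1 := ⟨p - 5, by omega⟩
  rw [Finset.sum_range_succ', pow_zero, one_mul, Nat.choose_zero_right, Nat.cast_one, right_eq_add,
    show Finset.range p = Finset.range (q + 4 + 1) from congrArg _ hq,
    Finset.sum_range_succ'] at hexp
  have hmem : ∀ m ∈ Finset.range (q + 4),
      ∃ w, (D ^ (m + 1 + 1) * (p.choose (m + 1 + 1) : AddMonoid.End (Additive H))) a = (p * p) • w := by
    intro m hm
    rw [Finset.mem_range] at hm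
    rw [← Nat.cast_comm, mul_natCast_apply]
    obtain ⟨w, hw⟩ := hD2 ((D ^ m) a)
    rcases Nat.lt_or_ge (m + 1 + 1) p with hlt | hge
    · obtain ⟨c, hc⟩ := (Fact.out : p.Prime).dvd_choose_self (Nat.succ_ne_zero (m + 1)) hlt
      refine ⟨c • w, ?_⟩
      rw [show D ^ (m + 1 + 1) = D ^ 2 * D ^ m by rw [← pow_add]; congr 1; omega, end_mul_apply,
        hw, hc, ← mul_smul, ← mul_smul]
      congr 1; ring
    · obtain ⟨m', rfl⟩ : ∃ m', m = m' + 2 := ⟨m - 2, by omega⟩
      obtain ⟨w', hw'⟩ := hD2 ((D ^ m') a)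
      obtain ⟨w'', hw''⟩ := hD2 w'
      refine ⟨p.choose (m' + 2 + 1 + 1) • w'', ?_⟩
      rw [show D ^ (m' + 2 + 1 + 1) = D ^ 2 * (D ^ 2 * D ^ m') by rw [← pow_add, ← pow_add]; congr 1; omega,
        end_mul_apply, end_mul_apply, hw', map_nsmul, hw'', ← mul_smul, ← mul_smul,
        ← mul_smul]
      congr 1; ring
  choose w hw using hmem
  have h1 := DFunLike.congr_fun hexp a
  rw [zero_add, pow_one, Nat.choose_one_right] at h1
  change _ = (0 : Additive H) at h1
  have h3 : p • (D a + p • ∑ i ∈ (Finset.range (q + 4)).attach, w i.1 i.2) = 0 := by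
    rw [smul_add, ← mul_smul, Finset.smul_sum, ← Finset.sum_congr rfl fun i _ => hw i.1 i.2,
      Finset.sum_attach _ (fun i => (D ^ (i + 1 + 1) *
        (p.choose (i + 1 + 1) : AddMonoid.End (Additive H))) a), add_comm]
    refine Eq.trans ?_ h1
    rw [show ∀ f g : AddMonoid.End (Additive H), (f + g) a = f a + g a from fun _ _ => rfl,
      ← Nat.cast_comm, mul_natCast_apply]
    congr 1
    exact (end_sum_apply _ _ a).symm
  set w0 := ∑ i ∈ (Finset.range (q + 4)).attach, w i.1 i.2
  rw [hD, ha, addEnd_sub_one, ← ofMul_toMul w0, ← ofMul_pow, ← ofMul_mul, ← ofMul_pow, ofMul_eq_zero] at h3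
  exact (mul_mem_cancel_right (PGroups.pow_mem_frattini hH w0.toMul)).1 (hΩ _ h3)

/-- An abelian group on two generators all of whose small elements are `p`-th powers is homocyclic. -/
theorem pair_equiv [Finite H] [Fact p.Prime] (hH : IsPGroup p H) {k : ℕ} {n : ℕ} (hn : n = p ^ k)
    (hexp : ∀ z : H, z ^ p ^ k = 1) (hΩ : ∀ j < k, ∀ z : H, z ^ p ^ j = 1 → z ∈ frattini H)
    {x y : H} (hx : x ∉ frattini H) (hy : y ∉ Subgroup.zpowers x ⊔ frattini H)
    (hgen : Subgroup.zpowers x ⊔ Subgroup.zpowers y ⊔ frattini H = ⊤) :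
    ∃ e : Multiplicative (ZMod n × ZMod n) ≃* H,
      e (Multiplicative.ofAdd (1, 0)) = x ∧ e (Multiplicative.ofAdd (0, 1)) = y := by
  have hone : ∀ z : H, z ^ (n : ℤ) = 1 := fun z => by rw [zpow_natCast, hn, hexp]
  let g : ∀ z : H, ZMod n →+ Additive H := fun z => ZMod.lift n
    ⟨zmultiplesHom (Additive H) (Additive.ofMul z), by
      rw [zmultiplesHom_apply, ← ofMul_zpow, hone]; rfl⟩
  have hg : ∀ (z : H) (i : ℤ), g z (i : ZMod n) = Additive.ofMul (z ^ i) := fun z i => by
    show ZMod.lift n _ _ = _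
    rw [ZMod.lift_coe, zmultiplesHom_apply, ← ofMul_zpow]
  let f : Multiplicative (ZMod n × ZMod n) →* H :=
    AddMonoidHom.toMultiplicativeLeft ((g x).coprod (g y))
  have hf : ∀ i j : ℤ, f (Multiplicative.ofAdd ((i : ZMod n), (j : ZMod n))) = x ^ i * y ^ j := fun i j => by
    show Additive.toMul ((g x).coprod (g y) ((i : ZMod n), (j : ZMod n))) = _
    rw [AddMonoidHom.coprod_apply, hg, hg]
    rfl
  have hx' : f (Multiplicative.ofAdd (1, 0)) = x := by simpa using hf 1 0
  have hy' : f (Multiplicative.ofAdd (0, 1)) = y := by simpa using hf 0 1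
  have hsurj : Function.Surjective f := by
    rw [← MonoidHom.range_eq_top]
    refine frattini_nongenerating (eq_top_iff.2 (hgen.ge.trans (sup_le_sup_right (sup_le ?_ ?_) _)))
    · exact Subgroup.zpowers_le.2 ⟨_, hx'⟩
    · exact Subgroup.zpowers_le.2 ⟨_, hy'⟩
  have hstep : ∀ i j : ℤ, x ^ i * y ^ j ∈ frattini H → (p : ℤ) ∣ i ∧ (p : ℤ) ∣ j := by
    intro i j hij
    have hp' : ∀ (z : H) (d : ℤ), z ^ (d * p) ∈ frattini H := fun z d => by
      rw [zpow_mul, zpow_natCast]; exact PGroups.pow_mem_frattini hH _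
    have hcop : ∀ d : ℤ, ¬ (p : ℤ) ∣ d → ∃ u v : ℤ, u * d + v * p = 1 := fun d hd =>
      ((Nat.prime_iff_prime_int.1 (Fact.out : p.Prime)).coprime_iff_not_dvd.2 hd).symm
    by_cases hj : (p : ℤ) ∣ j
    · refine ⟨by_contra fun hi => hx ?_, hj⟩
      obtain ⟨u, v, huv⟩ := hcop i hi
      obtain ⟨c, rfl⟩ := hj
      have hxi : x ^ i ∈ frattini H :=
        (mul_mem_cancel_right (by rw [mul_comm]; exact hp' y c)).1 hij
      rw [← zpow_one x, ← huv, zpow_add, mul_comm u, zpow_mul]
      exact mul_mem (zpow_mem hxi u) (hp' x v)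
    · exfalso
      refine hy ?_
      obtain ⟨u, v, huv⟩ := hcop j hj
      have hyj : y ^ j ∈ Subgroup.zpowers x ⊔ frattini H := by
        rw [show y ^ j = (x ^ i)⁻¹ * (x ^ i * y ^ j) by group]
        exact Subgroup.mul_mem_sup (inv_mem ⟨i, rfl⟩) hij
      rw [← zpow_one y, ← huv, zpow_add, mul_comm u, zpow_mul]
      exact mul_mem (zpow_mem hyj u) (Subgroup.mem_sup_right (hp' y v))
  have hinj : Function.Injective f := by
    rw [injective_iff_map_eq_one]
    intro z hz
    obtain ⟨⟨a, b⟩, rfl⟩ := Multiplicative.ofAdd.surjective z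
    obtain ⟨i, rfl⟩ := ZMod.intCast_surjective a
    obtain ⟨j, rfl⟩ := ZMod.intCast_surjective b
    rw [hf] at hz
    have hind : ∀ l ≤ k, ((p ^ l : ℕ) : ℤ) ∣ i ∧ ((p ^ l : ℕ) : ℤ) ∣ j := by
      intro l
      induction l with
      | zero => simp
      | succ l ih =>
        intro hl
        obtain ⟨⟨i', rfl⟩, j', rfl⟩ := ih (by omega)
        have h1 : (x ^ i' * y ^ j') ^ p ^ l = 1 := by
          rw [mul_pow, ← zpow_natCast, ← zpow_natCast, ← zpow_mul, ← zpow_mul, mul_comm i', mul_comm j']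
          exact hz
        obtain ⟨hi, hj⟩ := hstep _ _ (hΩ l (by omega) _ h1)
        rw [pow_succ, Nat.cast_mul]
        exact ⟨mul_dvd_mul_left _ hi, mul_dvd_mul_left _ hj⟩
    obtain ⟨hi, hj⟩ := hind k le_rfl
    rw [← hn] at hi hj
    rw [(ZMod.intCast_zmod_eq_zero_iff_dvd i n).2 hi, (ZMod.intCast_zmod_eq_zero_iff_dvd j n).2 hj]
    rfl
  exact ⟨MulEquiv.ofBijective f ⟨hinj, hsurj⟩, hx', hy'⟩

/-- No chain of length three above the Frattini subgroup. -/
theorem eq_top_of_chain [Finite H] [Fact p.Prime] (hH : IsPGroup p H) (hidx : (frattini H).index = p ^ 2)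
    {A B : Subgroup H} (hA : frattini H < A) (hAB : A < B) : B = ⊤ := by
  by_contra hB
  have h1 := PGroupTheory.prime_mul_index_le hH hA
  have h2 := PGroupTheory.prime_mul_index_le hH hAB
  have h3 := PGroupTheory.prime_mul_index_le hH (lt_top_iff_ne_top.2 hB)
  rw [Subgroup.index_top, mul_one] at h3
  have h4 := (Nat.mul_le_mul_left p ((Nat.mul_le_mul_left p h3).trans h2)).trans h1
  rw [hidx, show p * (p * p) = p ^ 3 by ring] at h4
  exact absurd ((Nat.pow_le_pow_iff_right (Fact.out : p.Prime).one_lt).1 h4) (by norm_num)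

/-- The line of an automorphism of `p`-power order that moves the Frattini quotient. -/
theorem exists_line [Finite H] [Fact p.Prime] (hH : IsPGroup p H) (hidx : (frattini H).index = p ^ 2)
    {θ : MulAut H} {m : ℕ} (hθ : θ ^ p ^ m = 1) (hne : ¬ ∀ x, delta θ x ∈ frattini H) :
    ∃ L : Subgroup H, frattini H < L ∧ L ≠ ⊤ ∧ (∀ x, delta θ x ∈ L) ∧
      (∀ x ∈ L, delta θ x ∈ frattini H) := by
  set d := delta θ
  set L := d.range ⊔ frattini H with hL
  have hdL : ∀ x, d x ∈ L := fun x => Subgroup.mem_sup_left ⟨x, rfl⟩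
  have hΦL : frattini H < L :=
    lt_of_le_of_ne le_sup_right fun he => hne fun x => he ▸ hdL x
  have key : ∀ A : Subgroup H, A ≤ A.map d ⊔ frattini H → A ≤ frattini H := by
    intro A hA
    have : ∀ j, ∀ x ∈ A, ∃ u ∈ A, (d^[j] u)⁻¹ * x ∈ frattini H := by
      intro j
      induction j with
      | zero => exact fun x hx => ⟨x, hx, by simp⟩
      | succ j ih =>
        intro x hx
        obtain ⟨_, ⟨u, hu, rfl⟩, f, hf, rfl⟩ := Subgroup.mem_sup.1 (hA hx)
        obtain ⟨v, hv, hvu⟩ := ih u hu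
        refine ⟨v, hv, ?_⟩
        rw [Function.iterate_succ_apply', ← mul_assoc, ← map_inv, ← map_mul]
        exact mul_mem (delta_frattini hH θ hvu) hf
    intro x hx
    obtain ⟨u, -, hu⟩ := this (p ^ m) x hx
    exact (mul_mem_cancel_left (inv_mem (delta_iterate_mem hH hθ u))).1 hu
  have hLtop : L ≠ ⊤ := fun ht => by
    have h := key ⊤ (by rw [← MonoidHom.range_eq_map, ← hL, ht])
    rw [top_le_iff] at h
    rw [h, Subgroup.index_top] at hidx
    exact absurd hidx.symm (Nat.one_lt_pow two_ne_zero (Fact.out : p.Prime).one_lt).ne'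
  refine ⟨L, hΦL, hLtop, hdL, fun x hx => ?_⟩
  set L' := L.map d ⊔ frattini H with hL'
  have hL'L : L' ≤ L :=
    sup_le (fun y hy => by obtain ⟨u, -, rfl⟩ := hy; exact hdL u) le_sup_right
  rcases eq_or_lt_of_le (show frattini H ≤ L' from le_sup_right) with h | h
  · rw [h]; exact Subgroup.mem_sup_left ⟨x, hx, rfl⟩
  · rcases eq_or_lt_of_le hL'L with h' | h'
    · exact absurd (key L h'.ge) hΦL.not_ge
    · exact absurd (eq_top_of_chain hH hidx h h') hLtop

theorem delta_pow_mem [Finite H] [Fact p.Prime] (hH : IsPGroup p H) {θ : MulAut H}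
    (h2 : ∀ x, delta θ (delta θ x) ∈ frattini H) (x : H) : delta (θ ^ p) x ∈ frattini H := by
  have hk : ∀ n : ℕ, ∃ f ∈ frattini H, (θ ^ n) x = x * (delta θ x) ^ n * f := by
    intro n
    induction n with
    | zero => exact ⟨1, one_mem _, by simp⟩
    | succ n ih =>
      obtain ⟨f, hf, he⟩ := ih
      have e1 : ∀ z, θ z = z * delta θ z := fun z => by rw [delta_apply, mul_inv_cancel_left]
      refine ⟨delta θ (delta θ x) ^ n * θ f, mul_mem (pow_mem (h2 x) n) ?_, ?_⟩
      · rw [e1]; exact mul_mem hf (delta_frattini hH θ hf)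
      · rw [pow_succ' θ, MulAut.mul_apply, he, map_mul, map_mul, map_pow, e1 x, e1 (delta θ x),
          mul_pow, pow_succ]
        ac_rfl
  obtain ⟨f, hf, he⟩ := hk p
  rw [delta_apply, he, mul_assoc, inv_mul_cancel_left]
  exact mul_mem (PGroups.pow_mem_frattini hH _) hf

open Matrix in
/-- The linear map of a matrix. -/
def slFun {n : ℕ} (M : SpecialLinearGroup (Fin 2) (ZMod n)) (v : ZMod n × ZMod n) : ZMod n × ZMod n :=
  (M.1 0 0 * v.1 + M.1 0 1 * v.2, M.1 1 0 * v.1 + M.1 1 1 * v.2)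

open Matrix in
theorem slFun_mul {n : ℕ} (M N : SpecialLinearGroup (Fin 2) (ZMod n)) (v : ZMod n × ZMod n) :
    slFun (M * N) v = slFun M (slFun N v) := by
  simp only [slFun, Matrix.SpecialLinearGroup.coe_mul, Matrix.mul_apply, Fin.sum_univ_two]
  ext <;> dsimp only <;> ring

open Matrix in
theorem slFun_one {n : ℕ} (v : ZMod n × ZMod n) : slFun (1 : SpecialLinearGroup (Fin 2) (ZMod n)) v = v := by
  simp [slFun]

open Matrix in
/-- The natural action of `SL(2,n)` on a free module of rank two. -/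
def slAct (n : ℕ) : SpecialLinearGroup (Fin 2) (ZMod n) →* MulAut (Multiplicative (ZMod n × ZMod n)) where
  toFun M :=
    { toFun := fun v => Multiplicative.ofAdd (slFun M v.toAdd)
      invFun := fun v => Multiplicative.ofAdd (slFun M⁻¹ v.toAdd)
      left_inv := fun v => by
        dsimp only
        rw [toAdd_ofAdd, ← slFun_mul, inv_mul_cancel, slFun_one, ofAdd_toAdd]
      right_inv := fun v => by
        dsimp only
        rw [toAdd_ofAdd, ← slFun_mul, mul_inv_cancel, slFun_one, ofAdd_toAdd]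
      map_mul' := fun v w => by
        rw [toAdd_mul, ← ofAdd_add]
        refine congrArg Multiplicative.ofAdd ?_
        simp only [slFun, Prod.fst_add, Prod.snd_add]
        ext <;> dsimp only [Prod.fst_add, Prod.snd_add] <;> ring }
  map_one' := MulEquiv.ext fun v => by
    show Multiplicative.ofAdd (slFun 1 v.toAdd) = v
    rw [slFun_one, ofAdd_toAdd]
  map_mul' M N := MulEquiv.ext fun v => by
    show Multiplicative.ofAdd (slFun (M * N) v.toAdd) = Multiplicative.ofAdd (slFun M (slFun N v.toAdd))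
    rw [slFun_mul]

theorem slAct_apply {n : ℕ} (M : Matrix.SpecialLinearGroup (Fin 2) (ZMod n)) (v : ZMod n × ZMod n) :
    slAct n M (Multiplicative.ofAdd v) = Multiplicative.ofAdd (slFun M v) := rfl

theorem slAct_injective (n : ℕ) : Function.Injective (slAct n) := by
  intro M N h
  have h1 := congrArg (fun f : MulAut _ => (f (Multiplicative.ofAdd (1, 0))).toAdd) h
  have h2 := congrArg (fun f : MulAut _ => (f (Multiplicative.ofAdd (0, 1))).toAdd) h
  simp only [slAct_apply, toAdd_ofAdd, slFun, mul_one, mul_zero, add_zero, zero_add, Prod.mk.injEq] at h1 h2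
  apply Subtype.ext
  ext i j
  fin_cases i <;> fin_cases j
  · exact h1.1
  · exact h2.1
  · exact h1.2
  · exact h2.2

end Cfsg.Agent.Lib.FusionEssential.RankTwo
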