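import Cfsg.Agent.Lib.FusionEssential.PClosed
import Cfsg.Agent.Lib.PGroups.Automorphism
import Mathlib.GroupTheory.QuotientGroup.Basic
import Mathlib.GroupTheory.SpecificGroups.Cyclic

/-!
A subgroup with an invariant series whose steps have order `p` is not essential.
-/

set_option autoImplicit false
set_option linter.style.haveILetI false

namespace Cfsg.Agent.Lib.FusionEssential.SeriesNotEssential

open Cfsg Cfsg.FusionSystem
open Cfsg.Agent.Lib Cfsg.Agent.Lib.FS

/-- An automorphism of `p`-power order acts trivially on an invariant layer of order `p`. -/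
theorem layer_trivial {X : Type*} [Group X] [Finite X] {p : ℕ} [hp : Fact p.Prime] {γ : MulAut X} {k : ℕ}
    (hγ : γ ^ p ^ k = 1) {A B : Subgroup X} (hAB : A ≤ B) (hA : A.Normal) (hAi : ∀ x ∈ A, γ x ∈ A)
    (hBi : ∀ x ∈ B, γ x ∈ B) (hc : Nat.card B = p * Nat.card A) : ∀ x ∈ B, x⁻¹ * γ x ∈ A := by
  haveI := hA
  set A' := A.subgroupOf B
  let g : B →* B := (γ.toMonoidHom.comp B.subtype).codRestrict B fun x => hBi x x.2
  have hcq : Nat.card (B ⧸ A') = p := by
    have h := A'.card_eq_card_quotient_mul_card_subgroup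
    rw [hc, Nat.card_congr (Subgroup.subgroupOfEquivOfLe hAB).toEquiv] at h
    exact (Nat.eq_of_mul_eq_mul_right Nat.card_pos h).symm
  let gq : B ⧸ A' →* B ⧸ A' := QuotientGroup.map A' A' g fun x hx =>
    Subgroup.mem_subgroupOf.2 (hAi _ (Subgroup.mem_subgroupOf.1 hx))
  haveI : IsCyclic (B ⧸ A') := isCyclic_of_prime_card hcq
  obtain ⟨i, hi⟩ := MonoidHom.map_cyclic gq
  have hit : ∀ (m : ℕ) (x : B) (hm : (γ ^ m) (x : X) ∈ B),
      ((⟨(γ ^ m) (x : X), hm⟩ : B) : B ⧸ A') = (x : B ⧸ A') ^ (i ^ m) := by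
    intro m
    induction m with
    | zero => intro x hm; simp
    | succ m ih =>
      intro x hm
      have hm' : (γ ^ m) (g x : X) ∈ B := by
        rw [pow_succ, MulAut.mul_apply] at hm; exact hm
      have h1 := ih (g x) hm'
      have h2 : ((g x : B) : B ⧸ A') = (x : B ⧸ A') ^ i := hi (x : B ⧸ A')
      rw [h2, ← zpow_mul, ← pow_succ'] at h1
      rw [← h1]
      refine congrArg _ (Subtype.ext ?_)
      show (γ ^ (m + 1)) (x : X) = (γ ^ m) (γ (x : X))
      rw [pow_succ, MulAut.mul_apply]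
  intro x hx
  have h1 := hit (p ^ k) ⟨x, hx⟩ (by rw [hγ]; exact hx)
  set y : B ⧸ A' := ((⟨x, hx⟩ : B) : B ⧸ A')
  have h1' : y = y ^ (i ^ p ^ k) := Eq.trans (congrArg _ (Subtype.ext (show x = (γ ^ p ^ k) x by rw [hγ]; rfl))) h1
  have h2 : y ^ i = y := by
    rcases eq_or_ne y 1 with h0 | h0
    · rw [h0, one_zpow]
    · have hord : orderOf y = p :=
        ((Nat.dvd_prime hp.out).1 (hcq ▸ orderOf_dvd_natCard y)).resolve_left fun h =>
          h0 (orderOf_eq_one_iff.1 h)
      conv_lhs at h1' => rw [← zpow_one y]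
      rw [zpow_eq_zpow_iff_modEq, hord, ← ZMod.intCast_eq_intCast_iff] at h1'
      push_cast at h1'
      rw [ZMod.pow_card_pow] at h1'
      conv_rhs => rw [← zpow_one y]
      rw [zpow_eq_zpow_iff_modEq, hord, ← ZMod.intCast_eq_intCast_iff]
      push_cast
      exact h1'.symm
  have h3 : ((g ⟨x, hx⟩ : B) : B ⧸ A') = y := (hi y).trans h2
  exact Subgroup.mem_subgroupOf.1 (QuotientGroup.eq.1 h3.symm)

variable {Ω : Type*} [Group Ω] {S : Subgroup Ω} [Finite S] {p : ℕ} [hp : Fact p.Prime] {F : FusionSystem S}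

/-- No invariant series with steps of order `p` in an essential subgroup. -/
theorem not_essential_of_series (hS : IsPGroup p S) (hF : F.IsSaturated p) {P : Subgroup Ω}
    (hess : F.IsEssential p P) (n : ℕ) (L : ℕ → Subgroup P) (h0 : L 0 = ⊤) (hn : L n = ⊥)
    (hle : ∀ i < n, L (i + 1) ≤ L i) (hnormal : ∀ i ≤ n, (L i).Normal)
    (hcard : ∀ i < n, Nat.card (L i) = p * Nat.card (L (i + 1)))
    (hinv : ∀ γ ∈ F.autGroup P, ∀ i ≤ n, ∀ x ∈ L i, γ x ∈ L i) : False := by
  have hPS : P ≤ S := hess.2.1.1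
  haveI := finite_sub hPS
  haveI : Finite (MulAut P) := Finite.of_injective (fun f => (f : P → P)) DFunLike.coe_injective
  let K : Subgroup (MulAut P) :=
    { carrier := {γ | γ ∈ F.autGroup P ∧ ∀ i < n, ∀ x ∈ L i, x⁻¹ * γ x ∈ L (i + 1)}
      one_mem' := ⟨one_mem _, fun i _ x _ => by simp⟩
      mul_mem' := by
        rintro a b ⟨ha, ha'⟩ ⟨hb, hb'⟩
        refine ⟨mul_mem ha hb, fun i hi x hx => ?_⟩
        have h1 := hb' i hi x hx
        have h2 := ha' i hi (b x) (hinv b hb i hi.le x hx)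
        rw [MulAut.mul_apply]
        simpa [mul_assoc] using mul_mem h1 h2
      inv_mem' := by
        rintro a ⟨ha, ha'⟩
        refine ⟨inv_mem ha, fun i hi x hx => ?_⟩
        have h1 := ha' i hi (a⁻¹ x) (hinv _ (inv_mem ha) i hi.le x hx)
        rw [MulAut.apply_inv_self] at h1
        simpa using inv_mem h1 }
  refine PClosed.not_normal_pGroup hS hF hess K (fun γ hγ => hγ.1) ?_ ?_ ?_
  · rintro γ hγ a ⟨ha, ha'⟩
    refine ⟨mul_mem (mul_mem hγ ha) (inv_mem hγ), fun i hi x hx => ?_⟩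
    have h1 := ha' i hi (γ⁻¹ x) (hinv _ (inv_mem hγ) i hi.le x hx)
    have h2 := hinv γ hγ (i + 1) hi _ h1
    rw [map_mul, map_inv, MulAut.apply_inv_self] at h2
    rw [MulAut.mul_apply, MulAut.mul_apply]
    exact h2
  · have hP : IsPGroup p P := isPGroup_of_le hS hPS
    refine PClosed.isPGroup_of_coprime_trivial K fun a ha hco => ?_
    suffices H : ∀ j i, i + j = n → ∀ x ∈ L i, a x = x from
      MulEquiv.ext fun x => H n 0 (zero_add n) x (h0 ▸ Subgroup.mem_top x)
    intro j
    induction j with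
    | zero =>
      intro i hi x hx
      rw [show i = n by omega, hn, Subgroup.mem_bot] at hx
      rw [hx, map_one]
    | succ j ih =>
      intro i hi x hx
      exact PGroups.eq_of_fixed_diff hP a hco x (ih (i + 1) (by omega) _ (ha.2 i (by omega) x hx))
  · intro γ hγ
    have hγF := autInducedBy_le_autGroup F hPS hγ
    refine ⟨hγF, fun i hi x hx => ?_⟩
    obtain ⟨k, hk⟩ := isPGroup_autInducedBy hS P ⟨γ, hγ⟩
    exact layer_trivial (congrArg Subtype.val hk) (hle i hi) (hnormal (i + 1) hi)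
      (fun y hy => hinv γ hγF (i + 1) hi y hy) (fun y hy => hinv γ hγF i hi.le y hy) (hcard i hi) x hx

/-- The three-step form. -/
theorem not_essential_of_chain_three (hS : IsPGroup p S) (hF : F.IsSaturated p) {P : Subgroup Ω}
    (hess : F.IsEssential p P) (hcard : Nat.card P = p ^ 3) {Z M : Subgroup P} (hZn : Z.Normal) (hMn : M.Normal)
    (hZM : Z ≤ M) (hZ : Nat.card Z = p) (hM : Nat.card M = p ^ 2)
    (hZi : ∀ γ : MulAut P, ∀ x ∈ Z, γ x ∈ Z) (hMi : ∀ γ : MulAut P, ∀ x ∈ M, γ x ∈ M) : False := by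
  refine not_essential_of_series hS hF hess 3
    (fun i => if i = 0 then ⊤ else if i = 1 then M else if i = 2 then Z else ⊥) rfl rfl ?_ ?_ ?_ ?_
  · intro i hi
    interval_cases i
    · exact le_top
    · exact hZM
    · exact bot_le
  · intro i hi
    interval_cases i <;> simp <;> infer_instance
  · intro i hi
    interval_cases i
    · show Nat.card (⊤ : Subgroup P) = p * Nat.card M
      rw [Subgroup.card_top, hcard, hM]; ring
    · show Nat.card M = p * Nat.card Z
      rw [hM, hZ]; ring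
    · show Nat.card Z = p * Nat.card (⊥ : Subgroup P)
      rw [hZ, Subgroup.card_bot, mul_one]
  · intro γ _ i hi x hx
    interval_cases i
    · trivial
    · exact hMi γ x hx
    · exact hZi γ x hx
    · rw [show x = 1 from Subgroup.mem_bot.1 hx, map_one]; exact one_mem _

end Cfsg.Agent.Lib.FusionEssential.SeriesNotEssential
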