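import Mathlib

/-!
# Chains with steps of order dividing `p`, and automorphisms preserving them

`StepChain p Inv Q` : `Q` is reached from the trivial subgroup by steps `P ≤ P⟨x⟩` with `x ^ p ∈ P`
through subgroups satisfying `Inv`.
-/

set_option autoImplicit false

namespace Cfsg.Agent.Lib.FusionEssential.StepChain

variable {G : Type*} [Group G] {p : ℕ}

/-- Chains with steps of order dividing `p`. -/
inductive Chain (p : ℕ) (Inv : Subgroup G → Prop) : Subgroup G → Prop
  | bot : Chain p Inv ⊥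
  | step {P Q : Subgroup G} (x : G) : Chain p Inv P → Inv Q → Q = P ⊔ Subgroup.zpowers x →
      x ^ p ∈ P → Chain p Inv Q

theorem inv_of_chain {Inv : Subgroup G → Prop} (hbot : Inv ⊥) {Q : Subgroup G} (h : Chain p Inv Q) :
    Inv Q := by
  cases h with
  | bot => exact hbot
  | step x _ hQ _ _ => exact hQ

theorem exists_zpow_of_mem {P : Subgroup G} [P.Normal] {x y : G} (hy : y ∈ P ⊔ Subgroup.zpowers x) :
    ∃ i : ℤ, QuotientGroup.mk' P y = QuotientGroup.mk' P x ^ i := by
  have h := Subgroup.mem_map_of_mem (QuotientGroup.mk' P) hy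
  rw [Subgroup.map_sup, QuotientGroup.map_mk'_self, bot_sup_eq, MonoidHom.map_zpowers] at h
  obtain ⟨i, hi⟩ := Subgroup.mem_zpowers_iff.1 h
  exact ⟨i, hi.symm⟩

theorem mem_of_zpow {P : Subgroup G} [P.Normal] {x y : G} {i : ℤ}
    (h : QuotientGroup.mk' P y = QuotientGroup.mk' P x ^ i) : y ∈ P ⊔ Subgroup.zpowers x := by
  rw [← map_zpow, QuotientGroup.mk'_apply, QuotientGroup.mk'_apply, QuotientGroup.eq] at h
  rw [show y = x ^ i * (y⁻¹ * x ^ i)⁻¹ by group]
  exact mul_mem (Subgroup.mem_sup_right (Subgroup.zpow_mem_zpowers x i)) (Subgroup.mem_sup_left (inv_mem h))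

/-- The action of an automorphism on a step is a power map. -/
theorem exists_power {P : Subgroup G} [P.Normal] {x : G} {α : MulAut G} (hP : ∀ a ∈ P, α a ∈ P)
    (hQ : α x ∈ P ⊔ Subgroup.zpowers x) :
    ∃ i : ℤ, ∀ (z : G) (m : ℤ), QuotientGroup.mk' P z = QuotientGroup.mk' P x ^ m →
      QuotientGroup.mk' P (α z) = QuotientGroup.mk' P x ^ (i * m) := by
  obtain ⟨i, hi⟩ := exists_zpow_of_mem hQ
  refine ⟨i, fun z m hz => ?_⟩
  rw [← map_zpow, QuotientGroup.mk'_apply, QuotientGroup.mk'_apply, QuotientGroup.eq] at hz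
  have h := hP _ hz
  rw [map_mul, map_inv, map_zpow] at h
  rw [zpow_mul, ← hi, ← map_zpow, QuotientGroup.mk'_apply, QuotientGroup.mk'_apply, QuotientGroup.eq]
  exact h

/-- An automorphism of order prime to `p` fixing `P` and stabilising `y P` fixes `y`. -/
theorem apply_eq_of_stab (hG : IsPGroup p G) [Fact p.Prime] {γ : MulAut G} {n : ℕ} (hn : n.Coprime p)
    (hγ : γ ^ n = 1) {P : Subgroup G} (hfix : ∀ a ∈ P, γ a = a) {y : G} (hy : y⁻¹ * γ y ∈ P) : γ y = y := by
  have h : ∀ k, (γ ^ k) y = y * (y⁻¹ * γ y) ^ k := by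
    intro k
    induction k with
    | zero => simp
    | succ k ih => rw [pow_succ', MulAut.mul_apply, ih, map_mul, map_pow, hfix _ hy, pow_succ', ← mul_assoc,
        mul_inv_cancel_left]
  have h1 : (y⁻¹ * γ y) ^ n = 1 := by
    have := h n
    rw [hγ, MulAut.one_apply] at this
    exact mul_eq_left.1 this.symm
  obtain ⟨k, hk⟩ := hG (y⁻¹ * γ y)
  have := Nat.eq_one_of_dvd_coprimes (hn.pow_right k) (orderOf_dvd_of_pow_eq_one h1) (orderOf_dvd_of_pow_eq_one hk)
  exact (inv_mul_eq_one.1 (orderOf_eq_one_iff.1 this)).symm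

section Preserved

variable [Fact p.Prime] {Inv : Subgroup G → Prop} (hbot : Inv ⊥)
  (hnormal : ∀ P, Inv P → P.Normal)

include hbot hnormal

/-- Two automorphisms preserving a chain commute if their commutator has order prime to `p`. -/
theorem comm_apply (hG : IsPGroup p G) {α β : MulAut G}
    (hα : ∀ P, Inv P → ∀ a ∈ P, α a ∈ P) (hβ : ∀ P, Inv P → ∀ a ∈ P, β a ∈ P)
    (hα' : ∀ P, Inv P → ∀ a ∈ P, α⁻¹ a ∈ P) (hβ' : ∀ P, Inv P → ∀ a ∈ P, β⁻¹ a ∈ P)
    {n : ℕ} (hn : n.Coprime p) (hγ : (α * β * α⁻¹ * β⁻¹) ^ n = 1) {Q : Subgroup G}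
    (hQ : Chain p Inv Q) : ∀ y ∈ Q, (α * β * α⁻¹ * β⁻¹) y = y := by
  induction hQ with
  | bot => intro y hy; rw [Subgroup.mem_bot.1 hy, map_one]
  | @step P Q x hP hQ hQe hx ih =>
    have hPi := inv_of_chain hbot hP
    haveI := hnormal P hPi
    intro y hy
    have hxQ : x ∈ Q := hQe ▸ Subgroup.mem_sup_right (Subgroup.mem_zpowers x)
    obtain ⟨i, hi⟩ := exists_power (hα P hPi) (hQe ▸ hα Q hQ x hxQ)
    obtain ⟨j, hj⟩ := exists_power (hβ P hPi) (hQe ▸ hβ Q hQ x hxQ)
    set z := α⁻¹ (β⁻¹ y)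
    obtain ⟨m, hm⟩ := exists_zpow_of_mem (hQe ▸ hα' Q hQ _ (hβ' Q hQ y hy) : z ∈ P ⊔ Subgroup.zpowers x)
    have h1 : QuotientGroup.mk' P (α (β z)) = QuotientGroup.mk' P (β (α z)) := by
      rw [hi _ _ (hj _ _ hm), hj _ _ (hi _ _ hm), mul_left_comm]
    have h2 : β (α z) = y := by simp [z]
    rw [h2] at h1
    refine apply_eq_of_stab hG hn hγ ih ?_
    exact QuotientGroup.eq.1 h1.symm

/-- The `(p-1)`-st power of an automorphism of `p'`-order preserving a chain is trivial. -/
theorem pow_apply (hG : IsPGroup p G) {α : MulAut G}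
    (hα : ∀ P, Inv P → ∀ a ∈ P, α a ∈ P) (hα' : ∀ P, Inv P → ∀ a ∈ P, α⁻¹ a ∈ P)
    {n : ℕ} (hn : n.Coprime p) (hγ : α ^ n = 1) {Q : Subgroup G}
    (hQ : Chain p Inv Q) : ∀ y ∈ Q, (α ^ (p - 1)) y = y := by
  induction hQ with
  | bot => intro y hy; rw [Subgroup.mem_bot.1 hy, map_one]
  | @step P Q x hP hQ hQe hx ih =>
    have hPi := inv_of_chain hbot hP
    haveI := hnormal P hPi
    intro y hy
    have hxQ : x ∈ Q := hQe ▸ Subgroup.mem_sup_right (Subgroup.mem_zpowers x)
    obtain ⟨i, hi⟩ := exists_power (hα P hPi) (hQe ▸ hα Q hQ x hxQ)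
    obtain ⟨m, hm⟩ := exists_zpow_of_mem (hQe ▸ hy)
    refine apply_eq_of_stab hG hn (by rw [← pow_mul, mul_comm, pow_mul, hγ, one_pow]) ih ?_
    set X := QuotientGroup.mk' P x
    have hXp : X ^ p = 1 := by rw [← map_pow]; exact (QuotientGroup.eq_one_iff _).2 hx
    have hit : ∀ k, QuotientGroup.mk' P ((α ^ k) y) = X ^ (i ^ k * m) := by
      intro k
      induction k with
      | zero => simpa using hm
      | succ k ihk => rw [pow_succ' α, MulAut.mul_apply, hi _ _ ihk, pow_succ', mul_assoc]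
    refine QuotientGroup.eq.1 ((hm.trans ?_).trans (hit (p - 1)).symm)
    rcases eq_or_ne X 1 with h1 | h1
    · rw [h1, one_zpow, one_zpow]
    · have hord : orderOf X = p := orderOf_eq_prime hXp h1
      rw [zpow_eq_zpow_iff_modEq, hord, ← ZMod.intCast_eq_intCast_iff]
      have hi0 : ((i : ZMod p)) ≠ 0 := by
        intro h0
        have hXx : QuotientGroup.mk' P (α x) = X ^ i := by
          have := hi x 1 (zpow_one X).symm
          rwa [mul_one] at this
        have hαx : α x ∈ P := by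
          refine (QuotientGroup.eq_one_iff _).1 (hXx.trans ?_)
          exact orderOf_dvd_iff_zpow_eq_one.1 (hord.symm ▸ (ZMod.intCast_zmod_eq_zero_iff_dvd i p).1 h0)
        have := hα' P hPi _ hαx
        rw [MulAut.inv_apply_self] at this
        exact h1 ((QuotientGroup.eq_one_iff x).2 this)
      push_cast
      rw [ZMod.pow_card_sub_one_eq_one hi0, one_mul]

/-- The steps of a chain in a `p`-group are central. -/
theorem conj_mem_step (hG : IsPGroup p G) {P Q : Subgroup G} (hP : Inv P) (hQ : Inv Q) {x : G}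
    (hQe : Q = P ⊔ Subgroup.zpowers x) (hx : x ^ p ∈ P) :
    ∀ g : G, ∀ y ∈ Q, g * y * g⁻¹ * y⁻¹ ∈ P := by
  haveI := hnormal P hP
  haveI := hnormal Q hQ
  intro g y hy
  have hxQ : x ∈ Q := hQe ▸ Subgroup.mem_sup_right (Subgroup.mem_zpowers x)
  obtain ⟨i, hi⟩ := exists_power (α := MulAut.conj g) (fun a ha => Subgroup.Normal.conj_mem inferInstance a ha g)
    (hQe ▸ Subgroup.Normal.conj_mem inferInstance x hxQ g)
  obtain ⟨m, hm⟩ := exists_zpow_of_mem (hQe ▸ hy)
  set X := QuotientGroup.mk' P x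
  have hXp : X ^ p = 1 := by rw [← map_pow]; exact (QuotientGroup.eq_one_iff _).2 hx
  have hit : ∀ k, QuotientGroup.mk' P (MulAut.conj (g ^ k) y) = X ^ (i ^ k * m) := by
    intro k
    induction k with
    | zero => simpa using hm
    | succ k ihk => rw [pow_succ' g, map_mul, MulAut.mul_apply, hi _ _ ihk, pow_succ', mul_assoc]
  have key : QuotientGroup.mk' P (g * y * g⁻¹) = QuotientGroup.mk' P y := by
    have h1 := hit 1
    rw [pow_one, pow_one, MulAut.conj_apply] at h1
    rw [h1, hm]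
    rcases eq_or_ne X 1 with h0 | h0
    · rw [h0, one_zpow, one_zpow]
    · have hord : orderOf X = p := orderOf_eq_prime hXp h0
      obtain ⟨k, hk⟩ := hG g
      have h2 := hit (p ^ k)
      rw [hk, map_one, MulAut.one_apply, hm, zpow_eq_zpow_iff_modEq, hord,
        ← ZMod.intCast_eq_intCast_iff] at h2
      push_cast at h2
      rw [ZMod.pow_card_pow] at h2
      rw [zpow_eq_zpow_iff_modEq, hord, ← ZMod.intCast_eq_intCast_iff]
      push_cast
      exact h2.symm
  have := QuotientGroup.eq.1 key.symm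
  have h2 := (Subgroup.Normal.mem_comm_iff (H := P) inferInstance).1 this
  exact h2

/-- A cyclic step refines to steps of order dividing `p`. -/
theorem refine_step
    (hpow : ∀ P Q M : Subgroup G, ∀ n : ℕ, Inv P → Inv Q → M ≤ Q → (∀ y ∈ Q, (y ∈ M ↔ y ^ n ∈ P)) → Inv M)
    {P : Subgroup G} (hP : Chain p Inv P) {Q : Subgroup G} (hQ : Inv Q) (k : ℕ) :
    ∀ x : G, Q = P ⊔ Subgroup.zpowers x → x ^ p ^ k ∈ P → Chain p Inv Q := by
  induction k generalizing Q with
  | zero =>
    intro x hQe hx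
    exact .step x hP hQ hQe (by simpa using pow_mem (show x ∈ P by simpa using hx) p)
  | succ k ih =>
    intro x hQe hx
    by_cases hxk : x ^ p ^ k ∈ P
    · exact ih hQ x hQe hxk
    have hPi := inv_of_chain hbot hP
    haveI := hnormal P hPi
    have hM : Inv (P ⊔ Subgroup.zpowers (x ^ p)) := by
      refine hpow P Q _ (p ^ k) hPi hQ ?_ fun y hy => ?_
      · rw [hQe]
        exact sup_le_sup le_rfl (Subgroup.zpowers_le.2 (pow_mem (Subgroup.mem_zpowers x) p))
      obtain ⟨m, hm⟩ := exists_zpow_of_mem (hQe ▸ hy)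
      set X := QuotientGroup.mk' P x
      have hXk : X ^ p ^ (k + 1) = 1 := by rw [← map_pow]; exact (QuotientGroup.eq_one_iff _).2 hx
      have hord : orderOf X = p ^ (k + 1) := orderOf_eq_prime_pow
        (fun h => hxk ((QuotientGroup.eq_one_iff _).1 ((map_pow _ x _).trans h))) hXk
      constructor
      · intro hyM
        obtain ⟨l, hl⟩ := exists_zpow_of_mem hyM
        refine (QuotientGroup.eq_one_iff _).1 ?_
        show QuotientGroup.mk' P (y ^ p ^ k) = 1
        rw [map_pow, hl, map_pow, ← zpow_natCast, ← zpow_mul, ← zpow_natCast, ← zpow_mul]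
        refine orderOf_dvd_iff_zpow_eq_one.1 ?_
        rw [hord]
        exact ⟨l, by push_cast; ring⟩
      · intro hyP
        have h1 : X ^ (m * (p ^ k : ℕ)) = 1 := by
          rw [zpow_mul, ← hm, zpow_natCast, ← map_pow]
          exact (QuotientGroup.eq_one_iff _).2 hyP
        have h2 := orderOf_dvd_iff_zpow_eq_one.2 h1
        rw [hord] at h2
        push_cast at h2
        rw [pow_succ, mul_comm m] at h2
        obtain ⟨l, rfl⟩ : (p : ℤ) ∣ m :=
          Int.dvd_of_mul_dvd_mul_left (pow_ne_zero k (Int.natCast_ne_zero.2 (NeZero.ne p))) h2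
        refine mem_of_zpow (x := x ^ p) (i := l) ?_
        rw [hm, map_pow, ← zpow_natCast, ← zpow_mul]
    refine .step x (ih hM (x ^ p) rfl (by rwa [← pow_mul, ← pow_succ'])) hQ ?_
      (Subgroup.mem_sup_right (Subgroup.mem_zpowers _))
    rw [hQe, sup_assoc, sup_eq_right.2 (Subgroup.zpowers_le.2 (pow_mem (Subgroup.mem_zpowers x) p))]

end Preserved

end Cfsg.Agent.Lib.FusionEssential.StepChain
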