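import Cfsg.Agent.Lib.FusionP3.FactorHyp
import Cfsg.Agent.Lib.FusionSystem.FactorSaturated
import Cfsg.Agent.Lib.FusionSystem.NormalFacts
import Cfsg.Agent.Lib.FusionAlperin.Join
import Cfsg.Agent.Lib.FusionSystem.Realized

/-!
# Transport of fusion systems along injective homomorphisms

`Iso θ F F'` says that the injective `θ : S →* Ω'` carries `F` onto `F'`.  Normal subsystems, simplicity,
subnormal subsystems and components are transported along such maps.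
-/

set_option autoImplicit false

namespace Cfsg.Agent.Lib.FusionEssential.Transport

open Cfsg Cfsg.FusionSystem
open Cfsg.Agent.Lib

variable {Ω : Type*} [Group Ω] {S : Subgroup Ω} {F : FusionSystem S}
variable {Ω' : Type*} [Group Ω'] {S' : Subgroup Ω'} {F' : FusionSystem S'} {θ : S →* Ω'}

/-- `θ` is an isomorphism of fusion systems from `F` onto `F'`. -/
def Iso (θ : S →* Ω') (F : FusionSystem S) (F' : FusionSystem S') : Prop :=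
  Function.Injective θ ∧ F.IsSurjectiveMorphism F' θ

theorem mem_imageAlong_iff (hθ : Function.Injective θ) {P : Subgroup Ω} {x : S} :
    θ x ∈ imageAlong θ P ↔ (x : Ω) ∈ P :=
  (Subgroup.mem_map_iff_mem hθ).trans Subgroup.mem_subgroupOf

theorem preimage_image (hθ : Function.Injective θ) {P : Subgroup Ω} (hP : P ≤ S) :
    preimageAlong θ (imageAlong θ P) = P := by
  refine le_antisymm (fun x hx => ?_) (FS.le_preimageAlong_imageAlong hP)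
  obtain ⟨hxS, h⟩ := FS.mem_preimageAlong.1 hx
  exact (mem_imageAlong_iff hθ).1 h

theorem imageAlong_sup {P Q : Subgroup Ω} (hP : P ≤ S) (hQ : Q ≤ S) :
    imageAlong θ (P ⊔ Q) = imageAlong θ P ⊔ imageAlong θ Q := by
  rw [imageAlong, imageAlong, imageAlong, Subgroup.subgroupOf_sup hP hQ, Subgroup.map_sup]

theorem range_restrict {T : Subgroup Ω} (hT : T ≤ S) :
    (θ.comp (Subgroup.inclusion hT)).range = imageAlong θ T := by
  rw [MonoidHom.range_comp, Subgroup.inclusion_range]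
  rfl

theorem imageAlong_restrict {T P : Subgroup Ω} (hT : T ≤ S) (hP : P ≤ T) :
    imageAlong (θ.comp (Subgroup.inclusion hT)) P = imageAlong θ P := by
  refine le_antisymm ?_ ?_
  · rintro _ ⟨x, hx, rfl⟩
    exact ⟨Subgroup.inclusion hT x, hx, rfl⟩
  · rintro _ ⟨x, hx, rfl⟩
    exact ⟨⟨x, hP hx⟩, hx, rfl⟩

/-- The elementwise form of a morphism. -/
theorem push (h : F.IsMorphism F' θ) {P : Subgroup Ω} {φ : P →* Ω} (hφ : φ ∈ F.Hom P) {P' : Subgroup Ω'}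
    (hP' : P' = imageAlong θ P) :
    ∃ φ' ∈ F'.Hom P', ∀ (x : P) (h1 : θ ⟨x, FS.src_le hφ x.2⟩ ∈ P'),
      φ' ⟨_, h1⟩ = θ ⟨φ x, FS.apply_mem hφ x⟩ := by
  subst hP'
  obtain ⟨φ', hφ', hind⟩ := h.2 P φ hφ
  exact ⟨φ', hφ', fun x h1 => FS.inducedAlong_apply hind x _ h1 _⟩

/-- The elementwise form of surjectivity. -/
theorem pull (h : F.IsSurjectiveMorphism F' θ) {P' : Subgroup Ω'} {φ' : P' →* Ω'} (hφ' : φ' ∈ F'.Hom P')
    {P : Subgroup Ω} (hP : P = preimageAlong θ P') :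
    ∃ (φ : P →* Ω) (hφ : φ ∈ F.Hom P), ∀ (x : P) (h1 : θ ⟨x, FS.src_le hφ x.2⟩ ∈ P'),
      φ' ⟨_, h1⟩ = θ ⟨φ x, FS.apply_mem hφ x⟩ := by
  subst hP
  obtain ⟨φ, hφ, hind⟩ := h.2.2 P' (FS.src_le hφ') φ' hφ'
  exact ⟨φ, hφ, fun x h1 => FS.inducedAlong_apply hind x _ h1 _⟩

theorem Iso.range_eq (h : Iso θ F F') : θ.range = S' := h.2.2.1

theorem Iso.mem_base (h : Iso θ F F') (x : S) : θ x ∈ S' := h.range_eq.le ⟨x, rfl⟩

theorem Iso.image_preimage (h : Iso θ F F') {P' : Subgroup Ω'} (hP' : P' ≤ S') :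
    imageAlong θ (preimageAlong θ P') = P' := FS.imageAlong_preimageAlong h.range_eq hP'

theorem Iso.finite (h : Iso θ F F') [Finite S] : Finite S' := FS.finite_image h.range_eq

theorem Iso.isPGroup (h : Iso θ F F') [Finite S] {p : ℕ} [Fact p.Prime] (hS : IsPGroup p S) : IsPGroup p S' :=
  FS.isPGroup_image hS h.range_eq

theorem Iso.isFactorSystem (h : Iso θ F F') [Finite S] : F.IsFactorSystem ⊥ θ F' := by
  have := FS.surjectiveMorphism_isFactorSystem h.2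
  rwa [(MonoidHom.ker_eq_bot_iff θ).2 h.1, Subgroup.map_bot] at this

theorem Iso.isSaturated (h : Iso θ F F') [Finite S] {p : ℕ} [Fact p.Prime] (hS : IsPGroup p S)
    (hF : F.IsSaturated p) : F'.IsSaturated p :=
  FS.factor_isSaturated hS hF (FS.stronglyClosed_bot F) h.isFactorSystem

/-- Every system has an isomorphic copy on the image of an injective homomorphism. -/
theorem exists_iso [Finite S] (F : FusionSystem S) (hθ : Function.Injective θ) :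
    ∃ F' : FusionSystem θ.range, Iso θ F F' := by
  obtain ⟨E, hE⟩ := FS.exists_factorSystem (FS.stronglyClosed_bot F) θ
    (fun s => by rw [Subgroup.mem_bot, ← map_one θ, hθ.eq_iff]; exact Subtype.ext_iff) rfl
  refine ⟨E, hθ, ⟨fun s => ⟨s, rfl⟩, fun P φ hφ => ?_⟩, rfl, fun P' _ φ' h => ((hE.2.2.2 P' φ').1 h).2⟩
  obtain ⟨ψ, hψ, hψe⟩ := FS.exists_restrict hφ (preimage_image hθ (FS.src_le hφ)).le
  have hle : imageAlong θ P ≤ θ.range := by rintro _ ⟨s, -, rfl⟩; exact ⟨s, rfl⟩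
  have hK : F.StronglyClosed (θ.ker.map S.subtype) := by
    rw [(MonoidHom.ker_eq_bot_iff θ).2 hθ, Subgroup.map_bot]; exact FS.stronglyClosed_bot F
  obtain ⟨φ', hφ'⟩ := FS.exists_induced hK rfl hle hψ
  refine ⟨φ', (hE.2.2.2 _ _).2 ⟨hle, ψ, hψ, hφ'⟩, FS.src_le hφ, FS.apply_mem hφ,
    fun x => ⟨⟨x, FS.src_le hφ x.2⟩, x.2, rfl⟩, fun x => ?_⟩
  have hxm : (x : Ω) ∈ preimageAlong θ (imageAlong θ P) := (preimage_image hθ (FS.src_le hφ)).ge x.2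
  refine (FS.inducedAlong_apply hφ' ⟨x, hxm⟩ (FS.src_le hφ x.2) _ (FS.apply_mem hψ _)).trans ?_
  exact congrArg θ (Subtype.ext (hψe ⟨x, hxm⟩))

/-- Two copies along the same homomorphism have the same maps. -/
theorem Iso.hom_le {S'' : Subgroup Ω'} {F'' : FusionSystem S''} (h : Iso θ F F') (h' : Iso θ F F'')
    (P' : Subgroup Ω') : F'.Hom P' ⊆ F''.Hom P' := by
  intro φ' hφ'
  obtain ⟨φ, hφ, he⟩ := pull h.2 hφ' rfl
  obtain ⟨φ'', hφ'', he''⟩ := push h'.2.1 hφ (h.image_preimage (FS.src_le hφ')).symm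
  refine FS.hom_congr hφ'' fun y => ?_
  obtain ⟨s, hs⟩ := h.range_eq.ge (FS.src_le hφ' y.2)
  have hsP : θ s ∈ P' := hs ▸ y.2
  rw [show y = ⟨θ s, hsP⟩ from Subtype.ext hs.symm]
  exact (he ⟨s, FS.mem_preimageAlong.2 ⟨s.2, hsP⟩⟩ hsP).trans (he'' ⟨s, _⟩ hsP).symm

/-- Composition. -/
theorem Iso.comp {Ω'' : Type*} [Group Ω''] {S'' : Subgroup Ω''} {F'' : FusionSystem S''} {η : S' →* Ω''}
    (h : F.IsSurjectiveMorphism F' θ) (h' : F'.IsSurjectiveMorphism F'' η) :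
    F.IsSurjectiveMorphism F'' (η.comp (θ.codRestrict S' h.1.1)) := by
  have hsurj : Function.Surjective (θ.codRestrict S' h.1.1) := fun y => by
    obtain ⟨s, hs⟩ := h.2.1.ge y.2
    exact ⟨s, Subtype.ext hs⟩
  refine ⟨⟨fun s => h'.1.1 _, fun P φ hφ => ?_⟩, ?_, fun P'' hP'' φ'' hφ'' => ?_⟩
  · obtain ⟨φ', hφ', he⟩ := push h.1 hφ rfl
    have e : imageAlong (η.comp (θ.codRestrict S' h.1.1)) P = imageAlong η (imageAlong θ P) := by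
      refine le_antisymm ?_ ?_
      · rintro _ ⟨s, hs, rfl⟩; exact ⟨_, ⟨s, hs, rfl⟩, rfl⟩
      · rintro _ ⟨y, ⟨s, hs, hsy⟩, rfl⟩; exact ⟨s, hs, congrArg η (Subtype.ext hsy)⟩
    obtain ⟨φ'', hφ'', he''⟩ := push h'.1 hφ' e
    refine ⟨φ'', hφ'', FS.src_le hφ, FS.apply_mem hφ, fun x => ⟨_, x.2, rfl⟩, fun x => ?_⟩
    have hx : θ ⟨x, FS.src_le hφ x.2⟩ ∈ imageAlong θ P := ⟨⟨x, FS.src_le hφ x.2⟩, x.2, rfl⟩
    exact (he'' ⟨_, hx⟩ _).trans (congrArg η (Subtype.ext (he x hx)))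
  · rw [MonoidHom.range_comp, MonoidHom.range_eq_top.2 hsurj, ← MonoidHom.range_eq_map, h'.2.1]
  · obtain ⟨φ', hφ', he'⟩ := pull h' hφ'' rfl
    have e : preimageAlong (η.comp (θ.codRestrict S' h.1.1)) P'' = preimageAlong θ (preimageAlong η P'') := by
      ext x
      simp only [FS.mem_preimageAlong]
      exact ⟨fun ⟨hx, hm⟩ => ⟨hx, h.1.1 _, hm⟩, fun ⟨hx, _, hm⟩ => ⟨hx, hm⟩⟩
    obtain ⟨φ, hφ, he⟩ := pull h hφ' e
    refine ⟨φ, hφ, FS.inducedAlong_preimage hφ fun s hs => ?_⟩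
    have hm : θ s ∈ preimageAlong η P'' := FS.mem_preimageAlong.2 ⟨h.1.1 s, hs⟩
    exact (he' ⟨_, hm⟩ hs).trans (congrArg η (Subtype.ext (he ⟨s, _⟩ hm)))

/-- Cancellation: two images of `F` related by an injective map are isomorphic. -/
theorem Iso.of_comp {Ω'' : Type*} [Group Ω''] {S'' : Subgroup Ω''} {F'' : FusionSystem S''} {η : S →* Ω''}
    {g : S' →* Ω''} (hg : Function.Injective g) (h : F.IsSurjectiveMorphism F' θ)
    (h' : F.IsSurjectiveMorphism F'' η) (hcomp : ∀ s, g ⟨θ s, h.1.1 s⟩ = η s) : Iso g F' F'' := by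
  have hgr : g.range = S'' := by
    rw [← h'.2.1]
    refine le_antisymm ?_ ?_
    · rintro _ ⟨y, rfl⟩
      obtain ⟨s, hs⟩ := h.2.1.ge y.2
      exact ⟨s, by rw [← hcomp]; exact congrArg g (Subtype.ext hs)⟩
    · rintro _ ⟨s, rfl⟩; exact ⟨_, hcomp s⟩
  refine ⟨hg, ⟨fun y => hgr.le ⟨y, rfl⟩, fun P' φ' hφ' => ?_⟩, hgr, fun P'' hP'' φ'' hφ'' => ?_⟩
  · obtain ⟨φ, hφ, he⟩ := pull h hφ' rfl
    have e : imageAlong g P' = imageAlong η (preimageAlong θ P') := by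
      refine le_antisymm ?_ ?_
      · rintro _ ⟨y, hy, rfl⟩
        obtain ⟨s, hs⟩ := h.2.1.ge y.2
        have hys : y = ⟨θ s, h.1.1 s⟩ := Subtype.ext hs.symm
        exact ⟨s, FS.mem_preimageAlong.2 ⟨s.2, hs ▸ hy⟩, by rw [hys, hcomp]⟩
      · rintro _ ⟨s, hs, rfl⟩
        obtain ⟨_, hs'⟩ := FS.mem_preimageAlong.1 hs
        exact ⟨⟨θ s, h.1.1 s⟩, hs', hcomp s⟩
    obtain ⟨φ'', hφ'', he''⟩ := push h'.1 hφ e
    refine ⟨φ'', hφ'', FS.src_le hφ', FS.apply_mem hφ', fun x => ⟨_, x.2, rfl⟩, fun x => ?_⟩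
    obtain ⟨s, hs⟩ := h.2.1.ge (FS.src_le hφ' x.2)
    have hsP : θ s ∈ P' := hs ▸ x.2
    obtain rfl : x = ⟨θ s, hsP⟩ := Subtype.ext hs.symm
    have hm : η s ∈ imageAlong g P' := hcomp s ▸ ⟨⟨θ s, h.1.1 s⟩, hsP, rfl⟩
    have h1 := he'' ⟨s, FS.mem_preimageAlong.2 ⟨s.2, hsP⟩⟩ hm
    refine Eq.trans (congrArg φ'' (Subtype.ext (hcomp s))) (h1.trans ?_)
    rw [← hcomp]
    exact congrArg g (Subtype.ext (he ⟨s, _⟩ hsP).symm)
  · obtain ⟨φ, hφ, he⟩ := pull h' hφ'' rfl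
    have e : preimageAlong g P'' = imageAlong θ (preimageAlong η P'') := by
      refine le_antisymm (fun y hy => ?_) ?_
      · obtain ⟨hyS, hm⟩ := FS.mem_preimageAlong.1 hy
        obtain ⟨s, hs⟩ := h.2.1.ge hyS
        refine ⟨s, FS.mem_preimageAlong.2 ⟨s.2, ?_⟩, hs⟩
        show η s ∈ P''
        rw [← hcomp, show (⟨θ s, h.1.1 s⟩ : S') = ⟨y, hyS⟩ from Subtype.ext hs]
        exact hm
      · rintro _ ⟨s, hs, rfl⟩
        obtain ⟨_, hs'⟩ := FS.mem_preimageAlong.1 hs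
        exact FS.mem_preimageAlong.2 ⟨h.1.1 s, by rw [hcomp]; exact hs'⟩
    obtain ⟨φ', hφ', he'⟩ := push h.1 hφ e
    refine ⟨φ', hφ', FS.inducedAlong_preimage hφ' fun y hy => ?_⟩
    obtain ⟨s, hs⟩ := h.2.1.ge y.2
    obtain rfl : y = ⟨θ s, h.1.1 s⟩ := Subtype.ext hs.symm
    have hsP : η s ∈ P'' := hcomp s ▸ hy
    have h1 := he' ⟨s, FS.mem_preimageAlong.2 ⟨s.2, hsP⟩⟩ (FS.mem_preimageAlong.2 ⟨h.1.1 s, hy⟩)
    refine Eq.trans (congrArg φ'' (Subtype.ext (hcomp s))) ((he ⟨s, FS.mem_preimageAlong.2 ⟨s.2, hsP⟩⟩ hsP).trans ?_)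
    rw [← hcomp]
    exact congrArg g (Subtype.ext h1.symm)

/-- The identity isomorphism. -/
theorem iso_refl (F : FusionSystem S) : Iso S.subtype F F := by
  have himg : ∀ {P}, P ≤ S → imageAlong S.subtype P = P := fun {P} hP =>
    Subgroup.map_subgroupOf_eq_of_le hP
  refine ⟨S.subtype_injective, ⟨fun s => s.2, fun P φ hφ => ?_⟩, Subgroup.range_subtype S,
    fun P' hP' φ' hφ' => ?_⟩
  · obtain ⟨ψ, hψ, he⟩ := FS.exists_restrict hφ (himg (FS.src_le hφ)).le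
    exact ⟨ψ, hψ, FS.src_le hφ, FS.apply_mem hφ, fun x => ⟨⟨x, FS.src_le hφ x.2⟩, x.2, rfl⟩,
      fun x => he _⟩
  · have hle : preimageAlong S.subtype P' ≤ P' := fun x hx => (FS.mem_preimageAlong.1 hx).2
    obtain ⟨ψ, hψ, he⟩ := FS.exists_restrict hφ' hle
    exact ⟨ψ, hψ, FS.inducedAlong_preimage hψ fun s hs => (he ⟨s, _⟩).symm⟩

/-- The inverse isomorphism. -/
theorem Iso.symm (h : Iso θ F F') : ∃ j : S' →* Ω, Iso j F' F ∧
    (∀ (s : S) (hs : θ s ∈ S'), j ⟨θ s, hs⟩ = s) := by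
  let e : S ≃* S' := (MonoidHom.ofInjective h.1).trans (MulEquiv.subgroupCongr h.range_eq)
  have hj : ∀ (s : S) (hs : θ s ∈ S'), (S.subtype.comp e.symm.toMonoidHom) ⟨θ s, hs⟩ = s := by
    intro s hs
    show ((e.symm ⟨θ s, hs⟩ : S) : Ω) = s
    rw [show (⟨θ s, hs⟩ : S') = e s from rfl, MulEquiv.symm_apply_apply]
  exact ⟨_, Iso.of_comp (S.subtype_injective.comp e.symm.injective) h.2 (iso_refl F).2
    (fun s => hj s _), hj⟩

/-- Automorphisms are carried along. -/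
theorem exists_aut_push [Finite S] (h : F.IsMorphism F' θ) {P : Subgroup Ω} (hP : P ≤ S) {α : MulAut P}
    (hα : α ∈ F.autGroup P) {P' : Subgroup Ω'} (hP' : P' = imageAlong θ P) :
    ∃ α' ∈ F'.autGroup P', ∀ (x : P) (h1 : θ ⟨x, hP x.2⟩ ∈ P'),
      ((α' ⟨_, h1⟩ : P') : Ω') = θ ⟨α x, hP (α x).2⟩ := by
  obtain ⟨φ, hφ, -, hφe⟩ := FS.exists_hom_of_aut hP hα
  obtain ⟨φ', hφ', he⟩ := push h hφ hP'
  haveI : Finite P' := by subst hP'; exact Finite.of_surjective _ (θ.subgroupMap_surjective (P.subgroupOf S))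
  have hval : ∀ y : P', φ' y ∈ P' := by
    intro y
    obtain ⟨s, hs, hsy⟩ := hP'.le y.2
    have hsP : θ s ∈ P' := hsy ▸ y.2
    rw [show y = ⟨θ s, hsP⟩ from Subtype.ext hsy.symm, he ⟨s, hs⟩ hsP]
    exact hP'.ge ⟨⟨φ ⟨s, hs⟩, FS.apply_mem hφ _⟩, (show φ ⟨s, hs⟩ ∈ P by rw [hφe]; exact (α _).2), rfl⟩
  have hr := FS.range_eq_of_mem hφ' hval le_rfl
  refine ⟨_, FS.homEquiv_mem_autGroup hφ' hr, fun x h1 => ?_⟩
  rw [FS.homEquiv_coe, he x h1]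
  exact congrArg θ (Subtype.ext (hφe x))

theorem Iso.exists_aut_pull [Finite S] (h : Iso θ F F') {P : Subgroup Ω} (hP : P ≤ S) {P' : Subgroup Ω'}
    (hP' : P' = imageAlong θ P) {α' : MulAut P'} (hα : α' ∈ F'.autGroup P') :
    ∃ α ∈ F.autGroup P, ∀ (x : P) (h1 : θ ⟨x, hP x.2⟩ ∈ P'),
      ((α' ⟨_, h1⟩ : P') : Ω') = θ ⟨α x, hP (α x).2⟩ := by
  haveI := h.finite
  obtain ⟨j, hj, hje⟩ := h.symm
  have hP'S : P' ≤ S' := by subst hP'; rintro _ ⟨s, -, rfl⟩; exact h.mem_base s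
  have e : P = imageAlong j P' := by
    subst hP'
    refine le_antisymm (fun x hx => ?_) ?_
    · exact ⟨⟨θ ⟨x, hP hx⟩, h.mem_base _⟩, ⟨⟨x, hP hx⟩, hx, rfl⟩, hje _ _⟩
    · rintro _ ⟨y, ⟨s, hs, hsy⟩, rfl⟩
      rw [show y = ⟨θ s, h.mem_base s⟩ from Subtype.ext hsy.symm, hje]
      exact hs
  obtain ⟨α, hα0, he⟩ := exists_aut_push hj.2.1 hP'S hα e
  refine ⟨α, hα0, fun x h1 => ?_⟩
  obtain ⟨s, hs⟩ := h.range_eq.ge (hP'S (α' ⟨_, h1⟩).2)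
  have h2 := he ⟨_, h1⟩ (by rw [hje]; exact x.2)
  have hx : ∀ hh, (⟨j ⟨θ ⟨x, hP x.2⟩, hP'S h1⟩, hh⟩ : P) = x := fun hh => Subtype.ext (hje _ _)
  rw [hx, show (⟨((α' ⟨_, h1⟩ : P') : Ω'), hP'S (α' ⟨_, h1⟩).2⟩ : S') = ⟨θ s, h.mem_base s⟩ from
    Subtype.ext hs.symm, hje] at h2
  rw [← hs]
  exact congrArg θ (Subtype.ext h2.symm)

theorem imageAlong_centralizerIn [Finite S] (h : Iso θ F F') {T : Subgroup Ω} (hT : T ≤ S) :
    centralizerIn S' (imageAlong θ T) = imageAlong θ (centralizerIn S T) := by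
  ext y
  constructor
  · intro hy
    obtain ⟨s, rfl⟩ := h.range_eq.ge hy.1
    refine ⟨s, ⟨s.2, fun t ht => ?_⟩, rfl⟩
    have := hy.2 (θ ⟨t, hT ht⟩) ⟨⟨t, hT ht⟩, ht, rfl⟩
    rw [← map_mul, ← map_mul] at this
    exact congrArg Subtype.val (h.1 this)
  · rintro ⟨s, hs, rfl⟩
    refine ⟨h.mem_base s, ?_⟩
    rintro _ ⟨t, ht, rfl⟩
    rw [← map_mul, ← map_mul]
    exact congrArg θ (Subtype.ext (hs.2 t ht))

/-- Normal subsystems are carried to normal subsystems. -/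
theorem Iso.map_normal [Finite S] {p : ℕ} [Fact p.Prime] (hS : IsPGroup p S) (h : Iso θ F F')
    {T : Subgroup Ω} {E : FusionSystem T} (hE : E.IsNormalIn F p) (hT : T ≤ S) {T' : Subgroup Ω'}
    {E' : FusionSystem T'} (hI : Iso (θ.comp (Subgroup.inclusion hT)) E E') : E'.IsNormalIn F' p := by
  obtain ⟨⟨hEs, hFs, hsub, hTc, hinv, hfr⟩, hext⟩ := hE
  haveI := h.finite
  haveI : Finite T := FS.finite_sub hT
  haveI := hI.finite
  obtain rfl : T' = imageAlong θ T := by rw [← hI.range_eq, range_restrict]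
  have hT' : imageAlong θ T ≤ S' := by rintro _ ⟨s, -, rfl⟩; exact h.mem_base s
  have hpre : ∀ {P' : Subgroup Ω'}, P' ≤ imageAlong θ T →
      preimageAlong θ P' ≤ T ∧ imageAlong θ (preimageAlong θ P') = P' ∧
      preimageAlong (θ.comp (Subgroup.inclusion hT)) P' = preimageAlong θ P' := by
    intro P' hP'
    have h1 : preimageAlong θ P' ≤ T := fun x hx => by
      obtain ⟨hxS, hm⟩ := FS.mem_preimageAlong.1 hx
      exact (mem_imageAlong_iff h.1).1 (hP' hm)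
    refine ⟨h1, h.image_preimage (hP'.trans hT'), ?_⟩
    ext x
    simp only [FS.mem_preimageAlong]
    exact ⟨fun ⟨hx, hm⟩ => ⟨hT hx, hm⟩, fun ⟨hx, hm⟩ => ⟨h1 (FS.mem_preimageAlong.2 ⟨hx, hm⟩), hm⟩⟩
  refine ⟨⟨hI.isSaturated (FS.isPGroup_of_le hS hT) hEs, h.isSaturated hS hFs, ?_, ⟨hT', ?_⟩, ?_, ?_⟩, ?_⟩
  · intro P' φ' hφ'
    obtain ⟨-, hpi, hpe⟩ := hpre (FS.src_le hφ')
    obtain ⟨φ, hφ, he⟩ := pull hI.2 hφ' hpe.symm
    obtain ⟨φ'', hφ'', he''⟩ := push h.2.1 (hsub _ hφ) hpi.symm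
    refine FS.hom_congr hφ'' fun y => ?_
    obtain ⟨s, hs⟩ := h.range_eq.ge (hT' (FS.src_le hφ' y.2))
    have hsP : θ s ∈ P' := hs ▸ y.2
    rw [show y = ⟨θ s, hsP⟩ from Subtype.ext hs.symm]
    exact (he ⟨s, FS.mem_preimageAlong.2 ⟨s.2, hsP⟩⟩ hsP).trans (he'' ⟨s, _⟩ hsP).symm
  · intro R' hR' φ' hφ' y
    obtain ⟨hpT, -, -⟩ := hpre hR'
    obtain ⟨φ, hφ, he⟩ := pull h.2 hφ' rfl
    obtain ⟨s, hs⟩ := h.range_eq.ge (hT' (hR' y.2))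
    have hsP : θ s ∈ R' := hs ▸ y.2
    rw [show y = ⟨θ s, hsP⟩ from Subtype.ext hs.symm, he ⟨s, FS.mem_preimageAlong.2 ⟨s.2, hsP⟩⟩ hsP]
    exact ⟨⟨φ ⟨s, _⟩, FS.apply_mem hφ _⟩, hTc.2 _ hpT φ hφ _, rfl⟩
  · intro P' hP' φ' hφ' α' hα'
    obtain ⟨hpT, hpi, hpe⟩ := hpre hP'
    obtain ⟨φ, hφ, he⟩ := pull hI.2 hφ' hpe.symm
    obtain ⟨α, hα, hαe⟩ := h.exists_aut_pull hT rfl hα'
    obtain ⟨χ, hχ, hχe⟩ := hinv _ hpT φ hφ α hα
    set Pα := ((preimageAlong θ P').subgroupOf T).map (T.subtype.comp α.toMonoidHom)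
    have hPα : Pα ≤ T := FS.src_le hχ
    have e : (P'.subgroupOf (imageAlong θ T)).map ((imageAlong θ T).subtype.comp α'.toMonoidHom) =
        imageAlong (θ.comp (Subgroup.inclusion hT)) Pα := by
      rw [imageAlong_restrict hT hPα]
      refine le_antisymm ?_ ?_
      · rintro _ ⟨⟨_, s, hs, rfl⟩, hm, rfl⟩
        refine ⟨⟨α ⟨s, hs⟩, hT (α ⟨s, hs⟩).2⟩, ⟨⟨s, hs⟩, FS.mem_preimageAlong.2 ⟨s.2, hm⟩, rfl⟩, ?_⟩
        exact (hαe ⟨s, hs⟩ _).symm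
      · rintro _ ⟨s, ⟨t, ht, hts⟩, rfl⟩
        obtain ⟨_, hm⟩ := FS.mem_preimageAlong.1 ht
        refine ⟨⟨θ ⟨t, hT t.2⟩, ⟨⟨t, hT t.2⟩, t.2, rfl⟩⟩, hm, (hαe t _).trans ?_⟩
        exact congrArg θ (Subtype.ext hts)
    obtain ⟨χ', hχ', hχ'e⟩ := push hI.2.1 hχ e
    refine ⟨χ', hχ', ?_⟩
    rintro ⟨y, hy⟩ hφy hαy
    obtain ⟨s, hs⟩ := h.range_eq.ge (hT' (hP' hy))
    subst hs
    have hsp : (s : Ω) ∈ preimageAlong θ P' := FS.mem_preimageAlong.2 ⟨s.2, hy⟩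
    have hφs : φ ⟨s, hsp⟩ ∈ T := FS.apply_mem hφ _
    have hαs : ((α ⟨s, hpT hsp⟩ : T) : Ω) ∈ Pα := ⟨⟨s, hpT hsp⟩, hsp, rfl⟩
    have e1 : θ ⟨α ⟨s, hpT hsp⟩, hT (α ⟨s, hpT hsp⟩).2⟩ = ((α' ⟨θ s, hP' hy⟩ : imageAlong θ T) : Ω') :=
      (hαe ⟨s, hpT hsp⟩ _).symm
    have h2 := hχ'e ⟨_, hαs⟩ (e1 ▸ hαy)
    refine Eq.trans (congrArg χ' (Subtype.ext e1.symm)) (h2.trans ?_)
    refine Eq.trans (congrArg (θ.comp (Subgroup.inclusion hT)) (Subtype.ext (hχe ⟨s, hsp⟩ hφs hαs))) ?_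
    have h3 : φ' ⟨θ s, hy⟩ = θ ⟨φ ⟨s, hsp⟩, hT hφs⟩ := he ⟨s, hsp⟩ hy
    refine Eq.trans ?_ (congrArg (fun z : imageAlong θ T => ((α' z : imageAlong θ T) : Ω'))
      (Subtype.ext h3.symm : (⟨_, ⟨⟨φ ⟨s, hsp⟩, hT hφs⟩, hφs, rfl⟩⟩ : imageAlong θ T) = ⟨φ' ⟨θ s, hy⟩, hφy⟩))
    exact (hαe ⟨_, hφs⟩ _).symm
  · intro P' hP' φ' hφ'
    obtain ⟨hpT, hpi, hpe⟩ := hpre hP'
    obtain ⟨φ, hφ, he⟩ := pull h.2 hφ' rfl
    obtain ⟨α, hα, φ₀, hφ₀, hfe⟩ := hfr _ hpT φ hφ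
    obtain ⟨α', hα', hαe⟩ := exists_aut_push h.2.1 hT hα rfl
    obtain ⟨φ₀', hφ₀', he₀⟩ := push hI.2.1 hφ₀ (hpi.symm.trans (imageAlong_restrict hT hpT).symm)
    refine ⟨α', hα', φ₀', hφ₀', ?_⟩
    rintro ⟨y, hy⟩ hm
    obtain ⟨s, hs⟩ := h.range_eq.ge (hT' (hP' hy))
    subst hs
    have hsp : (s : Ω) ∈ preimageAlong θ P' := FS.mem_preimageAlong.2 ⟨s.2, hy⟩
    have h0 : φ₀ ⟨s, hsp⟩ ∈ T := FS.apply_mem hφ₀ _
    have h3 : φ₀' ⟨θ s, hy⟩ = θ ⟨φ₀ ⟨s, hsp⟩, hT h0⟩ := he₀ ⟨s, hsp⟩ hy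
    refine (he ⟨s, hsp⟩ hy).trans ((congrArg θ (Subtype.ext (hfe ⟨s, hsp⟩ h0) : (⟨φ ⟨s, hsp⟩, FS.apply_mem hφ _⟩ : S) = ⟨α ⟨φ₀ ⟨s, hsp⟩, h0⟩, hT (α ⟨φ₀ ⟨s, hsp⟩, h0⟩).2⟩)).trans ?_)
    refine ((hαe ⟨_, h0⟩ ⟨⟨φ₀ ⟨s, hsp⟩, hT h0⟩, h0, rfl⟩).symm).trans ?_
    exact congrArg (fun z : imageAlong θ T => ((α' z : imageAlong θ T) : Ω')) (Subtype.ext h3.symm)
  · intro α' hα'
    obtain ⟨α, hα, hαe⟩ := hI.exists_aut_pull le_rfl (imageAlong_restrict hT le_rfl).symm hα'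
    obtain ⟨β, hβ, hβe, hβc⟩ := hext α hα
    have hCS : T ⊔ centralizerIn S T ≤ S := sup_le hT (FS.centralizerIn_le T)
    have hC := imageAlong_centralizerIn h hT
    obtain ⟨β', hβ', hβ'e⟩ := exists_aut_push h.2.1 hCS hβ
      (P' := imageAlong θ T ⊔ centralizerIn S' (imageAlong θ T))
      (by rw [hC, imageAlong_sup hT (FS.centralizerIn_le T)])
    refine ⟨β', hβ', ?_, ?_⟩
    · rintro ⟨_, s, hs, rfl⟩
      refine (hβ'e (Subgroup.inclusion le_sup_left ⟨s, hs⟩) _).trans ?_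
      refine Eq.trans ?_ (hαe ⟨s, hs⟩ _).symm
      exact congrArg θ (Subtype.ext (hβe ⟨s, hs⟩))
    · rintro ⟨_, hcT⟩ hc
      obtain ⟨s, hs, rfl⟩ := hC.le hc
      have hsm : (s : Ω) ∈ T ⊔ centralizerIn S T := (le_sup_right : centralizerIn S T ≤ _) hs
      obtain ⟨hzT, hzC⟩ := hβc ⟨s, hsm⟩ hs
      have hz : θ s⁻¹ * θ ⟨β ⟨s, hsm⟩, hCS (β ⟨s, hsm⟩).2⟩ =
          θ ⟨(s : Ω)⁻¹ * β ⟨s, hsm⟩, hT hzT⟩ := by rw [← map_mul]; rfl
      show (θ s)⁻¹ * _ ∈ _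
      rw [hβ'e ⟨s, hsm⟩ _, ← map_inv, hz]
      refine ⟨⟨_, hzT, rfl⟩, ?_⟩
      rintro _ ⟨t, ht, rfl⟩
      rw [← map_mul, ← map_mul]
      exact congrArg θ (Subtype.ext (hzC t ht))

/-- Every normal subsystem has a normal copy. -/
theorem Iso.exists_normal [Finite S] {p : ℕ} [Fact p.Prime] (hS : IsPGroup p S) (h : Iso θ F F')
    {T : Subgroup Ω} {E : FusionSystem T} (hE : E.IsNormalIn F p) :
    ∃ (hT : T ≤ S) (T' : Subgroup Ω') (E' : FusionSystem T'),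
      Iso (θ.comp (Subgroup.inclusion hT)) E E' ∧ E'.IsNormalIn F' p := by
  have hT : T ≤ S := hE.1.2.2.2.1.1
  haveI : Finite T := FS.finite_sub hT
  obtain ⟨E', hE'⟩ := exists_iso E (θ := θ.comp (Subgroup.inclusion hT))
    (h.1.comp (Subgroup.inclusion_injective hT))
  exact ⟨hT, _, E', hE', h.map_normal hS hE hT hE'⟩

/-- Simplicity is transported. -/
theorem Iso.isSimple [Finite S] {p : ℕ} [Fact p.Prime] (hS : IsPGroup p S) (h : Iso θ F F')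
    (hF : F.IsSimple p) : F'.IsSimple p := by
  obtain ⟨hFs, hne, hsim⟩ := hF
  haveI := h.finite
  refine ⟨h.isSaturated hS hFs, fun hbot => hne ?_, fun T' E' hE' => ?_⟩
  · refine eq_bot_iff.2 fun x hx => ?_
    have h1 : θ ⟨x, hx⟩ = 1 := Subgroup.mem_bot.1 (hbot ▸ h.mem_base ⟨x, hx⟩)
    exact Subgroup.mem_bot.2 (congrArg Subtype.val (h.1 (h1.trans (map_one θ).symm)))
  obtain ⟨j, hj, hje⟩ := h.symm
  obtain ⟨hT', T, E, hIE, hEn⟩ := hj.exists_normal (h.isPGroup hS) hE'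
  rcases hsim T E hEn with rfl | ⟨rfl, hhom⟩
  · left
    refine eq_bot_iff.2 fun y hy => ?_
    have h1 : j ⟨y, hT' hy⟩ = 1 := Subgroup.mem_bot.1 (hIE.mem_base ⟨y, hy⟩)
    exact Subgroup.mem_bot.2 (congrArg Subtype.val (hj.1 (h1.trans (map_one j).symm)))
  · right
    obtain rfl : T' = S' := le_antisymm hT' fun y hy => by
      obtain ⟨z, hz⟩ := hIE.range_eq.ge (hj.mem_base ⟨y, hy⟩)
      have : (z : Ω') = y := congrArg Subtype.val (hj.1 hz)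
      exact this ▸ z.2
    refine ⟨rfl, fun P' => Set.Subset.antisymm (hE'.1.2.2.1 P') fun φ' hφ' => ?_⟩
    obtain ⟨φ, hφ, he⟩ := push hj.2.1 hφ' rfl
    rw [← hhom] at hφ
    have e : P' = preimageAlong (j.comp (Subgroup.inclusion hT')) (imageAlong j P') :=
      (preimage_image hj.1 (FS.src_le hφ')).symm
    obtain ⟨φ'', hφ'', he''⟩ := pull hIE.2 hφ e
    refine FS.hom_congr hφ'' fun y => ?_
    have hm : j ⟨y, FS.src_le hφ' y.2⟩ ∈ imageAlong j P' := ⟨_, y.2, rfl⟩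
    exact congrArg Subtype.val (hj.1 ((he y hm).symm.trans (he'' y hm)))

end Cfsg.Agent.Lib.FusionEssential.Transport
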