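import Cfsg.Agent.Lib.FusionEssential.StepChain
import Cfsg.Agent.Lib.FusionEssential.Transport
import Cfsg.Agent.Lib.FusionSystem.Group
import Cfsg.Agent.Lib.FusionSystem.NormalFacts

/-!
# Supersoluble fusion systems
-/

set_option autoImplicit false

namespace Cfsg.Agent.Lib.FusionEssential.Supersoluble

open Cfsg Cfsg.FusionSystem
open Cfsg.Agent.Lib
open Cfsg.Agent.Lib.FusionEssential.StepChain

variable {Ω : Type*} [Group Ω] {S : Subgroup Ω} {F : FusionSystem S} {p : ℕ}

/-- The chain condition of the statements. -/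
def IsSuper (F : FusionSystem S) : Prop :=
  ∃ (m : ℕ) (c : Fin (m + 1) → Subgroup Ω), c 0 = ⊥ ∧ c (Fin.last m) = S ∧
    (∀ i : Fin (m + 1), F.StronglyClosed (c i)) ∧
    ∀ i : Fin m, c i.castSucc ≤ c i.succ ∧ ∃ x ∈ S, c i.succ = c i.castSucc ⊔ Subgroup.zpowers x

/-- A subgroup of the base whose image is strongly closed. -/
def SC (F : FusionSystem S) (Q : Subgroup S) : Prop := F.StronglyClosed (Q.map S.subtype)

theorem sc_bot (F : FusionSystem S) : SC F ⊥ :=
  ⟨Subgroup.map_subtype_le _, fun R hR φ _ x => by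
    have hx : (x : Ω) ∈ (⊥ : Subgroup Ω) := Subgroup.map_bot S.subtype ▸ hR x.2
    rw [show x = 1 from Subtype.ext (Subgroup.mem_bot.1 hx), map_one]
    exact one_mem _⟩

theorem mem_of_sc {Q : Subgroup S} (hQ : SC F Q) {P : Subgroup Ω} {φ : P →* Ω} (hφ : φ ∈ F.Hom P)
    (x : P) (hx : (⟨x, FS.src_le hφ x.2⟩ : S) ∈ Q) : (⟨φ x, FS.apply_mem hφ x⟩ : S) ∈ Q := by
  have h := FS.stronglyClosed_apply_mem hQ hφ (x := x) ⟨_, hx, rfl⟩
  exact (Subgroup.mem_map_iff_mem S.subtype_injective).1 h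

theorem sc_normal {Q : Subgroup S} (hQ : SC F Q) : Q.Normal := ⟨fun n hn g =>
  mem_of_sc hQ (F.conj_mem le_rfl g.2) n hn⟩

theorem sc_aut {Q : Subgroup S} (hQ : SC F Q) {α : MulAut S} (hα : α ∈ F.autGroup S) :
    ∀ a ∈ Q, α a ∈ Q := by
  intro a ha
  obtain ⟨φ, hφ, -, hφe⟩ := FS.exists_hom_of_aut le_rfl hα
  have h := mem_of_sc hQ hφ a ha
  rwa [show (⟨φ a, FS.apply_mem hφ a⟩ : S) = α a from Subtype.ext (hφe a)] at h

theorem sc_pow (P Q M : Subgroup S) (n : ℕ) (hP : SC F P) (hQ : SC F Q) (hMQ : M ≤ Q)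
    (h : ∀ y ∈ Q, (y ∈ M ↔ y ^ n ∈ P)) : SC F M := by
  refine ⟨Subgroup.map_subtype_le _, fun R hR φ hφ x => ?_⟩
  obtain ⟨y, hy, hyx⟩ := hR x.2
  have hyS : (⟨x, FS.src_le hφ x.2⟩ : S) = y := Subtype.ext hyx.symm
  have h1 := mem_of_sc hQ hφ x (hyS ▸ hMQ hy)
  refine ⟨⟨φ x, FS.apply_mem hφ x⟩, (h _ h1).2 ?_, rfl⟩
  have h2 : (⟨((x ^ n : R) : Ω), FS.src_le hφ (x ^ n).2⟩ : S) = y ^ n := by
    rw [← hyS]; exact Subtype.ext (by simp)
  have h3 := mem_of_sc hP hφ (x ^ n) (h2 ▸ (h y (hMQ hy)).1 hy)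
  rwa [show (⟨φ (x ^ n), FS.apply_mem hφ _⟩ : S) = ⟨φ x, FS.apply_mem hφ x⟩ ^ n from
    Subtype.ext (by simp)] at h3

/-- A supersoluble system has a chain with steps of order dividing `p`. -/
theorem chain_of_super [Fact p.Prime] (hS : IsPGroup p S) (h : IsSuper F) :
    Chain p (SC F) (⊤ : Subgroup S) := by
  obtain ⟨m, c, h0, hl, hsc, hstep⟩ := h
  have hmap : ∀ i, ((c i).subgroupOf S).map S.subtype = c i := fun i =>
    Subgroup.map_subgroupOf_eq_of_le (hsc i).1
  have key : ∀ i : Fin (m + 1), Chain p (SC F) ((c i).subgroupOf S) := by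
    intro i
    induction i using Fin.induction with
    | zero => rw [h0, Subgroup.bot_subgroupOf]; exact .bot
    | succ i ih =>
      obtain ⟨-, x, hxS, hx⟩ := hstep i
      obtain ⟨k, hk⟩ := hS ⟨x, hxS⟩
      refine refine_step (sc_bot F) (fun P hP => sc_normal hP) sc_pow ih
        (by show F.StronglyClosed _; rw [hmap]; exact hsc _) k ⟨x, hxS⟩ ?_ (by rw [hk]; exact one_mem _)
      refine Subgroup.map_injective S.subtype_injective ?_
      rw [hmap, Subgroup.map_sup, hmap, MonoidHom.map_zpowers]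
      exact hx
  have h1 := key (Fin.last m)
  rwa [hl, Subgroup.subgroupOf_self] at h1

/-- The steps of a chain give a central series of strongly closed subgroups with cyclic steps. -/
theorem exists_series [Fact p.Prime] (hS : IsPGroup p S) {Q : Subgroup S} (h : Chain p (SC F) Q) :
    ∃ (m : ℕ) (c : Fin (m + 1) → Subgroup Ω), c 0 = ⊥ ∧ c (Fin.last m) = Q.map S.subtype ∧
      (∀ i : Fin (m + 1), F.StronglyClosed (c i)) ∧
      ∀ i : Fin m, (c i.castSucc ≤ c i.succ ∧ ∃ x ∈ S, c i.succ = c i.castSucc ⊔ Subgroup.zpowers x) ∧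
        ⁅S, c i.succ⁆ ≤ c i.castSucc := by
  induction h with
  | bot =>
    refine ⟨0, fun _ => ⊥, rfl, (Subgroup.map_bot _).symm, fun _ => ?_, fun i => i.elim0⟩
    have := sc_bot F
    rwa [SC, Subgroup.map_bot] at this
  | @step P Q x hP hQ hQe hx ih =>
    obtain ⟨m, c, h0, hl, hsc, hstep⟩ := ih
    refine ⟨m + 1, Fin.snoc c (Q.map S.subtype), ?_, Fin.snoc_last _ _, ?_, ?_⟩
    · rw [← Fin.castSucc_zero, Fin.snoc_castSucc, h0]
    · intro i
      induction i using Fin.lastCases with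
      | last => rw [Fin.snoc_last]; exact hQ
      | cast i => rw [Fin.snoc_castSucc]; exact hsc i
    · intro i
      induction i using Fin.lastCases with
      | last =>
        rw [Fin.succ_last, Fin.snoc_last, Fin.snoc_castSucc, hl]
        refine ⟨⟨Subgroup.map_mono (hQe ▸ le_sup_left), x, x.2, ?_⟩, ?_⟩
        · rw [hQe, Subgroup.map_sup, MonoidHom.map_zpowers]; rfl
        · refine Subgroup.commutator_le.2 fun g hg y hy => ?_
          obtain ⟨z, hz, rfl⟩ := hy
          exact ⟨_, conj_mem_step (sc_bot F) (fun P hP => sc_normal hP) hS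
            (inv_of_chain (sc_bot F) hP) hQ hQe hx ⟨g, hg⟩ z hz, rfl⟩
      | cast i =>
        rw [Fin.succ_castSucc, Fin.snoc_castSucc, Fin.snoc_castSucc]
        exact hstep i

theorem super_of_chain [Fact p.Prime] (hS : IsPGroup p S) (h : Chain p (SC F) (⊤ : Subgroup S)) :
    IsSuper F := by
  obtain ⟨m, c, h0, hl, hsc, hstep⟩ := exists_series hS h
  rw [← MonoidHom.range_eq_map, Subgroup.range_subtype] at hl
  exact ⟨m, c, h0, hl, hsc, fun i => (hstep i).1⟩

/-- In a supersoluble saturated system the base is normal. -/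
theorem isNormal_of_super [Finite S] [Fact p.Prime] (hS : IsPGroup p S) (hF : F.IsSaturated p)
    (h : IsSuper F) : F.IsNormal S := by
  obtain ⟨m, c, h0, hl, hsc, hstep⟩ := exists_series hS (chain_of_super hS h)
  rw [← MonoidHom.range_eq_map, Subgroup.range_subtype] at hl
  exact FS.isNormal_of_series hS hF c h0 hl (fun i => hsc _) fun i => (hstep i).2

/-- A `p'`-group of automorphisms of the base lies in the automiser of some saturated system. -/
theorem exists_aut_system [Finite S] [Fact p.Prime] (hS : IsPGroup p S) (H : Subgroup (MulAut S))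
    (hH : (Nat.card H).Coprime p) :
    ∃ F : FusionSystem S, F.IsSaturated p ∧ H ≤ F.autGroup S := by
  haveI : Finite (MulAut S) := Finite.of_injective (fun f : MulAut S => (f : S → S)) DFunLike.coe_injective
  let X := SemidirectProduct S H H.subtype
  haveI : Finite X := Finite.of_equiv (S × H) SemidirectProduct.equivProd.symm
  let inl : S →* X := SemidirectProduct.inl
  have hp : IsPGroup p inl.range := hS.of_surjective inl.rangeRestrict inl.rangeRestrict_surjective
  have hidx : ¬ p ∣ inl.range.index := by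
    rw [show inl.range = (SemidirectProduct.rightHom : X →* H).ker from
      SemidirectProduct.range_inl_eq_ker_rightHom, Subgroup.index_ker,
      MonoidHom.range_eq_top.2 SemidirectProduct.rightHom_surjective, Subgroup.card_top]
    exact (Fact.out : p.Prime).coprime_iff_not_dvd.1 hH.symm
  let T : Sylow p X := hp.toSylow hidx
  let e : S ≃* (T : Subgroup X) := MonoidHom.ofInjective SemidirectProduct.inl_injective
  let j : (T : Subgroup X) →* Ω := S.subtype.comp e.symm.toMonoidHom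
  have hj : Function.Injective j := S.subtype_injective.comp e.symm.injective
  obtain ⟨F, hI⟩ : ∃ F : FusionSystem S, Transport.Iso j (groupFusionSystem (T : Subgroup X)) F := by
    have hr : j.range = S := by
      rw [MonoidHom.range_comp, MonoidHom.range_eq_top.2 e.symm.surjective, ← MonoidHom.range_eq_map,
        Subgroup.range_subtype]
    obtain ⟨E, hE⟩ := Transport.exists_iso (groupFusionSystem (T : Subgroup X)) hj
    revert E
    rw [hr]
    exact fun E hE => ⟨E, hE⟩
  refine ⟨F, hI.isSaturated T.isPGroup' (FS.isSaturated_group T), fun h hh => ?_⟩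
  let g : X := SemidirectProduct.inr ⟨h, hh⟩
  have hg : ∀ s : S, g * inl s * g⁻¹ = inl (h s) := fun s => by
    have := (SemidirectProduct.inl_aut (φ := H.subtype) (⟨h, hh⟩ : H) s).symm
    rwa [map_inv] at this
  have hval : ∀ y ∈ (T : Subgroup X), g * y * g⁻¹ ∈ (T : Subgroup X) := by
    rintro _ ⟨s, rfl⟩
    exact ⟨h s, (hg s).symm⟩
  have hψ := FS.conjHom_mem_group le_rfl hval
  obtain ⟨φ, hφ, he⟩ := Transport.push hI.2.1 hψ
    (P' := S) (le_antisymm (fun x hx => (show x ∈ Cfsg.FusionSystem.imageAlong j (T : Subgroup X) from ⟨e ⟨x, hx⟩, Subgroup.mem_subgroupOf.2 (e ⟨x, hx⟩).2, by simp [j]⟩))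
      (by rintro _ ⟨y, -, rfl⟩; exact hI.mem_base y))
  refine FS.mem_autGroup_of_hom hφ fun s => ?_
  have hje : ∀ (t : S) (ht : inl t ∈ (T : Subgroup X)), j ⟨inl t, ht⟩ = t := fun t ht =>
    congrArg Subtype.val (e.symm_apply_apply t)
  have h1 := he ⟨inl s, ⟨s, rfl⟩⟩ (by rw [hje]; exact s.2)
  have h2 : (⟨conjHom (T : Subgroup X) g ⟨inl s, ⟨s, rfl⟩⟩, FS.apply_mem hψ _⟩ : (T : Subgroup X)) =
      ⟨inl (h s), ⟨h s, rfl⟩⟩ := Subtype.ext (hg s)
  rw [h2] at h1
  refine (hje (h s) ⟨h s, rfl⟩).symm.trans (h1.symm.trans (congrArg φ ?_))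
  exact Subtype.ext (hje s _)

/-- The necessary condition on the `p'`-subgroups of automorphisms. -/
theorem auts_of_super [Finite S] [Fact p.Prime] (hS : IsPGroup p S)
    (h : ∀ F : FusionSystem S, F.IsSaturated p → IsSuper F) (H : Subgroup (MulAut S))
    (hH : (Nat.card H).Coprime p) : IsMulCommutative H ∧ ∀ a ∈ H, a ^ (p - 1) = 1 := by
  obtain ⟨F, hF, hle⟩ := exists_aut_system hS H hH
  have hc := chain_of_super hS (h F hF)
  have hpres : ∀ a ∈ H, ∀ P, SC F P → ∀ x ∈ P, a x ∈ P := fun a ha P hP => sc_aut hP (hle ha)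
  have hpow : ∀ a ∈ H, a ^ Nat.card H = 1 := fun a ha =>
    congrArg Subtype.val (pow_card_eq_one' (x := (⟨a, ha⟩ : H)))
  refine ⟨⟨⟨fun a b => Subtype.ext (MulEquiv.ext fun y => ?_)⟩⟩, fun a ha => MulEquiv.ext fun y => ?_⟩
  · have h1 := comm_apply (sc_bot F) (fun P hP => sc_normal hP) hS (hpres a a.2) (hpres b b.2)
      (hpres _ (inv_mem a.2)) (hpres _ (inv_mem b.2)) hH
      (hpow _ (H.mul_mem (H.mul_mem (H.mul_mem a.2 b.2) (inv_mem a.2)) (inv_mem b.2))) hc
      (((b : MulAut S) * a) y) (Subgroup.mem_top _)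
    rw [← MulAut.mul_apply] at h1
    show ((a : MulAut S) * b) y = ((b : MulAut S) * a) y
    rw [← h1]
    group
  · exact pow_apply (sc_bot F) (fun P hP => sc_normal hP) hS (hpres a ha) (hpres _ (inv_mem ha)) hH
      (hpow a ha) hc y (Subgroup.mem_top _)

end Cfsg.Agent.Lib.FusionEssential.Supersoluble
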