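import Cfsg.Agent.Lib.FusionEssential.Transport

/-!
# Transport of centres, subnormal subsystems and components
-/

set_option autoImplicit false

namespace Cfsg.Agent.Lib.FusionEssential.Transport

open Cfsg Cfsg.FusionSystem
open Cfsg.Agent.Lib

variable {Ω : Type*} [Group Ω] {S : Subgroup Ω} {F : FusionSystem S}
variable {Ω' : Type*} [Group Ω'] {S' : Subgroup Ω'} {F' : FusionSystem S'} {θ : S →* Ω'}

theorem Iso.central_image [Finite S] {p : ℕ} [Fact p.Prime] (hS : IsPGroup p S) (h : Iso θ F F')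
    (hF : F.IsSaturated p) {Q : Subgroup Ω} (hQ : F.IsCentral Q) : F'.IsCentral (imageAlong θ Q) := by
  haveI := h.finite
  refine (FS.isCentral_iff (h.isPGroup hS) (h.isSaturated hS hF)).2
    ⟨by rintro _ ⟨s, -, rfl⟩; exact h.mem_base s, ?_⟩
  rintro _ ⟨s, hs, rfl⟩ y ⟨φ', hφ', rfl⟩
  obtain ⟨φ, hφ, he⟩ := pull h.2 hφ' rfl
  have hsm : (s : Ω) ∈ preimageAlong θ (Subgroup.zpowers (θ s)) :=
    FS.mem_preimageAlong.2 ⟨s.2, Subgroup.mem_zpowers _⟩
  obtain ⟨τ, hτ, hτe⟩ := FS.exists_restrict hφ (Subgroup.zpowers_le.2 hsm)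
  refine (he ⟨s, hsm⟩ (Subgroup.mem_zpowers _)).trans (congrArg θ (Subtype.ext ?_))
  exact ((FS.isCentral_iff hS hF).1 hQ).2 _ hs _ ⟨τ, hτ, hτe ⟨s, Subgroup.mem_zpowers _⟩⟩

theorem Iso.center_eq [Finite S] {p : ℕ} [Fact p.Prime] (hS : IsPGroup p S) (h : Iso θ F F')
    (hF : F.IsSaturated p) : F'.center = imageAlong θ F.center := by
  haveI := h.finite
  refine le_antisymm ?_ (le_sSup (h.central_image hS hF (FusionAlperin.Join.isCentral_center F)))
  intro y hy
  obtain ⟨j, hj, hje⟩ := h.symm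
  have hc := hj.central_image (h.isPGroup hS) (h.isSaturated hS hF) (FusionAlperin.Join.isCentral_center F')
  obtain ⟨s, rfl⟩ := h.range_eq.ge ((FusionAlperin.Join.isCentral_center F').1 hy)
  exact ⟨s, (le_sSup hc : imageAlong j F'.center ≤ F.center) ⟨⟨θ s, h.mem_base s⟩, hy, hje _ _⟩, rfl⟩

theorem stronglyClosed_center [Finite S] {p : ℕ} [Fact p.Prime] (hS : IsPGroup p S)
    (hF : F.IsSaturated p) : F.StronglyClosed F.center := by
  have hc := (FS.isCentral_iff hS hF).1 (FusionAlperin.Join.isCentral_center F)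
  refine ⟨hc.1, fun R hR φ hφ x => ?_⟩
  obtain ⟨τ, hτ, hτe⟩ := FS.exists_restrict hφ (Subgroup.zpowers_le.2 x.2)
  rw [← hτe ⟨(x : Ω), Subgroup.mem_zpowers _⟩, hc.2 _ (hR x.2) _ ⟨τ, hτ, rfl⟩]
  exact hR x.2

theorem Iso.quasisimple [Finite S] {p : ℕ} [Fact p.Prime] (hS : IsPGroup p S) (h : Iso θ F F')
    (hQ : F.Quasisimple p) : F'.Quasisimple p := by
  obtain ⟨hF, hhyp, hsim⟩ := hQ
  haveI := h.finite
  refine ⟨h.isSaturated hS hF, ?_, fun E' hE' => ?_⟩
  · rw [FusionP3.FactorHyp.hyperfocal_factor hS hF (FS.stronglyClosed_bot F) h.isFactorSystem, hhyp,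
      Subgroup.subgroupOf_self, ← MonoidHom.range_eq_map, h.range_eq]
  have hZ := stronglyClosed_center hS hF
  obtain ⟨D, hD⟩ := FS.exists_factorSystem (S' := ⊤) hZ (QuotientGroup.mk' (F.center.subgroupOf S))
    (fun s => (QuotientGroup.eq_one_iff s).trans Subgroup.mem_subgroupOf)
    (MonoidHom.range_eq_top.2 (QuotientGroup.mk'_surjective _))
  have hDsim := hsim D hD
  have h1 := FS.factor_isSurjectiveMorphism hS hF hZ hD
  have h2 := Iso.comp h.2 (FS.factor_isSurjectiveMorphism (h.isPGroup hS) (h.isSaturated hS hF)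
    (stronglyClosed_center (h.isPGroup hS) (h.isSaturated hS hF)) hE')
  let e : S →* S' := θ.codRestrict S' h.2.1.1
  have hle : F.center.subgroupOf S ≤ (F'.center.subgroupOf S').comap e := fun s hs => by
    show θ s ∈ F'.center
    rw [h.center_eq hS hF]
    exact ⟨s, hs, rfl⟩
  let g : (⊤ : Subgroup (S ⧸ F.center.subgroupOf S)) →* S' ⧸ F'.center.subgroupOf S' :=
    (QuotientGroup.map _ _ e hle).comp (Subgroup.subtype ⊤)
  have hg : Function.Injective g := by
    refine (injective_iff_map_eq_one g).2 ?_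
    rintro ⟨x, hx⟩ h0
    obtain ⟨s, rfl⟩ := QuotientGroup.mk'_surjective _ x
    have hs : θ s ∈ F'.center := (QuotientGroup.eq_one_iff (e s)).1 h0
    rw [h.center_eq hS hF, mem_imageAlong_iff h.1] at hs
    exact Subtype.ext ((QuotientGroup.eq_one_iff _).2 hs)
  have hiso : Iso g D E' := Iso.of_comp hg h1 h2 fun s => rfl
  haveI : Finite (⊤ : Subgroup (S ⧸ F.center.subgroupOf S)) := inferInstance
  exact hiso.isSimple ((hS.to_quotient _).to_subgroup ⊤) hDsim

theorem Iso.exists_subnormal {p : ℕ} {S T : Subgroup Ω} {C : FusionSystem T}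
    {F : FusionSystem S} (hC : C.IsSubnormalIn F p) :
    ∀ [Fact p.Prime] [Finite S], IsPGroup p S → ∀ {S' : Subgroup Ω'} {F' : FusionSystem S'} {θ : S →* Ω'}, Iso θ F F' →
      ∃ (hT : T ≤ S) (T' : Subgroup Ω') (C' : FusionSystem T'),
        Iso (θ.comp (Subgroup.inclusion hT)) C C' ∧ C'.IsSubnormalIn F' p := by
  induction hC with
  | refl F p =>
    intro _ _ _ S' F' θ h
    exact ⟨le_rfl, S', F', h, .refl F' p⟩
  | step hED hDF ih =>
    intro _ _ hS S' F' θ h
    obtain ⟨hU, U', D', hID, hDn⟩ := h.exists_normal hS hDF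
    haveI := FS.finite_sub hU
    obtain ⟨hT, T', E', hIE, hEs⟩ := ih (FS.isPGroup_of_le hS hU) hID
    exact ⟨hT.trans hU, T', E', hIE, .step hEs hDn⟩

/-- Components are carried to components. -/
theorem Iso.exists_component [Finite S] {p : ℕ} [Fact p.Prime] (hS : IsPGroup p S) (h : Iso θ F F')
    {T : Subgroup Ω} {C : FusionSystem T} (hC : C.IsComponentIn F p) :
    ∃ (hT : T ≤ S) (T' : Subgroup Ω') (C' : FusionSystem T'),
      Iso (θ.comp (Subgroup.inclusion hT)) C C' ∧ C'.IsComponentIn F' p := by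
  obtain ⟨hT, T', C', hI, hCs⟩ := Iso.exists_subnormal hC.1 hS h
  haveI := FS.finite_sub hT
  exact ⟨hT, T', C', hI, hCs, hI.quasisimple (FS.isPGroup_of_le hS hT) hC.2⟩

end Cfsg.Agent.Lib.FusionEssential.Transport
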