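import Cfsg.Agent.Lib.FusionEssential.FreeFixedPoint
import Cfsg.Agent.Lib.FusionSystem.Basic
import Mathlib.GroupTheory.FreeGroup.NielsenSchreier
import Mathlib.GroupTheory.SemidirectProduct
import Mathlib.GroupTheory.Perm.Basic

/-!
Realization of an arbitrary fusion system by a virtually free group: the fundamental group of a graph of finite
groups, built inside a semidirect product of a free group with the symmetric group on `S`.
-/

set_option autoImplicit false
set_option linter.style.haveILetI false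

namespace Cfsg.Agent.Lib.FusionEssential.TreeRealization

open Cfsg Cfsg.FusionSystem Cfsg.Agent.Lib.FS
open Cfsg.Agent.Lib.FusionEssential.FreeFixedPoint

universe u

variable {Ω : Type u} [Group Ω] {S : Subgroup Ω}

/-- The permutation group on `S`. -/
abbrev H (S : Subgroup Ω) := Equiv.Perm ↥S

/-- Left translations. -/
def L (S : Subgroup Ω) : ↥S →* H S where
  toFun s := Equiv.mulLeft s
  map_one' := Equiv.ext fun x => one_mul x
  map_mul' a b := Equiv.ext fun x => mul_assoc a b x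

theorem L_injective : Function.Injective (L S) := fun a b h => by
  have := congrArg (fun e : H S => e 1) h
  simpa [L] using this

/-- The vertices. -/
abbrev V (S : Subgroup Ω) := H S ⧸ (L S).range

/-- The base vertex. -/
abbrev v₀ (S : Subgroup Ω) : V S := ((1 : H S) : V S)

theorem exists_twist [Finite S] {P : Subgroup Ω} (hP : P ≤ S) (φ : P →* Ω) (hφ : ∀ x, φ x ∈ S)
    (hinj : Function.Injective φ) :
    ∃ h : H S, ∀ p : P, h * L S ⟨p, hP p.2⟩ = L S ⟨φ p, hφ p⟩ * h := by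
  classical
  set P₁ : Subgroup S := P.subgroupOf S
  let φ₁ : P →* S := φ.codRestrict S hφ
  set P₂ : Subgroup S := φ₁.range
  have hcard : Nat.card P₁ = Nat.card P₂ := by
    have hinj₁ : Function.Injective φ₁ := fun a b h => hinj (congrArg Subtype.val h)
    exact (Nat.card_congr (Subgroup.subgroupOfEquivOfLe hP).toEquiv).trans
      (Nat.card_congr (MonoidHom.ofInjective hinj₁).toEquiv)
  have hq : Nat.card (S ⧸ P₁) = Nat.card (S ⧸ P₂) := by
    have h1 := P₁.card_eq_card_quotient_mul_card_subgroup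
    have h2 := P₂.card_eq_card_quotient_mul_card_subgroup
    rw [hcard] at h1
    exact Nat.eq_of_mul_eq_mul_right Nat.card_pos (h1.symm.trans h2)
  let c : (S ⧸ P₁) ≃ (S ⧸ P₂) := (Finite.card_eq.1 hq).some
  have hmem : ∀ x : S, ((Quotient.out ((x⁻¹ : S) : S ⧸ P₁))⁻¹ * x⁻¹ : S) ∈ P₁ := fun x =>
    QuotientGroup.eq.1 (QuotientGroup.out_eq' _)
  let π : S → P := fun x => ⟨_, hmem x⟩
  let h : S → S := fun x => ((Quotient.out (c ((x⁻¹ : S) : S ⧸ P₁))) * φ₁ (π x))⁻¹
  have hinjh : Function.Injective h := by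
    intro x y hxy
    have h1 := inv_injective hxy
    have h2 : c ((x⁻¹ : S) : S ⧸ P₁) = c ((y⁻¹ : S) : S ⧸ P₁) := by
      have e := congrArg (fun z : S => (z : S ⧸ P₂)) h1
      simp only [QuotientGroup.mk_mul_of_mem _ (show φ₁ (π x) ∈ P₂ from ⟨_, rfl⟩),
        QuotientGroup.mk_mul_of_mem _ (show φ₁ (π y) ∈ P₂ from ⟨_, rfl⟩), QuotientGroup.out_eq'] at e
      exact e
    rw [h2] at h1
    have h3 : π x = π y := hinj (congrArg Subtype.val (mul_left_cancel h1))
    have h4 : (Quotient.out ((x⁻¹ : S) : S ⧸ P₁))⁻¹ * x⁻¹ = (Quotient.out ((y⁻¹ : S) : S ⧸ P₁))⁻¹ * y⁻¹ :=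
      Subtype.ext (congrArg (fun z : P => (z : Ω)) h3)
    rw [c.injective h2] at h4
    exact inv_injective (mul_left_cancel h4)
  refine ⟨Equiv.ofBijective h (Finite.injective_iff_bijective.1 hinjh), fun p => Equiv.ext fun x => ?_⟩
  show h (⟨p, hP p.2⟩ * x) = ⟨φ p, hφ p⟩ * h x
  have e : (((⟨p, hP p.2⟩ * x : S)⁻¹ : S) : S ⧸ P₁) = ((x⁻¹ : S) : S ⧸ P₁) := by
    rw [mul_inv_rev, QuotientGroup.mk_mul_of_mem]
    exact P₁.inv_mem (Subgroup.mem_subgroupOf.2 p.2)
  have eπ : π (⟨p, hP p.2⟩ * x) = π x * p⁻¹ := by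
    apply Subtype.ext
    show (((Quotient.out (((⟨p, hP p.2⟩ * x : S)⁻¹ : S) : S ⧸ P₁))⁻¹ * (⟨p, hP p.2⟩ * x)⁻¹ : S) : Ω) = _
    rw [e]
    simp [π, mul_assoc]
  simp only [h, eπ, e]
  rw [map_mul, map_inv, mul_inv_rev, mul_inv_rev, mul_inv_rev, inv_inv, mul_assoc]
  rfl

/-- A map of the system with the subgroup it is defined on. -/
def T (F : FusionSystem S) := {x : Σ P : Subgroup Ω, P →* Ω // x.2 ∈ F.Hom x.1}

variable [Finite S] {F : FusionSystem S}

/-- The stable letter in `Sym(S)`. -/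
noncomputable def ht (t : T F) : H S :=
  (exists_twist (src_le t.2) t.1.2 (apply_mem t.2) (F.injective_of_mem t.2)).choose

theorem ht_spec (t : T F) (p : t.1.1) :
    ht t * L S ⟨p, src_le t.2 p.2⟩ = L S ⟨t.1.2 p, apply_mem t.2 p⟩ * ht t :=
  (exists_twist (src_le t.2) t.1.2 (apply_mem t.2) (F.injective_of_mem t.2)).choose_spec p

/-- The edge group. -/
def Qt (t : T F) : Subgroup (H S) := ((L S).comp (t.1.2.codRestrict S (apply_mem t.2))).range

/-- The edges. -/
abbrev E (F : FusionSystem S) := Σ t : T F, H S ⧸ Qt t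

noncomputable instance : DecidableEq (E F) := Classical.decEq _

/-- The action on edges. -/
def πE (F : FusionSystem S) : H S →* Equiv.Perm (E F) where
  toFun h := Equiv.sigmaCongrRight fun _ => MulAction.toPerm h
  map_one' := Equiv.ext fun ⟨_, q⟩ => congrArg (Sigma.mk _) (one_smul (H S) q)
  map_mul' a b := Equiv.ext fun ⟨_, q⟩ => congrArg (Sigma.mk _) (mul_smul a b q)

/-- Source of an edge. -/
noncomputable def src : E F → V S := fun e =>
  Quotient.liftOn' e.2 (fun a => (a : V S)) fun a b hab => by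
    obtain ⟨x, hx⟩ := QuotientGroup.leftRel_apply.1 hab
    exact QuotientGroup.eq.2 ⟨_, hx⟩

/-- Target of an edge. -/
noncomputable def tgt : E F → V S := fun e =>
  Quotient.liftOn' e.2 (fun a => ((a * ht e.1 : H S) : V S)) fun a b hab => by
    obtain ⟨x, hx⟩ := QuotientGroup.leftRel_apply.1 hab
    refine QuotientGroup.eq.2 ⟨⟨x, src_le e.1.2 x.2⟩, ?_⟩
    rw [MonoidHom.comp_apply] at hx
    have h1 : L S ⟨e.1.1.2 x, apply_mem e.1.2 x⟩ = a⁻¹ * b := hx
    rw [mul_inv_rev, show (ht e.1)⁻¹ * a⁻¹ * (b * ht e.1) = (ht e.1)⁻¹ * ((a⁻¹ * b) * ht e.1) by group,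
      ← h1, ← ht_spec, inv_mul_cancel_left]

theorem src_mk (t : T F) (a : H S) : src (⟨t, (a : H S ⧸ Qt t)⟩ : E F) = (a : V S) := rfl
theorem tgt_mk (t : T F) (a : H S) : tgt (⟨t, (a : H S ⧸ Qt t)⟩ : E F) = ((a * ht t : H S) : V S) := rfl

theorem src_act (h : H S) (e : E F) : src (πE F h e) = h • src e := by
  obtain ⟨t, q⟩ := e
  induction q using QuotientGroup.induction_on with
  | H a => rfl

theorem tgt_act (h : H S) (e : E F) : tgt (πE F h e) = h • tgt e := by
  obtain ⟨t, q⟩ := e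
  induction q using QuotientGroup.induction_on with
  | H a =>
    show ((h * a * ht t : H S) : V S) = ((h * (a * ht t) : H S) : V S)
    rw [mul_assoc]

/-- Start of a letter. -/
noncomputable def lsrc (x : E F × Bool) : V S := if x.2 then src x.1 else tgt x.1
/-- End of a letter. -/
noncomputable def ltgt (x : E F × Bool) : V S := if x.2 then tgt x.1 else src x.1

/-- Paths. -/
def IsPath : V S → List (E F × Bool) → V S → Prop
  | a, [], b => a = b
  | a, x :: l, b => lsrc x = a ∧ IsPath (ltgt x) l b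

theorem isPath_append {a b : V S} {l m : List (E F × Bool)} :
    IsPath a (l ++ m) b ↔ ∃ c, IsPath a l c ∧ IsPath c m b := by
  induction l generalizing a with
  | nil => exact ⟨fun h => ⟨a, rfl, h⟩, fun ⟨_, hc, h⟩ => hc ▸ h⟩
  | cons x l ih =>
    simp only [List.cons_append, IsPath, ih]
    exact ⟨fun ⟨h1, c, h2, h3⟩ => ⟨c, ⟨h1, h2⟩, h3⟩, fun ⟨c, ⟨h1, h2⟩, h3⟩ => ⟨h1, c, h2, h3⟩⟩

theorem isPath_unique {a b c : V S} {l : List (E F × Bool)} (h : IsPath a l b) (h' : IsPath a l c) : b = c := by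
  induction l generalizing a with
  | nil => exact h.symm.trans h'
  | cons x l ih => exact ih h.2 h'.2

theorem isPath_invRev {a b : V S} {l : List (E F × Bool)} (h : IsPath a l b) :
    IsPath b (FreeGroup.invRev l) a := by
  induction l generalizing a with
  | nil => exact h.symm
  | cons x l ih =>
    rw [show FreeGroup.invRev (x :: l) = FreeGroup.invRev l ++ [(x.1, !x.2)] by simp [FreeGroup.invRev]]
    refine isPath_append.2 ⟨ltgt x, ih h.2, ?_, ?_⟩
    · obtain ⟨e, _ | _⟩ := x <;> rfl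
    · refine Eq.trans ?_ h.1
      obtain ⟨e, _ | _⟩ := x <;> rfl

theorem isPath_reduce {a b : V S} {l : List (E F × Bool)} (h : IsPath a l b) :
    IsPath a (FreeGroup.reduce l) b := by
  suffices key : ∀ m, FreeGroup.Red l m → IsPath a m b from key _ FreeGroup.reduce.red
  intro m hred
  induction hred with
  | refl => exact h
  | tail _ hstep ih =>
    cases hstep with
    | @not L₁ L₂ x c =>
      obtain ⟨v, h1, h2⟩ := isPath_append.1 ih
      refine isPath_append.2 ⟨v, h1, ?_⟩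
      obtain ⟨e1, e2, h3⟩ := h2
      rw [← e1]
      cases c <;> exact h3

/-- The letters moved by an element of `Sym(S)`. -/
def act (h : H S) (x : E F × Bool) : E F × Bool := (πE F h x.1, x.2)

theorem isPath_act (h : H S) {a b : V S} {l : List (E F × Bool)} (hl : IsPath a l b) :
    IsPath (h • a) (l.map (act h)) (h • b) := by
  induction l generalizing a with
  | nil => exact congrArg (h • ·) hl
  | cons x l ih =>
    have e : lsrc (act h x) = h • lsrc x ∧ ltgt (act h x) = h • ltgt x := by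
      obtain ⟨e, _ | _⟩ := x
      · exact ⟨tgt_act h e, src_act h e⟩
      · exact ⟨src_act h e, tgt_act h e⟩
    refine ⟨e.1.trans (congrArg (h • ·) hl.1), ?_⟩
    rw [e.2]
    exact ih hl.2

/-- The action on the free group on the edges. -/
def aut (F : FusionSystem S) : H S →* MulAut (FreeGroup (E F)) where
  toFun h := FreeGroup.freeGroupCongr (πE F h)
  map_one' := MulEquiv.ext fun x => by
    show FreeGroup.map (πE F 1) x = x
    rw [map_one, Equiv.Perm.coe_one, FreeGroup.map.id]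
  map_mul' a b := MulEquiv.ext fun x => by
    show FreeGroup.map (πE F (a * b)) x = FreeGroup.map (πE F a) (FreeGroup.map (πE F b) x)
    rw [map_mul, FreeGroup.map.comp]
    rfl

theorem aut_apply (h : H S) (x : FreeGroup (E F)) : aut F h x = FreeGroup.map (πE F h) x := rfl

theorem toWord_aut (h : H S) (x : FreeGroup (E F)) : (aut F h x).toWord = x.toWord.map (act h) :=
  toWord_map_equiv (πE F h) x

/-- The semidirect product. -/
abbrev A (F : FusionSystem S) := FreeGroup (E F) ⋊[aut F] H S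

theorem isPath_mul {a b c : V S} {x y : FreeGroup (E F)} (hx : IsPath a x.toWord b) (hy : IsPath b y.toWord c) :
    IsPath a (x * y).toWord c := by
  rw [FreeGroup.toWord_mul]
  exact isPath_reduce (isPath_append.2 ⟨b, hx, hy⟩)

/-- The realizing group: the pairs whose word is a path from the base vertex to its translate. -/
def G (F : FusionSystem S) : Subgroup (A F) where
  carrier := {g | IsPath (v₀ S) g.left.toWord (g.right • v₀ S)}
  one_mem' := by
    show IsPath _ (1 : FreeGroup (E F)).toWord _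
    rw [FreeGroup.toWord_one, SemidirectProduct.one_right, one_smul]
    rfl
  mul_mem' := by
    intro g g' hg hg'
    show IsPath _ (g * g').left.toWord ((g * g').right • v₀ S)
    rw [SemidirectProduct.mul_left, SemidirectProduct.mul_right, mul_smul]
    refine isPath_mul hg ?_
    rw [toWord_aut]
    exact isPath_act g.right hg'
  inv_mem' := by
    intro g hg
    show IsPath _ (g⁻¹).left.toWord ((g⁻¹).right • v₀ S)
    rw [SemidirectProduct.inv_left, SemidirectProduct.inv_right, toWord_aut, FreeGroup.toWord_inv]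
    have := isPath_act g.right⁻¹ (isPath_invRev hg)
    rwa [inv_smul_smul] at this

theorem L_smul (s : S) : L S s • v₀ S = v₀ S := by
  refine QuotientGroup.eq.2 ?_
  simp

/-- The embedding of `S`. -/
def ι (F : FusionSystem S) : S →* G F :=
  ((SemidirectProduct.inr (φ := aut F)).comp (L S)).codRestrict _ fun s => by
    show IsPath _ (1 : FreeGroup (E F)).toWord (L S s • v₀ S)
    rw [FreeGroup.toWord_one, L_smul]
    rfl

theorem ι_injective : Function.Injective (ι F) := fun a b h =>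
  L_injective (congrArg (fun g : G F => (g : A F).right) h)

theorem exists_conj_of_mem {P : Subgroup Ω} {φ : P →* Ω} (hφ : φ ∈ F.Hom P) :
    ∃ g : G F, ∀ x : P, ι F ⟨φ x, apply_mem hφ x⟩ = g * ι F ⟨x, src_le hφ x.2⟩ * g⁻¹ := by
  let t : T F := ⟨⟨P, φ⟩, hφ⟩
  let g : A F := ⟨FreeGroup.of ⟨t, ((1 : H S) : H S ⧸ Qt t)⟩, ht t⟩
  have hg : g ∈ G F := by
    show IsPath _ (FreeGroup.of _).toWord _
    rw [FreeGroup.toWord_of]
    exact ⟨rfl, show ((1 * ht t : H S) : V S) = ((ht t * 1 : H S) : V S) by rw [one_mul, mul_one]⟩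
  refine ⟨⟨g, hg⟩, fun x => ?_⟩
  rw [eq_mul_inv_iff_mul_eq]
  apply Subtype.ext
  apply SemidirectProduct.ext
  · show 1 * aut F (L S ⟨φ x, apply_mem hφ x⟩) g.left = g.left * aut F (ht t) 1
    rw [one_mul, map_one, mul_one, aut_apply, FreeGroup.map.of]
    refine congrArg FreeGroup.of (congrArg (Sigma.mk t) ?_)
    refine QuotientGroup.eq.2 ?_
    refine ⟨x⁻¹, ?_⟩
    show L S _ = (L S ⟨φ x, apply_mem hφ x⟩ * 1)⁻¹ * 1
    rw [mul_one, mul_one, ← map_inv]
    exact congrArg (L S) (Subtype.ext (by simp [t]))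
  · show L S ⟨φ x, apply_mem hφ x⟩ * ht t = ht t * L S ⟨x, src_le hφ x.2⟩
    exact (ht_spec t x).symm

/-- A vertex reached by a map of the system on `Q`. -/
def Good (F : FusionSystem S) (Q : Subgroup Ω) (hQ : Q ≤ S) (v : V S) : Prop :=
  ∃ (g : H S) (α : Q →* Ω) (hα : α ∈ F.Hom Q), (g : V S) = v ∧
    ∀ q : Q, L S ⟨α q, apply_mem hα q⟩ = g⁻¹ * L S ⟨q, hQ q.2⟩ * g

theorem Good.rep {Q : Subgroup Ω} {hQ : Q ≤ S} {g : H S} (h : Good F Q hQ (g : V S)) :
    ∃ (α : Q →* Ω) (hα : α ∈ F.Hom Q), ∀ q : Q, L S ⟨α q, apply_mem hα q⟩ = g⁻¹ * L S ⟨q, hQ q.2⟩ * g := by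
  obtain ⟨g', α, hα, hg, he⟩ := h
  obtain ⟨s, hs⟩ := QuotientGroup.eq.1 hg
  have hs' : g = g' * L S s := by rw [hs]; group
  obtain ⟨β, hβ, eβ⟩ := exists_comp hα
    (F.conj_mem le_rfl (inv_mem s.2)) fun q => apply_mem hα q
  refine ⟨β, hβ, fun q => ?_⟩
  have e : (⟨β q, apply_mem hβ q⟩ : S) = s⁻¹ * ⟨α q, apply_mem hα q⟩ * s := by
    apply Subtype.ext
    show β q = (s : Ω)⁻¹ * α q * s
    rw [eβ, conjHom_apply, inv_inv]
  rw [e, map_mul, map_mul, map_inv, he, hs']
  group

theorem good_step {Q : Subgroup Ω} {hQ : Q ≤ S} {x : E F × Bool}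
    (hfix : ∀ q : Q, act (L S ⟨q, hQ q.2⟩) x = x) (h : Good F Q hQ (lsrc x)) : Good F Q hQ (ltgt x) := by
  obtain ⟨⟨t, c⟩, b⟩ := x
  induction c using QuotientGroup.induction_on with
  | H a =>
  have hmem : ∀ q : Q, ∃ y : t.1.1, L S ⟨t.1.2 y, apply_mem t.2 y⟩ = a⁻¹ * L S ⟨q, hQ q.2⟩ * a := by
    intro q
    have h1 : (⟨t, ((L S ⟨q, hQ q.2⟩ * a : H S) : H S ⧸ Qt t)⟩ : E F) = ⟨t, (a : H S ⧸ Qt t)⟩ :=
      congrArg Prod.fst (hfix q)
    have h2 := eq_of_heq (Sigma.mk.inj_iff.1 h1).2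
    obtain ⟨y, hy⟩ := QuotientGroup.eq.1 h2.symm
    exact ⟨y, hy.trans (by group)⟩
  cases b
  · -- backwards
    obtain ⟨α, hα, he⟩ := Good.rep (g := a * ht t) h
    have hP : ∀ q : Q, α q ∈ t.1.1 := by
      intro q
      obtain ⟨y, hy⟩ := hmem q
      have h1 : L S ⟨α q, apply_mem hα q⟩ = L S ⟨y, src_le t.2 y.2⟩ := by
        rw [he, show (a * ht t)⁻¹ * L S ⟨q, hQ q.2⟩ * (a * ht t)
          = (ht t)⁻¹ * ((a⁻¹ * L S ⟨q, hQ q.2⟩ * a) * ht t) by group, ← hy, ← ht_spec, inv_mul_cancel_left]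
      exact (show α q = (y : Ω) from congrArg Subtype.val (L_injective h1)) ▸ y.2
    obtain ⟨β, hβ, eβ⟩ := exists_comp hα t.2 hP
    refine ⟨a, β, hβ, rfl, fun q => ?_⟩
    have h1 := ht_spec t ⟨α q, hP q⟩
    have h2 : (⟨β q, apply_mem hβ q⟩ : S) = ⟨t.1.2 ⟨α q, hP q⟩, apply_mem t.2 _⟩ := Subtype.ext (eβ q)
    rw [h2]
    rw [show (⟨((⟨α q, hP q⟩ : t.1.1) : Ω), src_le t.2 (hP q)⟩ : S) = ⟨α q, apply_mem hα q⟩ from rfl, he] at h1
    rw [← mul_left_inj (ht t), ← h1]
    group
  · -- forwards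
    obtain ⟨α, hα, he⟩ := Good.rep (g := a) h
    have hP : ∀ q : Q, α q ∈ t.1.2.range := by
      intro q
      obtain ⟨y, hy⟩ := hmem q
      exact ⟨y, (congrArg Subtype.val (L_injective ((he q).trans hy.symm))).symm⟩
    obtain ⟨θ, hθ, hθr, -, hθe⟩ := exists_inv t.2 rfl
    obtain ⟨β, hβ, eβ⟩ := exists_comp hα hθ hP
    refine ⟨a * ht t, β, hβ, rfl, fun q => ?_⟩
    have hy : θ ⟨α q, hP q⟩ ∈ t.1.1 := hθr.le ⟨_, rfl⟩
    have h1 := ht_spec t ⟨_, hy⟩
    have h3 : (⟨t.1.2 ⟨_, hy⟩, apply_mem t.2 _⟩ : S) = ⟨α q, apply_mem hα q⟩ := Subtype.ext (hθe ⟨α q, hP q⟩ hy)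
    rw [h3, he] at h1
    have h2 : (⟨β q, apply_mem hβ q⟩ : S) = ⟨θ ⟨α q, hP q⟩, src_le t.2 hy⟩ := Subtype.ext (eβ q)
    rw [h2, ← mul_right_inj (ht t)]
    refine h1.trans ?_
    group

theorem good_path {Q : Subgroup Ω} {hQ : Q ≤ S} {l : List (E F × Bool)} {v w : V S} (hl : IsPath v l w)
    (hfix : ∀ q : Q, l.map (act (L S ⟨q, hQ q.2⟩)) = l) (h : Good F Q hQ v) : Good F Q hQ w := by
  induction l generalizing v with
  | nil => exact hl ▸ h
  | cons x l ih =>
    refine ih hl.2 (fun q => ?_) (good_step (fun q => ?_) (hl.1.symm ▸ h))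
    · exact (List.cons.inj (hfix q)).2
    · exact (List.cons.inj (hfix q)).1

theorem isRealizedBy : F.IsRealizedBy (ι F) := by
  refine ⟨ι_injective, fun P hP φ hv => ⟨fun h => exists_conj_of_mem h, ?_⟩⟩
  rintro ⟨⟨g, hg⟩, hconj⟩
  have hl : ∀ x : P, aut F (L S ⟨φ x, hv x⟩) g.left = g.left ∧
      L S ⟨φ x, hv x⟩ * g.right = g.right * L S ⟨x, hP x.2⟩ := by
    intro x
    have h := hconj x
    rw [eq_mul_inv_iff_mul_eq] at h
    have h1 := congrArg (fun z : G F => (z : A F).left) h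
    have h2 := congrArg (fun z : G F => (z : A F).right) h
    refine ⟨?_, h2⟩
    change 1 * aut F (L S ⟨φ x, hv x⟩) g.left = g.left * aut F g.right 1 at h1
    rwa [one_mul, map_one, mul_one] at h1
  have hQ : φ.range ≤ S := by rintro _ ⟨x, rfl⟩; exact hv x
  have hfix : ∀ q : φ.range, g.left.toWord.map (act (L S ⟨q, hQ q.2⟩)) = g.left.toWord := by
    rintro ⟨_, x, rfl⟩
    rw [← toWord_aut, (hl x).1]
  have h0 : Good F φ.range hQ (v₀ S) := ⟨1, φ.range.subtype, subtype_mem F hQ, rfl, fun q => by simp⟩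
  have hend : Good F φ.range hQ ((g.right : H S) : V S) := by
    have h := good_path (show IsPath (v₀ S) g.left.toWord (g.right • v₀ S) from hg) hfix h0
    rwa [show g.right • v₀ S = ((g.right : H S) : V S) from congrArg _ (mul_one _)] at h
  obtain ⟨α, hα, he⟩ := hend.rep
  have hαφ : ∀ x : P, α ⟨φ x, ⟨x, rfl⟩⟩ = (x : Ω) := by
    intro x
    refine congrArg Subtype.val (L_injective (a₁ := ⟨_, apply_mem hα _⟩) (a₂ := ⟨x, hP x.2⟩) ?_)
    rw [he, mul_assoc]
    change g.right⁻¹ * (L S ⟨φ x, hv x⟩ * g.right) = _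
    rw [(hl x).2, inv_mul_cancel_left]
  have hr : α.range = P := by
    refine le_antisymm ?_ fun y hy => ⟨_, hαφ ⟨y, hy⟩⟩
    rintro _ ⟨⟨_, x, rfl⟩, rfl⟩
    rw [hαφ]
    exact x.2
  obtain ⟨χ, hχ, -, hχl, -⟩ := exists_inv hα hr
  refine hom_congr hχ fun x => ?_
  exact (hχl ⟨φ x, ⟨x, rfl⟩⟩ (by rw [hαφ]; exact x.2)).symm.trans (congrArg χ (Subtype.ext (hαφ x)))

theorem finite_conj (K : Subgroup (G F)) (hK : Finite K) :
    ∃ g : G F, ∀ h ∈ K, g * h * g⁻¹ ∈ (ι F).range := by
  let π : K →* Equiv.Perm (E F) :=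
    (πE F).comp (SemidirectProduct.rightHom.comp ((G F).subtype.comp K.subtype))
  obtain ⟨u, ⟨b, hu⟩, hfix⟩ := exists_fixed π (fun k => ((k : G F) : A F).left)
    (fun k l => SemidirectProduct.mul_left _ _) {u | ∃ b, IsPath (v₀ S) u.toWord b}
    ⟨v₀ S, by rw [FreeGroup.toWord_one]; rfl⟩
    (fun k x ⟨b, hb⟩ => ⟨((k : G F) : A F).right • b, isPath_mul (k : G F).2 (by
      show IsPath _ (aut F ((k : G F) : A F).right x).toWord _
      rw [toWord_aut]
      exact isPath_act _ hb)⟩)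
    (fun x ⟨a, ha⟩ y ⟨c, hc⟩ i => by
      have hxy : IsPath a (x⁻¹ * y).toWord c := isPath_mul (by
        rw [FreeGroup.toWord_inv]; exact isPath_invRev ha) hc
      rw [← List.take_append_drop i (x⁻¹ * y).toWord] at hxy
      obtain ⟨d, hd, -⟩ := isPath_append.1 hxy
      refine ⟨d, ?_⟩
      rw [FreeGroup.toWord_mul, FreeGroup.toWord_mk]
      exact isPath_reduce (isPath_append.2 ⟨a, ha, isPath_reduce hd⟩))
  induction b using QuotientGroup.induction_on with
  | H a =>
  let g : A F := ⟨u, a⟩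
  have hg : g ∈ G F := by
    show IsPath (v₀ S) u.toWord (a • v₀ S)
    rwa [show a • v₀ S = ((a : H S) : V S) from congrArg _ (mul_one _)]
  refine ⟨⟨g, hg⟩⁻¹, fun k hk => ?_⟩
  have hw : ((k : A F).left * aut F (k : A F).right u) = u := hfix ⟨k, hk⟩
  have hend : IsPath (v₀ S) u.toWord ((k : A F).right • ((a : H S) : V S)) := by
    have h := isPath_mul k.2 (show IsPath _ (aut F (k : A F).right u).toWord _ by
      rw [toWord_aut]; exact isPath_act _ hu)
    rwa [hw] at h
  obtain ⟨s, hs⟩ := QuotientGroup.eq.1 (isPath_unique hu hend)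
  refine ⟨s, ?_⟩
  rw [inv_inv, mul_assoc, eq_inv_mul_iff_mul_eq]
  apply Subtype.ext
  apply SemidirectProduct.ext
  · show u * aut F a 1 = (k : A F).left * aut F (k : A F).right u
    rw [map_one, mul_one, hw]
  · show a * L S s = (k : A F).right * a
    rw [hs, mul_inv_cancel_left]
    rfl

/-- The projection to `Sym(S)`. -/
def toPerm (F : FusionSystem S) : G F →* H S := SemidirectProduct.rightHom.comp (G F).subtype

theorem isFreeGroup_ker : IsFreeGroup (toPerm F).ker := by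
  let f : (toPerm F).ker →* FreeGroup (E F) :=
    { toFun := fun n => ((n : G F) : A F).left
      map_one' := rfl
      map_mul' := fun m n => by
        show (((m : G F) : A F) * ((n : G F) : A F)).left = _
        rw [SemidirectProduct.mul_left, show ((m : G F) : A F).right = 1 from m.2, map_one, MulAut.one_apply] }
  have hf : Function.Injective f := fun m n h => Subtype.ext (Subtype.ext
    (SemidirectProduct.ext h ((show ((m : G F) : A F).right = 1 from m.2).trans
      (show ((n : G F) : A F).right = 1 from n.2).symm)))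
  exact IsFreeGroup.ofMulEquiv (MonoidHom.ofInjective hf).symm

theorem index_ker_dvd : (toPerm F).ker.index ∣ (Nat.card S).factorial := by
  rw [Subgroup.index_ker, ← Nat.card_perm]
  exact Subgroup.card_subgroup_dvd_card _

end Cfsg.Agent.Lib.FusionEssential.TreeRealization
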